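import Cfsg.Agent.Golay.FixedPoints
import Cfsg.Agent.Steiner.Inter

/-!
Subgroups of index 253 in a point stabiliser of `Cfsg.M24`.
-/

set_option autoImplicit false

namespace Cfsg.Agent.Golay

open Cfsg
open scoped Pointwise

theorem five_words_fix_seven : ∀ v ∈ transWords.getD 5 [], ∀ w ∈ transWords.getD 6 [],
    (∀ p, wordFun v (wordFun w p) = p) ∨
      (Finset.univ.filter fun p => wordFun v (wordFun w p) = p).card ≤ 6 ∨
      (Finset.univ.filter fun p => wordFun v (wordFun w p) = p) = oct0 := by
  decide +kernel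

/-- A nontrivial element fixing at least seven points fixes exactly an octad. -/
theorem fixSet_mem_octads {g : Equiv.Perm GolayPt} (hg : g ∈ M24) (h1 : g ≠ 1)
    (h : 7 ≤ (fixSet g).card) : fixSet g ∈ octads := by
  obtain ⟨a, ha, hc⟩ := exists_conj_chainStab_five hg (by omega)
  obtain ⟨v, hv, hve⟩ := trans_cover 5 (by norm_num) _ (isTarget_apply (by norm_num) hc)
  obtain ⟨u, hu, eu⟩ := exists_wordPerm (trans_fix 5 (by norm_num) v hv)
  have h6 : u⁻¹ * (a * g * a⁻¹) ∈ chainStab M24 6 := by
    refine Subgroup.mem_inf.mpr ⟨mul_mem (inv_mem hu) hc, ?_⟩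
    rw [MulAction.mem_stabilizer_iff, mul_smul, inv_smul_eq_iff]
    show (a * g * a⁻¹) (basePt 5) = u (basePt 5)
    rw [eu, hve]
  obtain ⟨w, hw, ew⟩ := eq_wordFun_of_six h6
  have hcfun : ∀ p, (a * g * a⁻¹) p = wordFun v (wordFun w p) := fun p => by
    rw [← ew, ← eu]; simp
  have he : fixSet (a * g * a⁻¹) = Finset.univ.filter fun p => wordFun v (wordFun w p) = p := by
    ext p
    rw [mem_fixSet, hcfun, Finset.mem_filter]
    simp
  rcases five_words_fix_seven v hv w hw with h' | h' | h'
  · exact absurd (conj_eq_one_iff.mp (Equiv.ext fun p => (hcfun p).trans (h' p))) h1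
  · rw [← he, fixSet_conj] at h'
    omega
  · have hcfix : fixSet (a * g * a⁻¹) = a • fixSet g := by
      ext p
      rw [← Finset.inv_smul_mem_iff, mem_fixSet, mem_fixSet, Equiv.Perm.smul_def,
        Equiv.Perm.mul_apply, Equiv.Perm.mul_apply, Equiv.Perm.coe_inv, Equiv.eq_symm_apply]
    rw [← he, hcfix, ← eq_inv_smul_iff] at h'
    rw [h']
    exact smul_mem_octads (inv_mem ha) oct0_mem

/-- The permutation of an invariant set induced by an element of a subgroup. -/
def invHom {α : Type*} [Fintype α] [DecidableEq α] (H : Subgroup (Equiv.Perm α)) (O : Finset α)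
    (hinv : ∀ h ∈ H, ∀ t ∈ O, h t ∈ O) : H →* Equiv.Perm {t // t ∈ O} where
  toFun h :=
    { toFun := fun t => ⟨(h : Equiv.Perm α) t.1, hinv h h.2 t t.2⟩
      invFun := fun t => ⟨(h : Equiv.Perm α)⁻¹ t.1, hinv _ (inv_mem h.2) t t.2⟩
      left_inv := fun t => Subtype.ext (by simp)
      right_inv := fun t => Subtype.ext (by simp) }
  map_one' := Equiv.ext fun t => rfl
  map_mul' a b := Equiv.ext fun t => rfl

theorem invHom_apply {α : Type*} [Fintype α] [DecidableEq α] {H : Subgroup (Equiv.Perm α)}
    {O : Finset α} (hinv : ∀ h ∈ H, ∀ t ∈ O, h t ∈ O) (h : H) (t : {t // t ∈ O}) :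
    ((invHom H O hinv h) t).1 = (h : Equiv.Perm α) t.1 := rfl

theorem exists_fix_of_card_gt {α : Type*} [Fintype α] [DecidableEq α]
    {H : Subgroup (Equiv.Perm α)} {O : Finset α} (hinv : ∀ h ∈ H, ∀ t ∈ O, h t ∈ O)
    (h : O.card.factorial < Nat.card H) : ∃ g ∈ H, g ≠ 1 ∧ ∀ t ∈ O, g t = t := by
  by_contra hne
  have hinj : Function.Injective (invHom H O hinv) := by
    rw [injective_iff_map_eq_one]
    intro g hg
    by_contra hg1
    refine hne ⟨g, g.2, fun e => hg1 (Subtype.ext e), fun t ht => ?_⟩
    have := congrArg Subtype.val (Equiv.ext_iff.mp hg ⟨t, ht⟩)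
    exact this
  have := Nat.card_le_card_of_injective _ hinj
  rw [Nat.card_perm, Nat.card_eq_finsetCard] at this
  omega

theorem orbit_253_sizes : ∀ m < 24, 40320 % m = 0 → m % 7 ≤ 2 → m % 5 ≤ 3 →
    m = 1 ∨ m = 2 ∨ m = 7 ∨ m = 8 ∨ (15 ≤ m ∧ m ≤ 21) := by
  intro m hm h1 h2 h3
  interval_cases m <;> omega

/-- A subgroup of order 40320 of a point stabiliser stabilises a duad or an octad through the
point. -/
theorem order_40320_stabilises {H : Subgroup (Equiv.Perm GolayPt)} (hle : H ≤ M24)
    {x : GolayPt} (hx : ∀ h ∈ H, h x = x) (hc : Nat.card H = 40320) :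
    (∃ s : Finset GolayPt, s.card = 2 ∧ x ∉ s ∧ ∀ h ∈ H, h • s = s) ∨
      ∃ o ∈ octads, x ∈ o ∧ ∀ h ∈ H, h • o = o := by
  classical
  set T : Finset GolayPt := {x}ᶜ with hT
  have hTc : T.card = 23 := by rw [hT, Finset.card_compl, card_golayPt, Finset.card_singleton]
  have hTinv : ∀ h ∈ H, ∀ t ∈ T, h t ∈ T := by
    intro h hh t ht
    simp only [hT, Finset.mem_compl, Finset.mem_singleton] at ht ⊢
    exact fun e => ht (h.injective (e.trans (hx h hh).symm))
  have hsmul : ∀ {O : Finset GolayPt}, (∀ h ∈ H, ∀ t ∈ O, h t ∈ O) → ∀ h ∈ H, h • O = O := by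
    intro O hO h hh
    refine Finset.eq_of_subset_of_card_le ?_ (le_of_eq (Finset.card_smul_finset _ _).symm)
    intro p hp
    obtain ⟨q, hq, rfl⟩ := Finset.mem_smul_finset.mp hp
    exact hO h hh q hq
  obtain ⟨g7, hg7⟩ : ∃ g : H, orderOf g = 7 := by
    have : Fact (Nat.Prime 7) := ⟨by norm_num⟩
    exact exists_prime_orderOf_dvd_card' 7 (by rw [hc]; norm_num)
  obtain ⟨g5, hg5⟩ : ∃ g : H, orderOf g = 5 := by
    have : Fact (Nat.Prime 5) := ⟨by norm_num⟩
    exact exists_prime_orderOf_dvd_card' 5 (by rw [hc]; norm_num)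
  rw [← Subgroup.orderOf_coe] at hg7 hg5
  have hsize : ∀ a ∈ T, (orbitFin H a).card = 1 ∨ (orbitFin H a).card = 2 ∨
      (orbitFin H a).card = 7 ∨ (orbitFin H a).card = 8 ∨
      (15 ≤ (orbitFin H a).card ∧ (orbitFin H a).card ≤ 21) := by
    intro a ha
    have hsub := orbitFin_subset hTinv ha
    have hxn : x ∉ orbitFin H a := fun h => by simpa [hT] using hsub h
    have h7 : (orbitFin H a).card % 7 + 1 ≤ 3 := by
      have : Fact (Nat.Prime 7) := ⟨by norm_num⟩
      rw [← card_fixSet_eq (hle g7.2) (by norm_num) hg7 3 (by norm_num)]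
      simpa using orbit_mod_le (H := H) g7.2 hg7 a {x} (by simpa using ⟨hx _ g7.2, hxn⟩)
    have h5 : (orbitFin H a).card % 5 + 1 ≤ 4 := by
      have : Fact (Nat.Prime 5) := ⟨by norm_num⟩
      rw [← card_fixSet_eq (hle g5.2) (by norm_num) hg5 4 (by norm_num)]
      simpa using orbit_mod_le (H := H) g5.2 hg5 a {x} (by simpa using ⟨hx _ g5.2, hxn⟩)
    refine orbit_253_sizes _ ?_ (Nat.mod_eq_zero_of_dvd (hc ▸ card_orbitFin_dvd H a)) (by omega)
      (by omega)
    have := Finset.card_le_card hsub
    omega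
  have hinvO : ∀ a, ∀ h ∈ H, ∀ t ∈ orbitFin H a, h t ∈ orbitFin H a :=
    fun a h hh t ht => orbitFin_inv hh ht
  by_cases h2 : ∃ a ∈ T, (orbitFin H a).card = 2
  · obtain ⟨a, ha, hca⟩ := h2
    refine Or.inl ⟨_, hca, fun h => ?_, hsmul (hinvO a)⟩
    simpa [hT] using orbitFin_subset hTinv ha h
  by_cases h7 : ∃ a ∈ T, (orbitFin H a).card = 7
  · obtain ⟨a, ha, hca⟩ := h7
    obtain ⟨g, hg, hg1, hgfix⟩ := exists_fix_of_card_gt (hinvO a) (by
      rw [hca, hc]; decide)
    have hxn : x ∉ orbitFin H a := fun h => by simpa [hT] using orbitFin_subset hTinv ha h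
    have hsub : insert x (orbitFin H a) ⊆ fixSet g := by
      intro p hp
      rw [mem_fixSet]
      rcases Finset.mem_insert.mp hp with rfl | hp
      · exact hx g hg
      · exact hgfix p hp
    have hcs : (insert x (orbitFin H a)).card = 8 := by
      rw [Finset.card_insert_of_notMem hxn, hca]
    have ho := fixSet_mem_octads (hle hg) hg1 (by
      have := Finset.card_le_card hsub
      omega)
    have heq : insert x (orbitFin H a) = fixSet g :=
      Finset.eq_of_subset_of_card_le hsub (by rw [hcs, (mem_octads_iff.mp ho).2])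
    rw [← heq] at ho
    refine Or.inr ⟨_, ho, Finset.mem_insert_self _ _, hsmul fun h hh t ht => ?_⟩
    rcases Finset.mem_insert.mp ht with rfl | ht
    · rw [hx h hh]; exact Finset.mem_insert_self _ _
    · exact Finset.mem_insert_of_mem (hinvO a h hh t ht)
  by_cases h8 : ∃ a ∈ T, (orbitFin H a).card = 8
  · exfalso
    obtain ⟨a, ha, hca⟩ := h8
    set O := orbitFin H a with hO
    have hxn : x ∉ O := fun h => by simpa [hT] using orbitFin_subset hTinv ha h
    have hinj : Function.Injective (invHom H O (hinvO a)) := by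
      rw [injective_iff_map_eq_one]
      intro g hg
      by_contra hg1
      have h9 : (insert x O).card ≤ (fixSet (g : Equiv.Perm GolayPt)).card := by
        refine Finset.card_le_card fun p hp => mem_fixSet.mpr ?_
        rcases Finset.mem_insert.mp hp with rfl | hp
        · exact hx g g.2
        · exact congrArg Subtype.val (Equiv.ext_iff.mp hg ⟨p, hp⟩)
      rw [Finset.card_insert_of_notMem hxn, hca] at h9
      have := card_fixSet_le_eight (hle g.2) fun e => hg1 (Subtype.ext e)
      omega
    have hsurj : Function.Surjective (invHom H O (hinvO a)) :=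
      ((Nat.bijective_iff_injective_and_card _).mpr ⟨hinj, by
        rw [hc, Nat.card_perm, Nat.card_eq_finsetCard, hca]; decide⟩).2
    have htr : ∀ b c : {t // t ∈ O}, b ≠ c → ∃ o ∈ octads, x ∈ o ∧ b.1 ∉ o ∧ c.1 ∉ o ∧
        ∀ d : {t // t ∈ O}, d ≠ b → d ≠ c → d.1 ∈ o := by
      intro b c hbc
      obtain ⟨g, hg⟩ := hsurj (Equiv.swap b c)
      have hval : ∀ d : {t // t ∈ O}, (g : Equiv.Perm GolayPt) d.1 = (Equiv.swap b c d).1 :=
        fun d => congrArg Subtype.val (Equiv.ext_iff.mp hg d)
      have hg1 : (g : Equiv.Perm GolayPt) ≠ 1 := by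
        intro e
        have := hval b
        rw [e, Equiv.swap_apply_left, Equiv.Perm.one_apply] at this
        exact hbc (Subtype.ext this)
      have hin : ∀ d : {t // t ∈ O}, d ≠ b → d ≠ c →
          d.1 ∈ fixSet (g : Equiv.Perm GolayPt) := fun d h h' =>
        mem_fixSet.mpr (by rw [hval, Equiv.swap_apply_of_ne_of_ne h h'])
      have hsub : insert x ((O.erase b.1).erase c.1) ⊆ fixSet (g : Equiv.Perm GolayPt) := by
        intro p hp
        rcases Finset.mem_insert.mp hp with rfl | hp
        · exact mem_fixSet.mpr (hx g g.2)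
        · simp only [Finset.mem_erase] at hp
          exact hin ⟨p, hp.2.2⟩ (fun e => hp.2.1 (congrArg Subtype.val e))
            (fun e => hp.1 (congrArg Subtype.val e))
      have hc7 : (insert x ((O.erase b.1).erase c.1)).card = 7 := by
        rw [Finset.card_insert_of_notMem (by simp [hxn]),
          Finset.card_erase_of_mem (Finset.mem_erase.mpr
            ⟨fun e => hbc (Subtype.ext e).symm, c.2⟩),
          Finset.card_erase_of_mem b.2, hca]
      refine ⟨_, fixSet_mem_octads (hle g.2) hg1 (hc7 ▸ Finset.card_le_card hsub),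
        mem_fixSet.mpr (hx g g.2), ?_, ?_, hin⟩
      · rw [mem_fixSet, hval, Equiv.swap_apply_left]
        exact fun e => hbc (Subtype.ext e).symm
      · rw [mem_fixSet, hval, Equiv.swap_apply_right]
        exact fun e => hbc (Subtype.ext e)
    obtain ⟨s, hs, hsc⟩ := Finset.exists_subset_card_eq (s := O) (n := 3) (by omega)
    obtain ⟨b, c, e, hbc, hbe, hce, rfl⟩ := Finset.card_eq_three.mp hsc
    simp only [Finset.insert_subset_iff, Finset.singleton_subset_iff] at hs
    obtain ⟨o, ho, hxo, -, hcn, hin⟩ := htr ⟨b, hs.1⟩ ⟨c, hs.2.1⟩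
      (fun h => hbc (congrArg Subtype.val h))
    obtain ⟨o', ho', hxo', -, -, hin'⟩ := htr ⟨b, hs.1⟩ ⟨e, hs.2.2⟩
      (fun h => hbe (congrArg Subtype.val h))
    have hsub : insert x (((O.erase b).erase c).erase e) ⊆ o ∩ o' := by
      intro p hp
      rcases Finset.mem_insert.mp hp with rfl | hp
      · exact Finset.mem_inter.mpr ⟨hxo, hxo'⟩
      · simp only [Finset.mem_erase] at hp
        exact Finset.mem_inter.mpr
          ⟨hin ⟨p, hp.2.2.2⟩ (fun h => hp.2.2.1 (congrArg Subtype.val h))
              (fun h => hp.2.1 (congrArg Subtype.val h)),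
            hin' ⟨p, hp.2.2.2⟩ (fun h => hp.2.2.1 (congrArg Subtype.val h))
              (fun h => hp.1 (congrArg Subtype.val h))⟩
    have h6 : 5 ≤ (o ∩ o').card := by
      refine le_trans ?_ (Finset.card_le_card hsub)
      rw [Finset.card_insert_of_notMem (by simp [hxn]),
        Finset.card_erase_of_mem (by simp [Ne.symm hce, Ne.symm hbe, hs.2.2]),
        Finset.card_erase_of_mem (by simp [Ne.symm hbc, hs.2.1]),
        Finset.card_erase_of_mem hs.1, hca]
      all_goals omega
    rw [octad_eq_of_five ho ho' h6] at hcn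
    exact hcn (hin' ⟨c, hs.2.1⟩ (fun h => hbc (congrArg Subtype.val h).symm)
      (fun h => hce (congrArg Subtype.val h)))
  have hsize' : ∀ a ∈ T, (orbitFin H a).card = 1 ∨
      (15 ≤ (orbitFin H a).card ∧ (orbitFin H a).card ≤ 21) := by
    intro a ha
    rcases hsize a ha with h | h | h | h | h
    · exact Or.inl h
    · exact absurd ⟨a, ha, h⟩ h2
    · exact absurd ⟨a, ha, h⟩ h7
    · exact absurd ⟨a, ha, h⟩ h8
    · exact Or.inr h
  have hfixed : ∀ a, (orbitFin H a).card = 1 → ∀ h ∈ H, h a = a := by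
    intro a h1 h hh
    obtain ⟨z, hz⟩ := Finset.card_eq_one.mp h1
    have e1 : a ∈ ({z} : Finset GolayPt) := hz ▸ self_mem_orbitFin H a
    have e2 : h a ∈ ({z} : Finset GolayPt) := hz ▸ orbitFin_inv hh (self_mem_orbitFin H a)
    rw [Finset.mem_singleton] at e1 e2
    rw [e2, e1]
  have hrest : ∃ b c, b ≠ c ∧ b ∈ T ∧ c ∈ T ∧ (orbitFin H b).card = 1 ∧
      (orbitFin H c).card = 1 := by
    by_cases hbig : ∃ a ∈ T, 15 ≤ (orbitFin H a).card
    · obtain ⟨a, ha, hb⟩ := hbig
      have hle21 : (orbitFin H a).card ≤ 21 := by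
        rcases hsize' a ha with h | h <;> omega
      have hsub := orbitFin_subset hTinv ha
      have hout : ∀ b ∈ T \ orbitFin H a, (orbitFin H b).card = 1 := by
        intro b hb'
        rw [Finset.mem_sdiff] at hb'
        rcases hsize' b hb'.1 with h | h
        · exact h
        · exfalso
          have hd : Disjoint (orbitFin H a) (orbitFin H b) := by
            rw [Finset.disjoint_left]
            intro t h1 h2
            exact hb'.2 (by
              rw [← orbitFin_eq_of_mem h1, orbitFin_eq_of_mem h2]; exact self_mem_orbitFin H b)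
          have := Finset.card_le_card
            (Finset.union_subset hsub (orbitFin_subset hTinv hb'.1))
          rw [Finset.card_union_of_disjoint hd] at this
          omega
      obtain ⟨b, hb1, c, hc1, hne⟩ := Finset.one_lt_card.mp (show 1 < (T \ orbitFin H a).card by
        rw [Finset.card_sdiff_of_subset hsub]; omega)
      exact ⟨b, c, hne, (Finset.mem_sdiff.mp hb1).1, (Finset.mem_sdiff.mp hc1).1, hout b hb1,
        hout c hc1⟩
    · obtain ⟨b, hb1, c, hc1, hne⟩ := Finset.one_lt_card.mp (show 1 < T.card by omega)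
      refine ⟨b, c, hne, hb1, hc1, ?_, ?_⟩
      · exact (hsize' b hb1).resolve_right fun h => hbig ⟨b, hb1, h.1⟩
      · exact (hsize' c hc1).resolve_right fun h => hbig ⟨c, hc1, h.1⟩
  obtain ⟨b, c, hne, hb, hc', hb1, hc1⟩ := hrest
  refine Or.inl ⟨{b, c}, Finset.card_pair hne, ?_, hsmul fun h hh t ht => ?_⟩
  · simp [hT] at hb hc' ⊢
    exact ⟨Ne.symm hb, Ne.symm hc'⟩
  · rcases Finset.mem_insert.mp ht with rfl | ht
    · rw [hfixed _ hb1 h hh]; exact Finset.mem_insert_self _ _
    · rw [Finset.mem_singleton] at ht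
      rw [ht, hfixed _ hc1 h hh]
      simp

theorem exists_move_octad_point {x : GolayPt} {o o' : Finset GolayPt} (ho : o ∈ octads)
    (ho' : o' ∈ octads) (hx : x ∈ o) (hx' : x ∈ o') : ∃ g ∈ M24, g x = x ∧ g • o = o' := by
  have emb : ∀ {u : Finset GolayPt}, u ∈ octads → x ∈ u →
      ∃ e : Fin 5 ↪ GolayPt, e 0 = x ∧ ∀ i, e i ∈ u := by
    intro u hu hxu
    obtain ⟨w⟩ := Function.Embedding.nonempty_of_card_le (α := Fin 5) (β := u)
      (by rw [Fintype.card_fin, Fintype.card_coe, (mem_octads_iff.mp hu).2]; norm_num)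
    exact ⟨(w.trans (Equiv.swap (w 0) ⟨x, hxu⟩).toEmbedding).trans
      (Function.Embedding.subtype _), by simp, fun i => Subtype.prop _⟩
  obtain ⟨e, he0, he⟩ := emb ho hx
  obtain ⟨f, hf0, hf⟩ := emb ho' hx'
  obtain ⟨g, hg, hgf⟩ := exists_five e f
  refine ⟨g, hg, ?_, octad_eq_of_five (smul_mem_octads hg ho) ho' ?_⟩
  · have := hgf 0
    rwa [he0, hf0] at this
  · refine le_trans (le_of_eq (by simp : 5 = (Finset.univ.map f).card)) (Finset.card_le_card ?_)
    intro p hp
    obtain ⟨i, -, rfl⟩ := Finset.mem_map.mp hp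
    exact Finset.mem_inter.mpr ⟨hgf i ▸ Finset.smul_mem_smul_finset (he i), hf i⟩

theorem index_253_classification (x : GolayPt) (H : Subgroup (MulAction.stabilizer M24 x))
    (hH : H.index = 253) :
    (∃ s : Finset GolayPt, s.card = 2 ∧ x ∉ s ∧
        H = (MulAction.stabilizer M24 s).subgroupOf (MulAction.stabilizer M24 x)) ∨
      ∃ o ∈ octads, x ∈ o ∧
        H = (MulAction.stabilizer M24 o).subgroupOf (MulAction.stabilizer M24 x) := by
  classical
  set K := (H.map (MulAction.stabilizer M24 x).subtype).map M24.subtype with hK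
  have hcH : Nat.card H = 40320 := by
    have := Subgroup.index_mul_card H
    rw [hH, card_stabilizer_point] at this
    omega
  have hcK : Nat.card K = 40320 := by
    rw [hK, Subgroup.card_map_of_injective M24.subtype_injective,
      Subgroup.card_map_of_injective (Subgroup.subtype_injective _), hcH]
  have hKle : K ≤ M24 := by
    rintro _ ⟨g, -, rfl⟩; exact g.2
  have hKx : ∀ h ∈ K, h x = x := by
    rintro _ ⟨g, ⟨u, -, rfl⟩, rfl⟩; exact u.2
  have hmem : ∀ h : MulAction.stabilizer M24 x, h ∈ H → ((h : M24) : Equiv.Perm GolayPt) ∈ K :=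
    fun h hh => ⟨h, ⟨h, hh, rfl⟩, rfl⟩
  have hfinish : ∀ (u : Finset GolayPt), (∀ h ∈ K, h • u = u) →
      (MulAction.orbit (MulAction.stabilizer M24 x) u).ncard = 253 →
      H = (MulAction.stabilizer M24 u).subgroupOf (MulAction.stabilizer M24 x) := by
    intro u hu horb
    have e : (MulAction.stabilizer M24 u).subgroupOf (MulAction.stabilizer M24 x) =
        MulAction.stabilizer (MulAction.stabilizer M24 x) u := rfl
    rw [e]
    refine Subgroup.eq_of_le_of_card_ge (fun h hh => hu _ (hmem h hh)) (le_of_eq ?_)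
    have := Subgroup.index_mul_card (MulAction.stabilizer (MulAction.stabilizer M24 x) u)
    rw [MulAction.index_stabilizer, horb, card_stabilizer_point] at this
    omega
  rcases order_40320_stabilises hKle hKx hcK with ⟨s, hs, hxs, hfix⟩ | ⟨o, ho, hxo, hfix⟩
  · refine Or.inl ⟨s, hs, hxs, hfinish s hfix ?_⟩
    have horb : MulAction.orbit (MulAction.stabilizer M24 x) s =
        ↑(Finset.powersetCard 2 ({x}ᶜ : Finset GolayPt)) := by
      ext t
      rw [Finset.mem_coe, Finset.mem_powersetCard]
      constructor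
      · rintro ⟨g, rfl⟩
        refine ⟨fun p hp => ?_, ?_⟩
        · obtain ⟨q, hq, rfl⟩ := Finset.mem_smul_finset.mp hp
          simp only [Finset.mem_compl, Finset.mem_singleton]
          intro e
          have hg : ((g : M24) : Equiv.Perm GolayPt) x = x := g.2
          exact hxs (((g : M24) : Equiv.Perm GolayPt).injective (e.trans hg.symm) ▸ hq)
        · exact (Finset.card_smul_finset ((g : M24) : Equiv.Perm GolayPt) s).trans hs
      · rintro ⟨hsub, htc⟩
        obtain ⟨a, b, hab, rfl⟩ := Finset.card_eq_two.mp hs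
        obtain ⟨c, d, hcd, rfl⟩ := Finset.card_eq_two.mp htc
        simp only [Finset.mem_insert, Finset.mem_singleton, not_or] at hxs
        simp only [Finset.insert_subset_iff, Finset.singleton_subset_iff, Finset.mem_compl,
          Finset.mem_singleton] at hsub
        let u : Fin 3 ↪ GolayPt := ⟨![x, a, b], by
          intro i j e
          fin_cases i <;> fin_cases j <;>
            first
            | rfl
            | exact absurd e hxs.1
            | exact absurd e hxs.2
            | exact absurd e hab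
            | exact absurd e.symm hxs.1
            | exact absurd e.symm hxs.2
            | exact absurd e.symm hab⟩
        let v : Fin 3 ↪ GolayPt := ⟨![x, c, d], by
          intro i j e
          fin_cases i <;> fin_cases j <;>
            first
            | rfl
            | exact absurd e.symm hsub.1
            | exact absurd e.symm hsub.2
            | exact absurd e hcd
            | exact absurd e hsub.1
            | exact absurd e hsub.2
            | exact absurd e.symm hcd⟩
        have h3 : MulAction.IsMultiplyPretransitive M24 GolayPt 3 :=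
          MulAction.isMultiplyPretransitive_of_le (n := 5) (by norm_num) (by simp)
        obtain ⟨g, hg⟩ := MulAction.exists_smul_eq M24 u v
        have e0 : (g : Equiv.Perm GolayPt) x = x := DFunLike.congr_fun hg 0
        have e1 : (g : Equiv.Perm GolayPt) a = c := DFunLike.congr_fun hg 1
        have e2 : (g : Equiv.Perm GolayPt) b = d := DFunLike.congr_fun hg 2
        refine ⟨⟨g, e0⟩, ?_⟩
        show (g : Equiv.Perm GolayPt) • ({a, b} : Finset GolayPt) = {c, d}
        rw [Finset.smul_finset_insert, Finset.smul_finset_singleton, Equiv.Perm.smul_def,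
          Equiv.Perm.smul_def, e1, e2]
    rw [horb, Set.ncard_coe_finset, Finset.card_powersetCard, Finset.card_compl, card_golayPt,
      Finset.card_singleton]
    decide
  · refine Or.inr ⟨o, ho, hxo, hfinish o hfix ?_⟩
    have horb : MulAction.orbit (MulAction.stabilizer M24 x) o =
        {t : Finset GolayPt | t ∈ octads ∧ x ∈ t} := by
      ext t
      constructor
      · rintro ⟨g, rfl⟩
        refine ⟨smul_mem_octads (g : M24).2 ho, ?_⟩
        have hg : ((g : M24) : Equiv.Perm GolayPt) x = x := g.2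
        show x ∈ ((g : M24) : Equiv.Perm GolayPt) • o
        have := Finset.smul_mem_smul_finset (a := ((g : M24) : Equiv.Perm GolayPt)) hxo
        rwa [Equiv.Perm.smul_def, hg] at this
      · rintro ⟨ht, hxt⟩
        obtain ⟨g, hg, hgx, hgo⟩ := exists_move_octad_point ho ht hxo hxt
        exact ⟨⟨⟨g, hg⟩, hgx⟩, hgo⟩
    rw [horb, SteinerCount.ncard_blocks octads (fun t => x ∈ t)]
    have h := SteinerCount.blocks_through 5 8 octads_isSteiner {x} (by simp)
    simp only [Finset.singleton_subset_iff, Finset.card_singleton, card_golayPt] at h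
    norm_num [Nat.choose] at h
    omega

end Cfsg.Agent.Golay
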