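import Cfsg.Agent.Golay.Mathieu

/-!
Bounds for the number of points fixed by elements of `Cfsg.M24`, and orbit-size restrictions for
subgroups containing elements of a given prime order.
-/

set_option autoImplicit false

namespace Cfsg.Agent.Golay

open Cfsg
open scoped Pointwise

/-- The fixed points of a permutation of the 24 points. -/
def fixSet (g : Equiv.Perm GolayPt) : Finset GolayPt := Finset.univ.filter fun p => g p = p

theorem mem_fixSet {g : Equiv.Perm GolayPt} {p : GolayPt} : p ∈ fixSet g ↔ g p = p := by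
  simp [fixSet]

theorem exists_conj_chainStab_five {g : Equiv.Perm GolayPt} (hg : g ∈ M24)
    (h : 5 ≤ (fixSet g).card) : ∃ a ∈ M24, a * g * a⁻¹ ∈ chainStab M24 5 := by
  obtain ⟨x⟩ := Function.Embedding.nonempty_of_card_le (α := Fin 5) (β := fixSet g)
    (by rw [Fintype.card_fin, Fintype.card_coe]; exact h)
  obtain ⟨a, ha, hab⟩ := exists_to_base_five (x.trans (Function.Embedding.subtype _))
  refine ⟨a, ha, mem_chainStab.mpr ⟨mul_mem (mul_mem ha hg) (inv_mem ha), fun j hj => ?_⟩⟩
  have hb : a (x ⟨j, hj⟩) = basePt j := hab ⟨j, hj⟩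
  rw [← hb, Equiv.Perm.mul_apply, Equiv.Perm.mul_apply, Equiv.Perm.coe_inv,
    Equiv.symm_apply_apply, mem_fixSet.mp (x ⟨j, hj⟩).2]

theorem pow_48_eq_one {g : Equiv.Perm GolayPt} (hg : g ∈ M24) (h : 5 ≤ (fixSet g).card) :
    g ^ 48 = 1 := by
  obtain ⟨a, -, hc⟩ := exists_conj_chainStab_five hg h
  have h1 : ((⟨_, hc⟩ : chainStab M24 5) ^ 48) = 1 := by
    rw [← (card_chainStab (H := M24) gen3_le le_rfl).2.2.2.2.2.1]
    exact pow_card_eq_one'
  have h2 : (a * g * a⁻¹) ^ 48 = 1 := congrArg Subtype.val h1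
  rwa [conj_pow, conj_eq_one_iff] at h2

/-- Elements of prime order at least five fix at most four points. -/
theorem card_fixSet_le_four {g : Equiv.Perm GolayPt} (hg : g ∈ M24) {p : ℕ} (hp : p.Prime)
    (hp5 : 5 ≤ p) (ho : orderOf g = p) : (fixSet g).card ≤ 4 := by
  by_contra h
  have hd : p ∣ 48 := ho ▸ orderOf_dvd_of_pow_eq_one (pow_48_eq_one hg (by omega))
  have hle : p ≤ 48 := Nat.le_of_dvd (by norm_num) hd
  interval_cases p <;> first | omega | (norm_num at hp)

theorem five_words_fix : ∀ v ∈ transWords.getD 5 [], ∀ w ∈ transWords.getD 6 [],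
    (∀ p, wordFun v (wordFun w p) = p) ∨
      (Finset.univ.filter fun p => wordFun v (wordFun w p) = p).card ≤ 8 := by
  decide +kernel

theorem fixSet_conj (a g : Equiv.Perm GolayPt) :
    (fixSet (a * g * a⁻¹)).card = (fixSet g).card := by
  have : fixSet (a * g * a⁻¹) = (fixSet g).image a := by
    ext p
    rw [mem_fixSet, Finset.mem_image, Equiv.Perm.mul_apply, Equiv.Perm.mul_apply]
    constructor
    · intro h
      refine ⟨a⁻¹ p, mem_fixSet.mpr ?_, by simp⟩
      rw [Equiv.Perm.coe_inv, Equiv.eq_symm_apply]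
      exact h
    · rintro ⟨q, hq, rfl⟩
      rw [Equiv.Perm.coe_inv, Equiv.symm_apply_apply, mem_fixSet.mp hq]
  rw [this, Finset.card_image_of_injective _ a.injective]

/-- A nontrivial element fixes at most eight points. -/
theorem card_fixSet_le_eight {g : Equiv.Perm GolayPt} (hg : g ∈ M24) (h1 : g ≠ 1) :
    (fixSet g).card ≤ 8 := by
  by_contra h
  obtain ⟨a, -, hc⟩ := exists_conj_chainStab_five hg (by omega)
  set c := a * g * a⁻¹ with hcdef
  obtain ⟨v, hv, hve⟩ := trans_cover 5 (by norm_num) _ (isTarget_apply (by norm_num) hc)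
  obtain ⟨u, hu, eu⟩ := exists_wordPerm (trans_fix 5 (by norm_num) v hv)
  have h6 : u⁻¹ * c ∈ chainStab M24 6 := by
    refine Subgroup.mem_inf.mpr ⟨mul_mem (inv_mem hu) hc, ?_⟩
    rw [MulAction.mem_stabilizer_iff, mul_smul, inv_smul_eq_iff]
    show c (basePt 5) = u (basePt 5)
    rw [eu, hve]
  obtain ⟨w, hw, ew⟩ := eq_wordFun_of_six h6
  have hcfun : ∀ p, c p = wordFun v (wordFun w p) := fun p => by
    rw [← ew, ← eu, ← Equiv.Perm.mul_apply, mul_inv_cancel_left]
  rcases five_words_fix v hv w hw with h' | h'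
  · refine h1 (conj_eq_one_iff.mp (hcdef ▸ ?_ : a * g * a⁻¹ = 1))
    exact Equiv.ext fun p => (hcfun p).trans (h' p)
  · have he : fixSet c = Finset.univ.filter fun p => wordFun v (wordFun w p) = p := by
      ext p; simp [fixSet, hcfun]
    rw [← he, hcdef, fixSet_conj] at h'
    omega

/-- An invariant set and the points fixed in it are congruent modulo the order. -/
theorem card_mod_fix {α : Type*} [Fintype α] [DecidableEq α] {g : Equiv.Perm α} {p : ℕ}
    [hp : Fact p.Prime] (ho : orderOf g = p) (O : Finset α) (hO : ∀ x ∈ O, g x ∈ O) :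
    O.card % p = (O.filter fun x => g x = x).card % p := by
  classical
  let σ : Function.End {x // x ∈ O} := fun x => ⟨g x.1, hO _ x.2⟩
  have hpow : ∀ (n : ℕ) (x : {x // x ∈ O}), ((σ ^ n) x).1 = (g ^ n) x.1 := by
    intro n
    induction n with
    | zero => intro x; rfl
    | succ n ih =>
      intro x
      rw [pow_succ, pow_succ]
      exact ih (σ x)
  have hσ : σ ^ p ^ 1 = 1 := by
    funext x
    refine Subtype.ext ?_
    rw [pow_one, hpow, ← ho, pow_orderOf_eq_one]
    rfl
  have h := Equiv.Perm.card_fixedPoints_modEq hσ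
  rw [Fintype.card_coe] at h
  refine Eq.trans h (congrArg (· % p) ?_)
  rw [← Fintype.card_coe]
  exact Fintype.card_congr
    { toFun := fun x => ⟨x.1.1, Finset.mem_filter.mpr ⟨x.1.2, congrArg Subtype.val x.2⟩⟩
      invFun := fun x => ⟨⟨x.1, (Finset.mem_filter.mp x.2).1⟩,
        Subtype.ext (Finset.mem_filter.mp x.2).2⟩
      left_inv := fun _ => rfl
      right_inv := fun _ => rfl }

/-- The total number of fixed points of an element of prime order at least five. -/
theorem card_fixSet_eq {g : Equiv.Perm GolayPt} (hg : g ∈ M24) {p : ℕ} [hp : Fact p.Prime]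
    (hp5 : 5 ≤ p) (ho : orderOf g = p) (k : ℕ) (hk : 24 % p = k) :
    (fixSet g).card = k := by
  have h := card_mod_fix (g := g) ho Finset.univ (fun x _ => Finset.mem_univ _)
  rw [Finset.card_univ, card_golayPt, hk] at h
  have h4 := card_fixSet_le_four hg hp.out hp5 ho
  have e : (Finset.univ.filter fun x => g x = x) = fixSet g := rfl
  rw [e, Nat.mod_eq_of_lt (by omega)] at h
  exact h.symm

/-- The orbit of a point under a subgroup, as a finite set. -/
noncomputable def orbitFin {α : Type*} [Fintype α] (H : Subgroup (Equiv.Perm α)) (x : α) :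
    Finset α := by
  classical exact Finset.univ.filter fun y => ∃ h ∈ H, h x = y

theorem mem_orbitFin {α : Type*} [Fintype α] {H : Subgroup (Equiv.Perm α)} {x y : α} :
    y ∈ orbitFin H x ↔ ∃ h ∈ H, h x = y := by
  classical simp [orbitFin]

theorem self_mem_orbitFin {α : Type*} [Fintype α] (H : Subgroup (Equiv.Perm α)) (x : α) :
    x ∈ orbitFin H x := mem_orbitFin.mpr ⟨1, one_mem _, rfl⟩

theorem orbitFin_inv {α : Type*} [Fintype α] {H : Subgroup (Equiv.Perm α)} {x y : α}
    {g : Equiv.Perm α} (hg : g ∈ H) (hy : y ∈ orbitFin H x) : g y ∈ orbitFin H x := by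
  obtain ⟨h, hh, rfl⟩ := mem_orbitFin.mp hy
  exact mem_orbitFin.mpr ⟨g * h, mul_mem hg hh, rfl⟩

theorem orbitFin_eq_of_mem {α : Type*} [Fintype α] {H : Subgroup (Equiv.Perm α)} {x y : α}
    (hy : y ∈ orbitFin H x) : orbitFin H y = orbitFin H x := by
  obtain ⟨h, hh, rfl⟩ := mem_orbitFin.mp hy
  ext z
  simp only [mem_orbitFin]
  constructor
  · rintro ⟨k, hk, rfl⟩; exact ⟨k * h, mul_mem hk hh, rfl⟩
  · rintro ⟨k, hk, rfl⟩; exact ⟨k * h⁻¹, mul_mem hk (inv_mem hh), by simp⟩

theorem card_eq_orbitFin_mul {α : Type*} [Fintype α] [DecidableEq α]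
    (H : Subgroup (Equiv.Perm α)) (x : α) :
    Nat.card H = (orbitFin H x).card *
      Nat.card ↥(H ⊓ MulAction.stabilizer (Equiv.Perm α) x) :=
  card_eq_orbit_mul H x _ (fun g hg => mem_orbitFin.mpr ⟨g, hg, rfl⟩)
    fun _ hy => mem_orbitFin.mp hy

theorem card_orbitFin_dvd {α : Type*} [Fintype α] [DecidableEq α]
    (H : Subgroup (Equiv.Perm α)) (x : α) : (orbitFin H x).card ∣ Nat.card H :=
  ⟨_, card_eq_orbitFin_mul H x⟩

theorem orbitFin_subset {α : Type*} [Fintype α] {H : Subgroup (Equiv.Perm α)} {T : Finset α}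
    (hinv : ∀ h ∈ H, ∀ t ∈ T, h t ∈ T) {x : α} (hx : x ∈ T) : orbitFin H x ⊆ T := by
  intro y hy
  obtain ⟨h, hh, rfl⟩ := mem_orbitFin.mp hy
  exact hinv h hh x hx

/-- An orbit is small modulo the order of an element of the subgroup. -/
theorem orbit_mod_le {H : Subgroup (Equiv.Perm GolayPt)} {g : Equiv.Perm GolayPt} (hgH : g ∈ H)
    {p : ℕ} [hp : Fact p.Prime] (ho : orderOf g = p) (x : GolayPt) (Z : Finset GolayPt)
    (hZ : ∀ z ∈ Z, g z = z ∧ z ∉ orbitFin H x) :
    (orbitFin H x).card % p + Z.card ≤ (fixSet g).card := by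
  rw [card_mod_fix ho (orbitFin H x) (fun y hy => orbitFin_inv hgH hy)]
  refine le_trans (Nat.add_le_add_right (Nat.mod_le _ _) _) ?_
  rw [← Finset.card_union_of_disjoint]
  · refine Finset.card_le_card fun z hz => mem_fixSet.mpr ?_
    rcases Finset.mem_union.mp hz with h | h
    · exact (Finset.mem_filter.mp h).2
    · exact (hZ z h).1
  · rw [Finset.disjoint_left]
    intro z h1 h2
    exact (hZ z h2).2 (Finset.mem_filter.mp h1).1

end Cfsg.Agent.Golay
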