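import Cfsg.Agent.AutCert.Generation
import Cfsg.Agent.FusionCrit.Normalizer

set_option autoImplicit false

/-!
Certificates for groups of permutations of the 24 points: a Sylow 2-subgroup given by a polycyclic
presentation, its centre of order two, a chain of fusions showing that the centre generates the
whole Sylow subgroup as a strongly closed subgroup, and a list of coset representatives of the
centraliser of the central involution showing that the Sylow subgroup is self-normalising.
-/

open Cfsg Cfsg.FusionSystem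

namespace Cfsg.Agent.Golay

open Cfsg.Agent.SchurCert Cfsg.Agent.AutCert

/-- The data. -/
structure FusCert where
  /-- The presentation. -/
  P : PC
  /-- The codes of the generators of the Sylow subgroup. -/
  gens : List ℕ
  /-- The central involution as a word in the generators. -/
  zW : List ℕ
  /-- The codes of the fusing elements. -/
  gs : List ℕ
  /-- Each step conjugates a product of known elements by a fusing element and gives the result as
  a word in the generators. -/
  steps : List (List ℕ × ℕ × List ℕ)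
  /-- Each generator as a product of known elements. -/
  last : List (List ℕ)

namespace FusCert

variable (F : FusCert)

/-- The part of the data shared with the multiplier certificates. -/
def toCert : SchurCert.Cert :=
  { P := F.P, gens := F.gens, gs := [], rows := [], beta := [], combo := [] }

/-- The known elements: the central involution and the results of the steps, as words. -/
def known : List (List ℕ) := F.zW :: F.steps.map fun s => s.2.2

/-- The code of a word in the generators. -/
def gimg (W : List ℕ) : ℕ := F.toCert.img permMul permOne W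

/-- The word in the generators of a product of known elements. -/
def flat (w : List ℕ) : List ℕ := w.flatMap fun k => F.known.getD k []

/-- The presentation holds. -/
def presOK : Bool := Nat.beq F.P.p 2 && F.P.wf && F.toCert.groupOK permMul permOne

/-- Only the central involution and the identity commute with all generators. -/
def centreOK : Bool :=
  Cert.below F.P.n F.zW && !Nat.beq (F.gimg F.zW) permOne &&
    ((List.range F.P.n).all fun i => Nat.beq (permMul (F.gimg F.zW) (F.gens.getD i permOne))
      (permMul (F.gens.getD i permOne) (F.gimg F.zW))) &&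
    (F.toCert.layer permMul permOne F.P.n).all fun x =>
      Nat.beq x permOne || Nat.beq x (F.gimg F.zW) ||
        (List.range F.P.n).any fun i => !Nat.beq (permMul x (F.gens.getD i permOne))
          (permMul (F.gens.getD i permOne) x)

/-- The fusions are right and reach all generators. -/
def fusOK : Bool :=
  F.known.all (Cert.below F.P.n) &&
  ((List.range F.steps.length).all fun t =>
    let s := F.steps.getD t ([], 0, [])
    s.1.all (fun k => Nat.blt k (t + 1)) &&
      Nat.beq (permMul (F.gs.getD s.2.1 permOne) (F.gimg (F.flat s.1)))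
        (permMul (F.gimg s.2.2) (F.gs.getD s.2.1 permOne))) &&
  (List.range F.P.n).all fun i =>
    (F.last.getD i []).all (fun k => Nat.blt k F.known.length) &&
      Nat.beq (F.gimg (F.flat (F.last.getD i []))) (F.gens.getD i permOne)

/-- The representatives: each is trivial or moves some generator out of the subgroup. -/
def repsOK (reps : List (ℕ × ℕ × ℕ)) : Bool :=
  reps.all fun r => validPair (r.1, r.2.1) && (Nat.beq r.1 permOne || (Nat.blt r.2.2 F.P.n &&
    !(F.toCert.layer permMul permOne F.P.n).any fun y =>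
      Nat.beq (permMul y r.1) (permMul r.1 (F.gens.getD r.2.2 permOne))))

/-- The list of the elements centralising the central involution. -/
def centList (reps : List (ℕ × ℕ × ℕ)) : List ℕ :=
  reps.flatMap fun r => (F.toCert.layer permMul permOne F.P.n).map (permMul r.1)

end FusCert

theorem exists_enc_layer {G : Type} [Group G] [Finite G] (C : Code G) (D : SchurCert.Cert)
    (hp : D.P.p.Prime) (gen : ℕ → G)
    (hgen : ∀ i < D.P.n, C.enc (gen i) = D.gens.getD i C.one)
    (hwf : D.P.wf = true) (hok : D.groupOK C.mul C.one = true) :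
    ∀ k ≤ D.P.n, (∀ x ∈ initGroup gen k, C.enc x ∈ D.layer C.mul C.one k) ∧
      ∀ c ∈ D.layer C.mul C.one k, ∃ x ∈ initGroup gen k, C.enc x = c := by
  have hsat := (card_initGroup_of_groupOK C D hp gen hgen hwf hok).1
  intro k
  induction k with
  | zero =>
    refine fun _ => ⟨fun x hx => ?_, fun c hc => ⟨1, one_mem _, ?_⟩⟩
    · rw [initGroup_zero, Subgroup.mem_bot] at hx
      subst hx
      simp [Cert.layer, C.enc_one]
    · simp only [Cert.layer, List.mem_singleton] at hc
      rw [C.enc_one, hc]
  | succ k ih =>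
    intro hk
    refine ⟨fun x hx => ?_, fun c hc => ?_⟩
    · obtain ⟨h, hh, e, he, rfl⟩ := exists_of_mem_succ hwf hsat hp.pos hk hx
      simp only [Cert.layer, List.mem_flatMap, List.mem_range, List.mem_map]
      exact ⟨e, he, C.enc h, (ih (Nat.le_of_succ_le hk)).1 h hh, by
        rw [C.enc_mul, enc_pow, hgen k hk]⟩
    · simp only [Cert.layer, List.mem_flatMap, List.mem_range, List.mem_map] at hc
      obtain ⟨e, -, a, ha, rfl⟩ := hc
      obtain ⟨h, hh, rfl⟩ := (ih (Nat.le_of_succ_le hk)).2 a ha
      refine ⟨h * gen k ^ e, mul_mem (initGroup_mono gen (Nat.le_succ k) hh)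
        (pow_mem (mem_initGroup gen (Nat.lt_succ_self k)) _), ?_⟩
      rw [C.enc_mul, enc_pow, hgen k hk]

section

variable {H : Subgroup (Equiv.Perm GolayPt)} (F : FusCert) (gen gsE : ℕ → H)

variable (hgen : ∀ i, (permCode H).enc (gen i) = F.gens.getD i permOne)
include hgen

theorem FusCert.enc_gimg (W : List ℕ) (h : ∀ x ∈ W, x < F.P.n) :
    (permCode H).enc (evalW gen W) = F.gimg W :=
  enc_evalW (permCode H) (D := F.toCert) (fun i _ => hgen i) W h

theorem FusCert.card_eq (hP : F.presOK = true) :
    Nat.card (initGroup gen F.P.n) = 2 ^ F.P.n := by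
  simp only [FusCert.presOK, Bool.and_eq_true] at hP
  have hp : F.P.p = 2 := Nat.eq_of_beq_eq_true hP.1.1
  have := (card_initGroup_of_groupOK (permCode H) F.toCert
    (show F.P.p.Prime from hp ▸ Nat.prime_two) gen (fun i _ => hgen i) hP.1.2 hP.2).2
  rwa [show F.toCert.P = F.P from rfl, hp] at this

theorem FusCert.mem_iff (hP : F.presOK = true) (x : H) :
    x ∈ initGroup gen F.P.n ↔ (permCode H).enc x ∈ F.toCert.layer permMul permOne F.P.n := by
  simp only [FusCert.presOK, Bool.and_eq_true] at hP
  have hp : F.P.p = 2 := Nat.eq_of_beq_eq_true hP.1.1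
  have h := exists_enc_layer (permCode H) F.toCert
    (show F.P.p.Prime from hp ▸ Nat.prime_two) gen (fun i _ => hgen i) hP.1.2 hP.2 F.P.n le_rfl
  refine ⟨h.1 x, fun hx => ?_⟩
  obtain ⟨y, hy, e⟩ := h.2 _ hx
  rwa [← (permCode H).enc_inj e]

/-- The central involution is the only nontrivial element of the centre. -/
theorem FusCert.eq_z_of_central (hP : F.presOK = true) (hC : F.centreOK = true) :
    evalW gen F.zW ∈ initGroup gen F.P.n ∧ evalW gen F.zW ≠ 1 ∧
      (∀ s ∈ initGroup gen F.P.n, s * evalW gen F.zW = evalW gen F.zW * s) ∧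
      ∀ x ∈ initGroup gen F.P.n, x ≠ 1 → (∀ s ∈ initGroup gen F.P.n, s * x = x * s) →
        x = evalW gen F.zW := by
  simp only [FusCert.centreOK, Bool.and_eq_true, List.all_eq_true, List.mem_range,
    Bool.or_eq_true, List.any_eq_true, Bool.not_eq_true'] at hC
  obtain ⟨⟨⟨hb, h1⟩, hcom⟩, hall⟩ := hC
  have hb' : ∀ x ∈ F.zW, x < F.P.n := mem_below hb
  have he := F.enc_gimg gen hgen F.zW hb'
  refine ⟨evalW_mem_initGroup gen _ hb', fun h => ?_, fun s hs => ?_, fun x hx hx1 hxc => ?_⟩
  · rw [h, (permCode H).enc_one] at he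
    rw [← he] at h1
    exact absurd h1 (by simp [permCode])
  · have hle : initGroup gen F.P.n ≤ Subgroup.centralizer {evalW gen F.zW} := by
      rw [initGroup, Subgroup.closure_le]
      rintro _ ⟨i, hi, rfl⟩
      rw [SetLike.mem_coe, Subgroup.mem_centralizer_singleton_iff]
      refine (permCode H).enc_inj ?_
      rw [(permCode H).enc_mul, (permCode H).enc_mul, he, hgen i]
      exact (Nat.eq_of_beq_eq_true (hcom i hi)).symm
    exact Subgroup.mem_centralizer_singleton_iff.1 (hle hs)
  · rcases hall _ ((F.mem_iff gen hgen hP x).1 hx) with (h | h) | ⟨i, hi, h⟩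
    · exact absurd ((permCode H).enc_inj
        ((Nat.eq_of_beq_eq_true h).trans (permCode H).enc_one.symm)) hx1
    · exact (permCode H).enc_inj ((Nat.eq_of_beq_eq_true h).trans he.symm)
    · have := congrArg (permCode H).enc (hxc (gen i) (mem_initGroup gen hi))
      rw [(permCode H).enc_mul, (permCode H).enc_mul, hgen i] at this
      change permMul _ _ = permMul _ _ at this
      rw [this, Nat.beq_refl] at h
      exact absurd h (by simp)

variable (hgs : ∀ i, (permCode H).enc (gsE i) = F.gs.getD i permOne)
include hgs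

/-- A subgroup of the Sylow subgroup containing the central involution and closed under fusion is
the whole Sylow subgroup. -/
theorem FusCert.le_of_closed (hf : F.fusOK = true) (Q : Subgroup H)
    (hz : evalW gen F.zW ∈ Q)
    (hcl : ∀ x ∈ Q, ∀ a : H, a * x * a⁻¹ ∈ initGroup gen F.P.n → a * x * a⁻¹ ∈ Q) :
    initGroup gen F.P.n ≤ Q := by
  simp only [FusCert.fusOK, Bool.and_eq_true, List.all_eq_true, List.mem_range,
    Nat.blt_eq] at hf
  obtain ⟨⟨hbel, hsteps⟩, hlast⟩ := hf
  have hflatlt : ∀ w : List ℕ, (∀ k ∈ w, k < F.known.length) →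
      ∀ x ∈ F.flat w, x < F.P.n := by
    intro w hw x hx
    obtain ⟨k, hk, hx⟩ := List.mem_flatMap.1 hx
    rw [List.getD_eq_getElem _ _ (hw k hk)] at hx
    exact mem_below (hbel _ (List.getElem_mem (hw k hk))) x hx
  have hflat : ∀ w : List ℕ, (∀ k ∈ w, evalW gen (F.known.getD k []) ∈ Q) →
      evalW gen (F.flat w) ∈ Q := by
    intro w
    induction w with
    | nil => intro _; exact one_mem Q
    | cons k w ih =>
      intro h
      rw [FusCert.flat, List.flatMap_cons, evalW_append]
      exact mul_mem (h k List.mem_cons_self) (ih fun j hj => h j (List.mem_cons_of_mem _ hj))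
  have hall : ∀ k < F.known.length, evalW gen (F.known.getD k []) ∈ Q := by
    intro k
    induction k using Nat.strong_induction_on with
    | _ k ih =>
      intro hk
      rcases k with _ | t
      · exact hz
      have hlen : F.known.length = F.steps.length + 1 := by simp [FusCert.known]
      have ht : t < F.steps.length := by omega
      obtain ⟨hw, he⟩ := hsteps t ht
      have hkn : F.known.getD (t + 1) [] = (F.steps.getD t ([], 0, [])).2.2 := by
        simp [FusCert.known, List.getD_eq_getElem?_getD, List.getElem?_eq_getElem ht]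
      rw [hkn]
      generalize F.steps.getD t ([], 0, []) = s at hw he hkn
      have hw' : ∀ j ∈ s.1, j < F.known.length := fun j hj => by
        have := hw j hj; omega
      have hq := hflat s.1 fun j hj => ih j (hw j hj) (hw' j hj)
      have hblt : ∀ x ∈ s.2.2, x < F.P.n := by
        rw [← hkn]
        rw [List.getD_eq_getElem _ _ (by omega)]
        exact mem_below (hbel _ (List.getElem_mem _))
      have heq : gsE s.2.1 * evalW gen (F.flat s.1) * (gsE s.2.1)⁻¹ = evalW gen s.2.2 := by
        rw [mul_inv_eq_iff_eq_mul]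
        refine (permCode H).enc_inj ?_
        rw [(permCode H).enc_mul, (permCode H).enc_mul, hgs,
          F.enc_gimg gen hgen _ (hflatlt _ hw'), F.enc_gimg gen hgen _ hblt]
        exact Nat.eq_of_beq_eq_true he
      exact heq ▸ hcl _ hq _ (heq ▸ evalW_mem_initGroup gen _ hblt)
  rw [initGroup, Subgroup.closure_le]
  rintro _ ⟨i, hi, rfl⟩
  obtain ⟨hw, he⟩ := hlast i hi
  have hq := hflat _ fun j hj => hall j (hw j hj)
  have : evalW gen (F.flat (F.last.getD i [])) = gen i := by
    refine (permCode H).enc_inj ?_
    rw [F.enc_gimg gen hgen _ (hflatlt _ hw), hgen i]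
    exact Nat.eq_of_beq_eq_true he
  exact this ▸ hq

end

/-- The Sylow subgroup is self-normalising, from a list covering the centraliser of the central
involution. -/
theorem FusCert.normalizer_le {H : Subgroup (Equiv.Perm GolayPt)} [Finite H] (F : FusCert)
    (gen : ℕ → H) (hgen : ∀ i, (permCode H).enc (gen i) = F.gens.getD i permOne)
    (hP : F.presOK = true) (hC : F.centreOK = true) (D : GenCert) (hD : D.check = true)
    (K : Subgroup (Equiv.Perm GolayPt))
    (hK : ∀ n : H, n ∈ Subgroup.normalizer ((initGroup gen F.P.n : Subgroup H) : Set H) → n.1 ∈ K)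
    (hstart : ∀ k < D.start, ∃ g ∈ K, encPerm g = D.val k) (hcard : Nat.card K = D.bound)
    (reps : List (ℕ × ℕ × ℕ)) (hreps : F.repsOK reps = true)
    (hcent : D.centOK (F.gimg F.zW) (F.centList reps) = true) :
    Subgroup.normalizer ((initGroup gen F.P.n : Subgroup H) : Set H) ≤ initGroup gen F.P.n := by
  intro n hn
  obtain ⟨hz, hz1, hzc, huniq⟩ := F.eq_z_of_central gen hgen hP hC
  set z := evalW gen F.zW
  have hn' := Subgroup.mem_normalizer_iff.1 hn
  have hfix : n * z * n⁻¹ = z := by
    refine huniq _ ((hn' z).1 hz) (fun h => hz1 ?_) fun s hs => ?_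
    · rwa [conj_eq_one_iff] at h
    · have hs' : n⁻¹ * s * n ∈ initGroup gen F.P.n := by
        refine (hn' _).2 ?_
        rwa [show n * (n⁻¹ * s * n) * n⁻¹ = s by group]
      calc s * (n * z * n⁻¹) = n * ((n⁻¹ * s * n) * z) * n⁻¹ := by group
        _ = n * (z * (n⁻¹ * s * n)) * n⁻¹ := by rw [hzc _ hs']
        _ = n * z * n⁻¹ * s := by group
  have hcomm : n.1 * z.1 = z.1 * n.1 := congrArg Subtype.val (mul_inv_eq_iff_eq_mul.1 hfix)
  have hb' : ∀ x ∈ F.zW, x < F.P.n := by
    simp only [FusCert.centreOK, Bool.and_eq_true] at hC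
    exact mem_below hC.1.1.1
  have hze : encPerm z.1 = F.gimg F.zW := F.enc_gimg gen hgen F.zW hb'
  have hmem := centOK_sound D hD hstart hcard (d := z.1) (L := F.centList reps)
    (hze.symm ▸ hcent) (hK n hn) hcomm
  simp only [FusCert.centList, List.mem_flatMap, List.mem_map] at hmem
  obtain ⟨r, hr, c, hc, he⟩ := hmem
  obtain ⟨y, hy⟩ : ∃ y ∈ initGroup gen F.P.n, (permCode H).enc y = c := by
    simp only [FusCert.presOK, Bool.and_eq_true] at hP
    have hp : F.P.p = 2 := Nat.eq_of_beq_eq_true hP.1.1
    exact (exists_enc_layer (permCode H) F.toCert (show F.P.p.Prime from hp ▸ Nat.prime_two) gen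
      (fun i _ => hgen i) hP.1.2 hP.2 F.P.n le_rfl).2 c hc
  simp only [FusCert.repsOK, List.all_eq_true, Bool.and_eq_true, Bool.or_eq_true,
    Bool.not_eq_true', Nat.blt_eq] at hreps
  obtain ⟨hv, hcase⟩ := hreps r hr
  have hr' : n.1 = permOfPair (r.1, r.2.1) * y.1 := by
    refine encPerm_injective ?_
    rw [encPerm_mul, encPerm_permOfPair hv, show encPerm y.1 = c from hy.2, ← he]
  rcases hcase with h | ⟨hi, h⟩
  · have h1 : permOfPair (r.1, r.2.1) = 1 := encPerm_injective
      ((encPerm_permOfPair hv).trans ((Nat.eq_of_beq_eq_true h).trans encPerm_one.symm))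
    rw [h1, one_mul] at hr'
    rw [Subtype.ext hr']
    exact hy.1
  · exfalso
    set i := r.2.2
    -- `m` is `n` times the inverse of `y`, which is the representative
    set m := n * y⁻¹ with hm
    have hmr : m.1 = permOfPair (r.1, r.2.1) := by
      rw [hm, Subgroup.coe_mul, Subgroup.coe_inv, hr', mul_inv_cancel_right]
    have hmn : m ∈ Subgroup.normalizer ((initGroup gen F.P.n : Subgroup H) : Set H) :=
      mul_mem hn (inv_mem (Subgroup.le_normalizer hy.1))
    have hw : m * gen i * m⁻¹ ∈ initGroup gen F.P.n :=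
      (Subgroup.mem_normalizer_iff.1 hmn _).1 (mem_initGroup gen hi)
    have hl := (F.mem_iff gen hgen hP _).1 hw
    rw [List.any_eq_false] at h
    clear_value m
    refine h _ hl ?_
    have e : m * gen i * m⁻¹ * m = m * gen i := inv_mul_cancel_right _ _
    generalize m * gen i * m⁻¹ = w at e ⊢
    have e' := congrArg (permCode H).enc e
    have hme : (permCode H).enc m = r.1 :=
      (congrArg encPerm hmr).trans (encPerm_permOfPair hv)
    rw [(permCode H).enc_mul, (permCode H).enc_mul, hme, hgen i] at e'
    exact (congrArg (fun q => Nat.beq q (permMul r.1 (F.gens.getD i permOne))) e').trans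
      (Nat.beq_refl _)

/-- The normalizer of a subgroup fixes every point that is its only fixed point in a set invariant
under the whole group. -/
theorem apply_eq_of_unique_fixed {H : Subgroup (Equiv.Perm GolayPt)} {P : Subgroup H} {n : H}
    (hn : n ∈ Subgroup.normalizer (P : Set H)) (a : GolayPt) (ha : ∀ s ∈ P, s.1 a = a)
    (huniq : ∀ x, (∀ s ∈ P, s.1 x = x) → x = a ∨ x = none) (hnone : n.1 none = none)
    (hne : a ≠ none) : n.1 a = a := by
  have hfix : ∀ s ∈ P, s.1 (n.1 a) = n.1 a := by
    intro s hs
    have hs' : n⁻¹ * s * n ∈ P := by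
      refine (Subgroup.mem_normalizer_iff.1 hn _).2 ?_
      rwa [show n * (n⁻¹ * s * n) * n⁻¹ = s by group]
    have := ha _ hs'
    rw [Subgroup.coe_mul, Subgroup.coe_mul, Subgroup.coe_inv, Equiv.Perm.mul_apply,
      Equiv.Perm.mul_apply, Equiv.Perm.inv_eq_iff_eq] at this
    exact this
  rcases huniq (n.1 a) hfix with h | h
  · exact h
  · exact absurd (n.1.injective (h.trans hnone.symm)) hne

open scoped Pointwise in
/-- The fusion system on any Sylow 2-subgroup is simple. -/
theorem isSimple_of_fusCert {H : Subgroup (Equiv.Perm GolayPt)} [Finite H] (F : FusCert)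
    (gen gsE : ℕ → H) (hgen : ∀ i, (permCode H).enc (gen i) = F.gens.getD i permOne)
    (hgs : ∀ i, (permCode H).enc (gsE i) = F.gs.getD i permOne)
    (hP : F.presOK = true) (hC : F.centreOK = true) (hf : F.fusOK = true)
    (hn : 0 < F.P.n) (hodd : ¬ 2 ∣ (initGroup gen F.P.n).index)
    (hself : Subgroup.normalizer ((initGroup gen F.P.n : Subgroup H) : Set H) ≤
      initGroup gen F.P.n)
    (S : Sylow 2 H) : (Cfsg.groupFusionSystem (S : Subgroup H)).IsSimple 2 := by
  haveI : Fact (Nat.Prime 2) := ⟨Nat.prime_two⟩
  set S₀ : Sylow 2 H := (IsPGroup.of_card (F.card_eq gen hgen hP)).toSylow hodd with hS₀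
  have hS₀c : (S₀ : Subgroup H) = initGroup gen F.P.n := rfl
  obtain ⟨g, hg⟩ := MulAction.exists_smul_eq H S₀ S
  have hmem : ∀ x : H, x ∈ (S : Subgroup H) ↔ g⁻¹ * x * g ∈ initGroup gen F.P.n := by
    intro x
    rw [← hg, Sylow.coe_subgroup_smul, Subgroup.mem_pointwise_smul_iff_inv_smul_mem,
      ← hS₀c, MulAut.smul_def, ← map_inv, MulAut.conj_apply, inv_inv]
  have hmem' : ∀ x : H, x ∈ initGroup gen F.P.n → g * x * g⁻¹ ∈ (S : Subgroup H) := fun x hx => by
    rw [hmem, show g⁻¹ * (g * x * g⁻¹) * g = x by group]
    exact hx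
  obtain ⟨hz, hz1, hzc, huniq⟩ := F.eq_z_of_central gen hgen hP hC
  set z := evalW gen F.zW
  refine FusionCrit.isSimple_of_normalizer_generation S ?_ ?_ ?_
  · intro h
    have := hmem' z hz
    rw [h, Subgroup.mem_bot, conj_eq_one_iff] at this
    exact hz1 this
  · intro T hT
    refine or_iff_not_imp_left.2 fun hT1 => le_antisymm hT.1 ?_
    obtain ⟨w, hw, hw1, hwc⟩ := FusionCrit.exists_central_of_stronglyClosed S hT hT1
    have hwz : g⁻¹ * w * g = z := by
      refine huniq _ ((hmem w).1 (hT.1 hw)) (fun h => hw1 ?_) fun s hs => ?_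
      · have : w = g * (g⁻¹ * w * g) * g⁻¹ := by group
        rw [this, h, mul_one, mul_inv_cancel]
      · have := hwc _ (hmem' s hs)
        calc s * (g⁻¹ * w * g) = g⁻¹ * ((g * s * g⁻¹) * w) * g := by group
          _ = g⁻¹ * (w * (g * s * g⁻¹)) * g := by rw [this]
          _ = g⁻¹ * w * g * s := by group
    let Q : Subgroup H := T.comap (MulAut.conj g).toMonoidHom
    have hQ : ∀ x : H, x ∈ Q ↔ g * x * g⁻¹ ∈ T := fun x => Iff.rfl
    have hle := F.le_of_closed gen gsE hgen hgs hf Q
      ((hQ _).2 (by
        show g * z * g⁻¹ ∈ T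
        rw [← hwz, show g * (g⁻¹ * w * g) * g⁻¹ = w by group]
        exact hw)) ?_
    · intro x hx
      have := (hQ _).1 (hle ((hmem x).1 hx))
      rwa [show g * (g⁻¹ * x * g) * g⁻¹ = x by group] at this
    · intro x hx a ha
      refine (hQ _).2 ?_
      have e : g * (a * x * a⁻¹) * g⁻¹ = (g * a * g⁻¹) * (g * x * g⁻¹) * (g * a * g⁻¹)⁻¹ := by
        group
      rw [e]
      exact FusionCrit.conj_mem_of_stronglyClosed S hT ((hQ x).1 hx) _ (e ▸ hmem' _ ha)
  · intro x hx
    refine Subgroup.subset_closure (FusionCrit.self_subset_goodSet S ?_)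
    have hx' := Subgroup.mem_normalizer_iff.1 hx
    refine (hmem x).2 (hself (Subgroup.mem_normalizer_iff.2 fun y => ⟨fun hy => ?_, fun hy => ?_⟩))
    · have := (hmem _).1 ((hx' _).1 (hmem' y hy))
      rwa [show g⁻¹ * (x * (g * y * g⁻¹) * x⁻¹) * g =
        g⁻¹ * x * g * y * (g⁻¹ * x * g)⁻¹ by group] at this
    · have h2 := hmem' _ hy
      rw [show g * (g⁻¹ * x * g * y * (g⁻¹ * x * g)⁻¹) * g⁻¹ = x * (g * y * g⁻¹) * x⁻¹ by group] at h2
      have := (hmem _).1 ((hx' _).2 h2)
      rwa [show g⁻¹ * (g * y * g⁻¹) * g = y by group] at this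

end Cfsg.Agent.Golay

namespace Cfsg.Agent.Golay

open Cfsg.Agent.SchurCert Cfsg.Agent.AutCert

/-- The start of a certificate without composite values is realised in a group containing all the
listed elements. -/
theorem start_mem_of_list {K : Subgroup (Equiv.Perm GolayPt)} (D : GenCert) (L : List (ℕ × ℕ))
    (hL : D.vals = L.map Prod.fst) (hlen : D.start = L.length) (hv : L.all validPair = true)
    (hmem : ∀ x ∈ L, permOfPair x ∈ K) : ∀ k < D.start, ∃ g ∈ K, encPerm g = D.val k := by
  intro k hk
  rw [hlen] at hk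
  refine ⟨permOfPair (L.getD k (permOne, permOne)), hmem _ ?_, ?_⟩
  · rw [List.getD_eq_getElem L _ hk]
    exact List.getElem_mem hk
  · rw [GenCert.val, hL, List.getD_eq_getElem L _ hk,
      List.getD_eq_getElem (L.map Prod.fst) _ (by simpa using hk), List.getElem_map]
    exact encPerm_permOfPair (List.all_eq_true.1 hv _ (List.getElem_mem hk))

/-- The index of the certified subgroup. -/
theorem odd_index_of_card {H : Subgroup (Equiv.Perm GolayPt)} (F : FusCert) (gen : ℕ → H)
    (hgen : ∀ i, (permCode H).enc (gen i) = F.gens.getD i permOne) (hP : F.presOK = true)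
    {N m : ℕ} (hN : Nat.card H = N) (h : N = m * 2 ^ F.P.n) (hm : ¬ 2 ∣ m) :
    ¬ 2 ∣ (initGroup gen F.P.n).index := by
  have h1 := Subgroup.index_mul_card (initGroup gen F.P.n)
  rw [F.card_eq gen hgen hP, hN, h] at h1
  rwa [Nat.eq_of_mul_eq_mul_right (by positivity) h1]

end Cfsg.Agent.Golay
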