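import Cfsg.Agent.Golay.MathieuSimple

/-!
The hexads on the dodecad of squares: a permutation preserving them agrees there with an element of
`Cfsg.Spor.M12`, and they are recognised by the order of their stabilisers.
-/

set_option autoImplicit false

namespace Cfsg.Agent.Golay

open Cfsg
open scoped Pointwise

/-- The intersections of size six of octads with the dodecad of squares. -/
def IsHexad (h : Finset GolayPt) : Prop :=
  ∃ o ∈ octads, h = o ∩ Spor.squareDodecad ∧ h.card = 6

theorem IsHexad.subset {h : Finset GolayPt} (hh : IsHexad h) : h ⊆ Spor.squareDodecad := by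
  obtain ⟨o, -, rfl, -⟩ := hh; exact Finset.inter_subset_right

theorem IsHexad.card {h : Finset GolayPt} (hh : IsHexad h) : h.card = 6 := by
  obtain ⟨o, -, -, hc⟩ := hh; exact hc

theorem IsHexad.smul {g : Equiv.Perm GolayPt} (hg : g ∈ Spor.M12) {h : Finset GolayPt}
    (hh : IsHexad h) : IsHexad (g • h) := by
  obtain ⟨o, ho, rfl, hc⟩ := hh
  refine ⟨g • o, smul_mem_octads hg.1 ho, ?_, by rw [Finset.card_smul_finset, hc]⟩
  rw [Finset.smul_finset_inter, show g • Spor.squareDodecad = Spor.squareDodecad from hg.2]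

theorem exists_hexad_five {s : Finset GolayPt} (hs : s ⊆ Spor.squareDodecad) (h5 : s.card = 5) :
    ∃ h, IsHexad h ∧ s ⊆ h ∧ ∀ h', IsHexad h' → s ⊆ h' → h' = h := by
  obtain ⟨o, ⟨ho, h6, hso⟩, huniq⟩ := existsUnique_hexad squareDodecad_mem' hs h5
  refine ⟨o ∩ Spor.squareDodecad, ⟨o, ho, rfl, h6⟩, Finset.subset_inter hso hs, ?_⟩
  rintro _ ⟨o', ho', rfl, hc'⟩ hs'
  rw [huniq o' ⟨ho', hc', hs'.trans Finset.inter_subset_left⟩]

/-- The 132 hexads as bit masks. -/
def hexList : List ℕ :=
  [343, 591, 797, 858, 4127, 4430, 4441, 4691, 4700, 4875, 4886, 4933, 8285, 8478, 8523, 8731, 8790, 8967, 9036, 9041, 12359, 12378, 12557, 12563, 12628, 12814, 12821, 12873, 13080, 13122, 65627, 65807, 65884, 66078, 66133, 66323, 66374, 66377, 69709, 69718, 69909, 69914, 69955, 70151, 70169, 70218, 70412, 70480, 73751, 73806, 74009, 74053, 74066, 74253, 74307, 74328, 74506, 74516, 77835, 77852, 77905, 78086, 78152, 78354, 78404, 78593, 262238, 262427, 262477, 262679, 262745, 262926, 262979, 262996, 266315, 266325, 266503, 266524, 266578,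 266765, 266778, 266822, 267025, 267080, 270351, 270419, 270613, 270662, 270680, 270876, 270917, 270922, 271113, 271122, 274454, 274457, 274508, 274698, 274753, 274947, 275024, 275204, 327709, 327751, 327958, 328010, 328017, 328203, 328268, 328274, 328453, 328472, 331790, 331795, 331864, 332041, 332100, 332308, 332353, 332546, 335898, 335945, 335956, 336131, 336140, 336390, 336401, 336704, 339973, 340034, 340240, 340488]

/-- Membership of a number in a list, for cheap kernel evaluation. -/
def memNat (x : ℕ) : List ℕ → Bool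
  | [] => false
  | y :: l => Nat.beq x y || memNat x l

theorem memNat_iff {x : ℕ} {l : List ℕ} : memNat x l = true ↔ x ∈ l := by
  induction l with
  | nil => simp [memNat]
  | cons y l ih => simp [memNat, ih]

theorem hexList_check : check4096 (fun k =>
    !(Nat.beq (pop24 (enc k)) 8 && Nat.beq (pop24 (enc k &&& 340831)) 6) ||
      memNat (enc k &&& 340831) hexList) = true := by
  decide +kernel

theorem squareDodecad_eq_bitSet : Spor.squareDodecad = bitSet 340831 := by decide +kernel

theorem bitSet_land (a b : ℕ) : bitSet a ∩ bitSet b = bitSet (a &&& b) := by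
  ext p; simp [bitSet]

theorem bitSet_injective {a b : ℕ} (ha : a < 2 ^ 24) (hb : b < 2 ^ 24)
    (h : bitSet a = bitSet b) : a = b :=
  ofBits_inj ha hb (support₂_injective (by rw [← bitSet_eq, ← bitSet_eq, h]))

theorem isHexad_mask {m : ℕ} (hm : m < 2 ^ 24) (h : IsHexad (bitSet m)) :
    memNat m hexList = true := by
  obtain ⟨o, ho, e, hc⟩ := h
  rw [mem_octads_iff] at ho
  obtain ⟨k, hk, ek⟩ := (mem_golayCode_iff _).mp ho.1
  have hs : o = bitSet (enc k) := by rw [bitSet_eq, ← ek, support₂_indWord]
  subst hs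
  rw [squareDodecad_eq_bitSet, bitSet_land] at e
  have := bitSet_injective hm (lt_of_le_of_lt Nat.and_le_left (enc_lt hk)) e
  subst this
  have hchk := of_check4096 hexList_check hk
  rw [card_bitSet] at ho hc
  rw [ho.2, hc] at hchk
  simpa using hchk

/-- The six points of the dodecad outside the hexad through five of its first points. -/
def hexRest : List ℕ := [6, 8, 9, 13, 16, 18]

/-- Hexads refuting each nontrivial permutation of `hexRest`. -/
def hexTests : List ℕ := [343, 4700, 8478, 65627]

/-- The image of a point below 24 when `hexRest` goes to `q`. -/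
def restMap : List ℕ → List ℕ → ℕ → ℕ
  | a :: l, b :: q, i => bif Nat.beq i a then b else restMap l q i
  | _, _, i => i

/-- The image of a mask. -/
def maskImage (q : List ℕ) (h : ℕ) : ℕ :=
  (List.range 24).foldr (fun i acc => bif h.testBit i then acc ||| 2 ^ restMap hexRest q i else acc) 0

theorem hexRest_check : ∀ q ∈ hexRest.permutations', q = hexRest ∨
    ∃ h ∈ hexTests, memNat (maskImage q h) hexList = false := by
  decide +kernel

theorem hexTests_facts : ∀ h ∈ hexTests, h < 2 ^ 24 ∧
    (bitSet h).card = 6 ∧ memNat h hexList = true := by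
  decide +kernel

theorem hexTests_isHexad : ∀ h ∈ hexTests, IsHexad (bitSet h) := by
  have hall : ∀ h ∈ hexTests, ∃ k < 4096, pop24 (enc k) = 8 ∧ enc k &&& 340831 = h := by
    intro h hh
    have : ∀ h ∈ hexTests, (List.range 64).any (fun a => (List.range 64).any fun b =>
        Nat.beq (pop24 (enc (64 * a + b))) 8 && Nat.beq (enc (64 * a + b) &&& 340831) h) = true := by
      decide +kernel
    have h' := this h hh
    simp only [List.any_eq_true, List.mem_range, Bool.and_eq_true, Nat.beq_eq] at h'
    obtain ⟨a, ha, b, hb, h8, he⟩ := h'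
    exact ⟨64 * a + b, by omega, h8, he⟩
  intro h hh
  obtain ⟨k, -, h8, he⟩ := hall h hh
  refine ⟨bitSet (enc k), mem_octads_iff.mpr ⟨bitSet_enc_mem k, by rw [card_bitSet, h8]⟩, ?_,
    (hexTests_facts h hh).2.1⟩
  rw [squareDodecad_eq_bitSet, bitSet_land, he]

/-- The six fixed points used for rigidity. -/
def hexFix : Finset GolayPt := {some 0, some 1, some 2, some 3, some 4}

theorem hexFix_facts : hexFix ⊆ Spor.squareDodecad ∧ hexFix.card = 5 ∧
    ∀ p ∈ Spor.squareDodecad, p ∈ hexFix ∨ p = some 12 ∨ ptIdx p ∈ hexRest := by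
  decide +kernel

theorem hexRest_mem : ∀ i ∈ hexRest, i < 24 ∧ ptOf i ∈ Spor.squareDodecad ∧
    ptOf i ∉ hexFix ∧ ptOf i ≠ some 12 ∧ ptIdx (ptOf i) = i := by
  decide +kernel

theorem hexFix_hexad : pop24 (enc 1183) = 8 ∧
    bitSet (enc 1183) ∩ Spor.squareDodecad = insert (some 12) hexFix := by
  decide +kernel

theorem ptOf_ptIdx : ∀ p, ptOf (ptIdx p) = p := by decide +kernel

theorem restMap_self (i : ℕ) : ∀ l : List ℕ, restMap l l i = i
  | [] => rfl
  | a :: l => by
    rw [restMap, restMap_self i l]
    cases h : Nat.beq i a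
    · rfl
    · exact (Nat.eq_of_beq_eq_true h).symm

theorem restMap_map (f : ℕ → ℕ) (i : ℕ) :
    ∀ l : List ℕ, restMap l (l.map f) i = if i ∈ l then f i else i
  | [] => by simp [restMap]
  | a :: l => by
    rw [List.map_cons, restMap, restMap_map f i l]
    by_cases h : i = a
    · subst h; simp
    · simp [h]

theorem testBit_maskImage (q : List ℕ) (h n : ℕ) : (maskImage q h).testBit n = true ↔
    ∃ i < 24, h.testBit i = true ∧ restMap hexRest q i = n := by
  have key : ∀ l : List ℕ, (l.foldr (fun i acc =>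
      bif h.testBit i then acc ||| 2 ^ restMap hexRest q i else acc) 0).testBit n = true ↔
      ∃ i ∈ l, h.testBit i = true ∧ restMap hexRest q i = n := by
    intro l
    induction l with
    | nil => simp
    | cons a l ih =>
      rw [List.foldr_cons]
      cases ha : h.testBit a
      · simp [ih, ha]
      · simp [ih, ha, Nat.testBit_two_pow, or_comm]
  rw [maskImage, key]
  simp

theorem eq_id_of_hexads {σ : Equiv.Perm GolayPt}
    (hσ : ∀ h, IsHexad h → IsHexad (σ • h)) (hF : ∀ p ∈ hexFix, σ p = p) :
    ∀ p ∈ Spor.squareDodecad, σ p = p := by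
  classical
  obtain ⟨hFd, hF5, hcov⟩ := hexFix_facts
  have hinv : ∀ p ∈ Spor.squareDodecad, σ p ∈ Spor.squareDodecad := by
    intro p hp
    obtain ⟨s, hs, hsp⟩ : ∃ s : Finset GolayPt, (s ⊆ Spor.squareDodecad ∧ s.card = 5) ∧ p ∈ s := by
      obtain ⟨s, h1, h2, h3⟩ := Finset.exists_subsuperset_card_eq
        (Finset.singleton_subset_iff.mpr hp) (n := 5) (by simp)
        (by rw [(mem_dodecads_iff.mp squareDodecad_mem').2]; norm_num)
      exact ⟨s, ⟨h2, h3⟩, Finset.singleton_subset_iff.mp h1⟩
    obtain ⟨h, hh, hsh, -⟩ := exists_hexad_five hs.1 hs.2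
    exact (hσ h hh).subset (Finset.mem_smul_finset.mpr ⟨p, hsh hsp, rfl⟩)
  obtain ⟨h0, hh0, hsub0, huniq⟩ := exists_hexad_five hFd hF5
  obtain ⟨hk8, hke⟩ := hexFix_hexad
  have h0e : insert (some 12) hexFix = h0 := huniq _ ⟨bitSet (enc 1183),
    mem_octads_iff.mpr ⟨bitSet_enc_mem 1183, by rw [card_bitSet, hk8]⟩, hke.symm,
    by decide +kernel⟩ (Finset.subset_insert _ _)
  have h12 : σ (some 12) = some 12 := by
    have hfix0 : σ • h0 = h0 := huniq _ (hσ h0 hh0) fun p hp =>
      Finset.mem_smul_finset.mpr ⟨p, hsub0 hp, hF p hp⟩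
    have hm : σ (some 12) ∈ h0 := by
      have h := Finset.smul_mem_smul_finset (a := σ) (show some 12 ∈ h0 by
        rw [← h0e]; exact Finset.mem_insert_self _ _)
      rwa [hfix0] at h
    rw [← h0e] at hm
    refine (Finset.mem_insert.mp hm).resolve_right fun h => ?_
    have e := σ.injective ((hF _ h).trans rfl)
    rw [e] at h
    exact absurd h (by decide)
  have hrest : ∀ i ∈ hexRest, ptIdx (σ (ptOf i)) ∈ hexRest := by
    intro i hi
    obtain ⟨-, hd, hnF, hn12, -⟩ := hexRest_mem i hi
    rcases hcov _ (hinv _ hd) with h | h | h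
    · have e := σ.injective ((hF _ h).trans rfl)
      exact absurd (e ▸ h) hnF
    · exact absurd (σ.injective (h.trans h12.symm)) hn12
    · exact h
  set q := hexRest.map fun i => ptIdx (σ (ptOf i)) with hq
  have hqperm : q ∈ hexRest.permutations' := by
    rw [List.mem_permutations']
    have hnd : hexRest.Nodup := by decide
    have hqnd : q.Nodup := hnd.map_on fun a ha b hb e => by
      have := congrArg ptIdx (σ.injective (ptIdx_injective e))
      rwa [(hexRest_mem a ha).2.2.2.2, (hexRest_mem b hb).2.2.2.2] at this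
    refine List.perm_of_nodup_nodup_toFinset_eq hqnd hnd
      (Finset.eq_of_subset_of_card_le ?_ ?_)
    · intro x hx
      rw [List.mem_toFinset, hq, List.mem_map] at hx
      obtain ⟨i, hi, rfl⟩ := hx
      exact List.mem_toFinset.mpr (hrest i hi)
    · rw [List.toFinset_card_of_nodup hqnd, List.toFinset_card_of_nodup hnd, hq, List.length_map]
  have hrestMap : ∀ p ∈ Spor.squareDodecad, restMap hexRest q (ptIdx p) = ptIdx (σ p) := by
    intro p hp
    rw [hq, restMap_map]
    rcases hcov p hp with h | h | h
    · rw [if_neg, hF p h]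
      intro hm
      have := (hexRest_mem _ hm).2.2.1
      rw [ptOf_ptIdx] at this
      exact this h
    · subst h
      rw [if_neg, h12]
      decide
    · rw [if_pos h, ptOf_ptIdx]
  rcases hexRest_check q hqperm with heq | ⟨h, hh, hbad⟩
  · intro p hp
    rcases hcov p hp with h | h | h
    · exact hF p h
    · rw [h, h12]
    · have hm := hrestMap p hp
      rw [heq] at hm
      exact (ptIdx_injective ((restMap_self _ _).symm.trans hm)).symm
  · exfalso
    have hhex := hσ _ (hexTests_isHexad h hh)
    have hm : bitSet (maskImage q h) = σ • bitSet h := by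
      have hsub := (hexTests_isHexad h hh).subset
      ext p
      simp only [bitSet, Finset.mem_filter, Finset.mem_univ, true_and, Finset.mem_smul_finset, testBit_maskImage,
        Equiv.Perm.smul_def]
      constructor
      · rintro ⟨i, hi, hbit, he⟩
        obtain ⟨r, hr⟩ := ptIdx_surj ⟨i, hi⟩
        simp only at hr
        subst hr
        have hrd : r ∈ Spor.squareDodecad := hsub (by simp [bitSet, hbit])
        exact ⟨r, hbit, ptIdx_injective ((hrestMap r hrd).symm.trans he)⟩
      · rintro ⟨r, hbit, rfl⟩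
        exact ⟨ptIdx r, ptIdx_lt r, hbit, hrestMap r (hsub (by simp [bitSet, hbit]))⟩
    rw [← hm] at hhex
    have hlt : maskImage q h < 2 ^ 24 := by
      refine Nat.lt_pow_two_of_testBit _ fun n hn => ?_
      by_contra hb
      obtain ⟨i, hi, hbit, e⟩ := (testBit_maskImage q h n).mp (by simpa using hb)
      obtain ⟨r, hr⟩ := ptIdx_surj ⟨i, hi⟩
      simp only at hr
      subst hr
      rw [hrestMap r ((hexTests_isHexad h hh).subset (by simp [bitSet, hbit]))] at e
      have := ptIdx_lt (σ r)
      omega
    rw [isHexad_mask hlt hhex] at hbad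
    exact Bool.noConfusion hbad

/-- A permutation preserving the hexads agrees on the dodecad with an element of M12. -/
theorem exists_M12_of_hexads {σ : Equiv.Perm GolayPt}
    (hσ : ∀ h, IsHexad h → IsHexad (σ • h))
    (hinv : ∀ p ∈ Spor.squareDodecad, σ p ∈ Spor.squareDodecad) :
    ∃ g ∈ Spor.M12, ∀ p ∈ Spor.squareDodecad, g p = σ p := by
  obtain ⟨hFd, hF5, -⟩ := hexFix_facts
  let x : Fin 5 ↪ GolayPt := ⟨![some 0, some 1, some 2, some 3, some 4], by
    intro i j; revert i j; decide⟩
  have hxF : ∀ i, x i ∈ hexFix := by intro i; fin_cases i <;> decide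
  obtain ⟨g, hg, hgd, he⟩ := exists_dodecad_move le_rfl squareDodecad_mem' x
    (x.trans σ.toEmbedding) (fun i => hFd (hxF i)) (fun i => hinv _ (hFd (hxF i)))
  have hgM : g ∈ Spor.M12 := ⟨hg, hgd⟩
  refine ⟨g, hgM, fun p hp => ?_⟩
  have h := eq_id_of_hexads (σ := g⁻¹ * σ) (fun h hh => ?_) (fun q hq => ?_) p hp
  · rw [Equiv.Perm.mul_apply, Equiv.Perm.inv_eq_iff_eq] at h
    exact h.symm
  · rw [mul_smul]; exact (hσ h hh).smul (inv_mem hgM)
  · obtain ⟨i, rfl⟩ : ∃ i, x i = q := by
      have : ∀ q ∈ hexFix, ∃ i : Fin 5, ![(some 0 : GolayPt), some 1, some 2, some 3, some 4] i = q := by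
        decide
      exact this q hq
    rw [Equiv.Perm.mul_apply, Equiv.Perm.inv_eq_iff_eq]
    exact (he i).symm

/-- A transposition on a set of at least three points of a six-set whose complementary five-set
spans a hexad forces the six-set to be a hexad. -/
theorem isHexad_of_transposition {s : Finset GolayPt} (hs : s ⊆ Spor.squareDodecad)
    (h6 : s.card = 6) {g : Equiv.Perm GolayPt} (hg : g ∈ Spor.M12) (hg1 : g ≠ 1)
    (hgs : g • s = s) {a : GolayPt} (ha : a ∈ s) (hga : g a = a)
    {F : Finset GolayPt} (hF : F ⊆ s) (hFc : 4 ≤ F.card) (hFfix : ∀ p ∈ F, g p = p) :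
    IsHexad s := by
  by_contra hns
  have hs' : s.erase a ⊆ Spor.squareDodecad := (Finset.erase_subset _ _).trans hs
  have h5 : (s.erase a).card = 5 := by rw [Finset.card_erase_of_mem ha, h6]
  obtain ⟨h, hh, hsub, huniq⟩ := exists_hexad_five hs' h5
  have hfix : g • h = h := by
    refine huniq _ (hh.smul hg) ?_
    intro p hp
    rw [← Finset.inv_smul_mem_iff]
    refine hsub ?_
    rw [Finset.mem_erase] at hp ⊢
    refine ⟨fun e => hp.1 ?_, ?_⟩
    · rw [Equiv.Perm.smul_def, Equiv.Perm.inv_eq_iff_eq] at e
      exact e.trans hga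
    · rw [Finset.inv_smul_mem_iff, hgs]; exact hp.2
  obtain ⟨z, hz, hzn⟩ := Finset.exists_mem_notMem_of_card_lt_card
    (show (s.erase a).card < h.card by rw [h5, hh.card]; norm_num)
  have hzs : z ∉ s := by
    intro hzs
    refine hns ?_
    have hza : z = a := by
      by_contra hne
      exact hzn (Finset.mem_erase.mpr ⟨hne, hzs⟩)
    have : s = h := by
      refine Finset.eq_of_subset_of_card_le (fun p hp => ?_) (by rw [h6, hh.card])
      by_cases hpa : p = a
      · rw [hpa, ← hza]; exact hz
      · exact hsub (Finset.mem_erase.mpr ⟨hpa, hp⟩)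
    rw [this]; exact hh
  have hins : insert z (s.erase a) = h := Finset.eq_of_subset_of_card_le
    (Finset.insert_subset hz hsub) (by rw [Finset.card_insert_of_notMem hzn, h5, hh.card])
  have hgz : g z = z := by
    have hm : g z ∈ h := by
      have := Finset.smul_mem_smul_finset (a := g) hz
      rwa [hfix] at this
    rw [← hins, Finset.mem_insert, Finset.mem_erase] at hm
    refine hm.resolve_right fun h' => hzs ?_
    exact (apply_mem_octad_iff hgs z).mp h'.2
  refine hg1 (eq_one_of_fix_five squareDodecad_mem' hg.1 hg.2 (F := insert z F)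
    (Finset.insert_subset (hh.subset hz) (hF.trans hs))
    (by rw [Finset.card_insert_of_notMem (fun h => hzs (hF h))]; omega) ?_)
  intro p hp
  rcases Finset.mem_insert.mp hp with rfl | hp
  · exact hgz
  · exact hFfix p hp

end Cfsg.Agent.Golay
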