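import Cfsg.Agent.Golay.MathieuSimple
import Cfsg.Agent.Golay.IndexM23

/-!
`Cfsg.Spor.M22` has no subgroups of index 56 or 210: such a subgroup contains the whole
normalisers of a Sylow 11-subgroup and of a Sylow 5-subgroup, hence an element of order 7.
-/

set_option autoImplicit false

namespace Cfsg.Agent.Golay

open Cfsg
open scoped Pointwise

/-- A cyclic subgroup of prime order is normalised by an element conjugating its generator into
it. -/
theorem mem_normalizer_zpowers {G : Type*} [Group G] [Finite G] {f g : G}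
    (h : f * g * f⁻¹ ∈ Subgroup.zpowers g) :
    f ∈ Subgroup.normalizer ((Subgroup.zpowers g : Subgroup G) : Set G) := by
  rw [Subgroup.mem_normalizer_iff_map_conj_eq]
  refine Subgroup.eq_of_le_of_card_ge ?_
    (le_of_eq (Subgroup.card_map_of_injective (MulAut.conj f).injective).symm)
  rw [MonoidHom.map_zpowers, Subgroup.zpowers_le]
  exact h

/-- When the Sylow congruence forces it, a subgroup containing an element of prime order contains
the normaliser of the group generated by it. -/
theorem normalizer_le_of_forced {G : Type*} [Group G] [Finite G] {p : ℕ} [hp : Fact p.Prime]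
    (hp2 : ¬p ^ 2 ∣ Nat.card G) (H : Subgroup G) {g : G} (hgH : g ∈ H) (hg : orderOf g = p)
    {N : ℕ} (hN : Nat.card (Subgroup.normalizer ((Subgroup.zpowers g : Subgroup G) : Set G)) = N)
    {o : ℕ} (ho : Nat.card H = o)
    (hchk : ∀ m ≤ N, N % m = 0 → o % m = 0 → m % p = 0 → o / m % p = 1 → m = N) :
    Subgroup.normalizer ((Subgroup.zpowers g : Subgroup G) : Set G) ≤ H := by
  have hg' : orderOf (⟨g, hgH⟩ : H) = p := (Subgroup.orderOf_mk _ _).trans hg
  have hH2 : ¬p ^ 2 ∣ Nat.card H := fun h => hp2 (h.trans (Subgroup.card_subgroup_dvd_card H))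
  obtain ⟨P, hP⟩ := exists_sylow_zpowers (⟨g, hgH⟩ : H) hg' hH2
  set NH := Subgroup.normalizer ((P : Subgroup H) : Set H) with hNH
  have hmap : (P : Subgroup H).map H.subtype = Subgroup.zpowers g := by
    rw [hP, MonoidHom.map_zpowers]; rfl
  have hsub : NH.map H.subtype ≤
      Subgroup.normalizer ((Subgroup.zpowers g : Subgroup G) : Set G) :=
    hmap ▸ Subgroup.le_normalizer_map H.subtype
  have hcard : Nat.card (NH.map H.subtype) = Nat.card NH :=
    Subgroup.card_map_of_injective H.subtype_injective
  have hdvdN : Nat.card NH ∣ N := by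
    rw [← hN, ← hcard]; exact Subgroup.card_dvd_of_le hsub
  have hpN : p ∣ Nat.card NH := by
    refine (dvd_of_eq ?_).trans (Subgroup.card_dvd_of_le (Subgroup.le_normalizer
      (H := (P : Subgroup H))))
    rw [hP, Nat.card_zpowers, hg']
  have hidx := Subgroup.index_mul_card NH
  rw [ho] at hidx
  have hmod : o / Nat.card NH % p = 1 := by
    rw [← hidx, Nat.mul_div_cancel _ Nat.card_pos,
      show NH.index = Nat.card (Sylow p H) from (Sylow.card_eq_index_normalizer P).symm]
    exact Eq.trans (card_sylow_modEq_one p H) (Nat.mod_eq_of_lt hp.out.one_lt)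
  have hpos : 0 < N := hN ▸ Nat.card_pos
  have heq := hchk _ (Nat.le_of_dvd hpos hdvdN) (Nat.mod_eq_zero_of_dvd hdvdN)
    (by rw [← hidx, Nat.mul_mod_left]) (Nat.mod_eq_zero_of_dvd hpN) hmod
  refine (Subgroup.eq_of_le_of_card_ge hsub ?_).symm.trans_le (Subgroup.map_subtype_le _)
  rw [hN, hcard, heq]

/-- The element cubeTwist inside M22. -/
theorem cubeTwist_mem_M22 : cubeTwist ∈ Spor.M22 :=
  mem_M22_iff.mpr ⟨cubeTwist_mem, by rw [cubeTwist_apply]; decide +kernel,
    by rw [cubeTwist_apply]; decide +kernel⟩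

/-- A table acting on the group generated by `cubeTwist` by squaring. -/
def twistTab : List ℕ :=
  [0, 1, 18, 15, 6, 13, 2, 8, 10, 7, 9, 14, 21, 20, 17, 3, 5, 19, 4, 11, 16, 12, 22, 23]

theorem twistTab_spec : Function.Injective (permFun twistTab) ∧ PreservesRows (permFun twistTab) ∧
    permFun twistTab none = none ∧ permFun twistTab (some 0) = some 0 ∧
    ∀ p, permFun twistTab (node 2 p) = node 2 (node 2 (permFun twistTab p)) := by
  decide +kernel

theorem word_order_seven : ∀ p,
    (fun p => node 2 (permFun twistTab (doublePerm p)))^[7] p = p := by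
  decide +kernel

theorem word_moves : node 2 (permFun twistTab (doublePerm (some 1))) ≠ some 1 := by
  decide +kernel

theorem cubeTwist_double : ∀ p, node 2 (doublePerm p) = (doublePerm ^ 3) (node 2 p) := by
  decide +kernel

theorem cubeTwist_pow_apply : ∀ i : ℕ, ∀ p, (cubeTwist ^ i) p = (node 2)^[i] p := by
  intro i p
  rw [Equiv.Perm.coe_pow, show (⇑cubeTwist) = node 2 from funext cubeTwist_apply]

theorem orderOf_cubeTwist : orderOf cubeTwist = 5 := by
  have h5 : ∀ p, (node 2)^[5] p = p := by decide +kernel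
  have hne : node 2 (some 1) ≠ some 1 := by decide +kernel
  have : Fact (Nat.Prime 5) := ⟨by norm_num⟩
  refine orderOf_eq_prime (Equiv.ext fun p => by rw [cubeTwist_pow_apply, h5]; rfl) fun h => ?_
  refine hne ?_
  rw [← cubeTwist_apply, h]
  rfl

/-- The ten points whose cycle with the two fixed points is in no octad. -/
def twistGood : Finset GolayPt :=
  {some 1, some 2, some 4, some 6, some 11, some 14, some 17, some 18, some 19, some 22}

theorem twistGood_card : twistGood.card = 10 := by decide +kernel

/-- Octads through both fixed points and the cycle of a point outside `twistGood`. -/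
def badOctads : List ℕ := [1, 3, 9, 769, 1193]

theorem badOctads_cover : ∀ y, y ∉ twistGood → y ≠ none → y ≠ some 0 →
    ∃ k ∈ badOctads, pop24 (enc k) = 8 ∧
    (none : GolayPt) ∈ bitSet (enc k) ∧ (some 0 : GolayPt) ∈ bitSet (enc k) ∧
      ∀ i < 5, (node 2)^[i] y ∈ bitSet (enc k) := by
  decide +kernel

theorem cycle_one_check :
    check4096 (fun k => !(Nat.beq (pop24 (enc k)) 8 && (enc k).testBit 23 && (enc k).testBit 0 &&
      (List.range 5).all fun i => (enc k).testBit (ptIdx ((node 2)^[i] (some 1))))) = true := by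
  decide +kernel

theorem cycle_one_not_in_octad {o : Finset GolayPt} (ho : o ∈ octads) (hn : none ∈ o)
    (h0 : some 0 ∈ o) (hc : ∀ i < 5, (node 2)^[i] (some 1) ∈ o) : False := by
  rw [mem_octads_iff] at ho
  obtain ⟨k, hk, e⟩ := (mem_golayCode_iff _).mp ho.1
  have hs : o = bitSet (enc k) := by rw [bitSet_eq, ← e, support₂_indWord]
  subst hs
  have h := of_check4096 cycle_one_check hk
  simp only [bitSet, Finset.mem_filter, Finset.mem_univ, true_and] at hn h0 hc
  rw [card_bitSet] at ho
  simp only [Bool.not_eq_true', Bool.and_eq_false_iff, Nat.beq_eq, List.all_eq_false,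
    List.mem_range, Bool.not_eq_true] at h
  rcases h with ((h | h) | h) | ⟨i, hi, h⟩
  · exact absurd ho.2 (fun e' => by rw [e'] at h; exact absurd h (by decide))
  · exact Bool.false_ne_true (h.symm.trans hn)
  · exact Bool.false_ne_true (h.symm.trans h0)
  · exact Bool.false_ne_true (h.symm.trans (hc i hi))

/-- The element cubeTwist as an element of M22. -/
noncomputable def twist22 : Spor.M22 := ⟨cubeTwist, cubeTwist_mem_M22⟩

theorem orderOf_twist22 : orderOf twist22 = 5 :=
  (Subgroup.orderOf_mk _ _).trans orderOf_cubeTwist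

theorem card_normalizer_M22_five :
    Nat.card (Subgroup.normalizer
      ((Subgroup.zpowers twist22 : Subgroup Spor.M22) : Set Spor.M22)) = 20 := by
  have : Fact (Nat.Prime 5) := ⟨by norm_num⟩
  have hp2 : ¬5 ^ 2 ∣ Nat.card Spor.M22 := by rw [card_M22]; norm_num
  obtain ⟨P, hP⟩ := exists_sylow_zpowers twist22 orderOf_twist22 hp2
  have hle := card_normalizer_zpowers_le twist22 orderOf_twist22 (some 1) twistGood
    (fun n hn => by
      obtain ⟨hnm, hnn, hn0⟩ := mem_M22_iff.mp n.2
      set e : Equiv.Perm GolayPt := (n : Equiv.Perm GolayPt) with he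
      by_contra hout
      obtain ⟨k, -, h8, hkn, hk0, hkc⟩ := badOctads_cover _ hout
        (fun h => absurd (e.injective (h.trans hnn.symm)) (by simp))
        (fun h => absurd (e.injective (h.trans hn0.symm)) (by decide))
      have ho : bitSet (enc k) ∈ octads :=
        mem_octads_iff.mpr ⟨bitSet_enc_mem k, by rw [card_bitSet, h8]⟩
      have hback : ∀ p, e p ∈ bitSet (enc k) → p ∈ e⁻¹ • bitSet (enc k) := fun p h => by
        rw [Finset.mem_inv_smul_finset_iff]; exact h
      refine cycle_one_not_in_octad (smul_mem_octads (inv_mem hnm) ho)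
        (hback _ (by rw [hnn]; exact hkn)) (hback _ (by rw [hn0]; exact hk0))
        fun i _ => hback _ ?_
      have hz : n * twist22 ^ i * n⁻¹ ∈ Subgroup.zpowers twist22 :=
        (Subgroup.mem_normalizer_iff.mp hn _).mp (pow_mem (Subgroup.mem_zpowers twist22) i)
      obtain ⟨j, hj⟩ := (Submonoid.mem_powers_iff _ _).mp
        ((isOfFinOrder_of_finite twist22).mem_powers_iff_mem_zpowers.mpr hz)
      rw [← pow_mod_orderOf, orderOf_twist22] at hj
      have hval := congrArg (fun z : Spor.M22 => (z : Equiv.Perm GolayPt) (e (some 1))) hj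
      simp only [Subgroup.coe_mul, Subgroup.coe_pow, Subgroup.coe_inv, Equiv.Perm.mul_apply,
        ← he, Equiv.Perm.coe_inv, Equiv.symm_apply_apply, twist22, cubeTwist_pow_apply] at hval
      rw [← hval]
      exact hkc _ (Nat.mod_lt _ (by norm_num)))
    (fun m hm => by
      obtain ⟨hmm, hmn, hm0⟩ := mem_M22_iff.mp m.2
      refine Subtype.ext ?_
      by_contra h1
      have hc : ∀ i, (node 2)^[i] (some 1) ∈ fixSet (m : Equiv.Perm GolayPt) := fun i => by
        have := hm i
        simp only [twist22, cubeTwist_pow_apply] at this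
        exact mem_fixSet.mpr this
      have h7 : ({none, some 0, (node 2)^[0] (some 1), (node 2)^[1] (some 1), (node 2)^[2] (some 1),
          (node 2)^[3] (some 1), (node 2)^[4] (some 1)} : Finset GolayPt).card = 7 := by
        decide +kernel
      refine cycle_one_not_in_octad (fixSet_mem_octads hmm h1 (h7 ▸ Finset.card_le_card ?_))
        (mem_fixSet.mpr hmn) (mem_fixSet.mpr hm0) fun i _ => hc i
      simp only [Finset.insert_subset_iff, Finset.singleton_subset_iff]
      exact ⟨mem_fixSet.mpr hmn, mem_fixSet.mpr hm0, hc 0, hc 1, hc 2, hc 3, hc 4⟩)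
  rw [← hP, twistGood_card] at hle
  rw [← hP]
  exact card_normalizer_sylow card_M22 P (by rw [hP, Nat.card_zpowers, orderOf_twist22])
    (b := 8) (m₀ := 4) hle (by decide +kernel)

/-- The element doublePerm as an element of M22. -/
def double22 : Spor.M22 :=
  ⟨doublePerm, mem_M22_iff.mpr ⟨doublePerm_mem, doublePerm_fix.1, doublePerm_fix.2⟩⟩

theorem orderOf_double22 : orderOf double22 = 11 :=
  (Subgroup.orderOf_mk _ _).trans orderOf_doublePerm

theorem index_M22_ne (H : Subgroup Spor.M22) : H.index ≠ 56 ∧ H.index ≠ 210 := by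
  have : Fact (Nat.Prime 11) := ⟨by norm_num⟩
  have hp2 : ¬11 ^ 2 ∣ Nat.card Spor.M22 := by rw [card_M22]; norm_num
  obtain ⟨P0, hP0⟩ := exists_sylow_zpowers double22 orderOf_double22 hp2
  have hN0 : Nat.card (Subgroup.normalizer
      ((Subgroup.zpowers double22 : Subgroup Spor.M22) : Set Spor.M22)) = 55 :=
    hP0 ▸ card_normalizer_M22_eleven P0
  have hmove : ∀ o : ℕ, Nat.card H = o → 11 ∣ o → ∃ H' : Subgroup Spor.M22,
      Nat.card H' = o ∧ double22 ∈ H' := by
    intro o ho hd
    obtain ⟨x, hx⟩ := exists_prime_orderOf_dvd_card' (G := H) 11 (ho ▸ hd)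
    rw [← Subgroup.orderOf_coe] at hx
    obtain ⟨Q, hQ⟩ := exists_sylow_zpowers (x : Spor.M22) hx hp2
    obtain ⟨c, hc⟩ := MulAction.exists_smul_eq Spor.M22 Q P0
    refine ⟨H.map (MulAut.conj c).toMonoidHom,
      (Subgroup.card_map_of_injective (MulAut.conj c).injective).trans ho, ?_⟩
    have h2 : (Q : Subgroup Spor.M22).map (MulAut.conj c).toMonoidHom = P0 := by
      rw [← hc]; rfl
    have h3 : double22 ∈ (P0 : Subgroup Spor.M22) := by
      rw [hP0]; exact Subgroup.mem_zpowers _
    refine Subgroup.map_mono ?_ (h2 ▸ h3)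
    rw [hQ, Subgroup.zpowers_le]
    exact x.2
  have hidx := Subgroup.index_mul_card H
  rw [card_M22] at hidx
  constructor
  · intro h
    rw [h] at hidx
    obtain ⟨H', hH', hd⟩ := hmove 7920 (by omega) (by norm_num)
    have h11 := normalizer_le_of_forced hp2 H' hd orderOf_double22 hN0 hH' (by decide +kernel)
    have hf : twist22 ∈ H' := by
      refine h11 (mem_normalizer_zpowers ?_)
      have e : twist22 * double22 * twist22⁻¹ = double22 ^ 3 := by
        rw [mul_inv_eq_iff_eq_mul]
        refine Subtype.ext (Equiv.ext fun p => ?_)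
        simp only [twist22, double22, Subgroup.coe_mul, Subgroup.coe_pow, Equiv.Perm.mul_apply,
          cubeTwist_apply]
        exact cubeTwist_double p
      rw [e]
      exact pow_mem (Subgroup.mem_zpowers _) 3
    obtain ⟨hinj, hrows, hrn, hr0, hrc⟩ := twistTab_spec
    let σ : Equiv.Perm GolayPt := Equiv.ofBijective _ ⟨hinj, Finite.surjective_of_injective hinj⟩
    let r : Spor.M22 := ⟨σ, mem_M22_iff.mpr
      ⟨mem_M24_of_preservesRows (σ := σ) hrows, hrn, hr0⟩⟩
    have : Fact (Nat.Prime 5) := ⟨by norm_num⟩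
    have h5 := normalizer_le_of_forced (p := 5) (by rw [card_M22]; norm_num) H' hf orderOf_twist22
      card_normalizer_M22_five hH' (by decide +kernel)
    have hr : r ∈ H' := by
      refine h5 (mem_normalizer_zpowers ?_)
      have e : r * twist22 * r⁻¹ = twist22 ^ 2 := by
        rw [mul_inv_eq_iff_eq_mul]
        refine Subtype.ext (Equiv.ext fun p => ?_)
        simp only [twist22, r, σ, Subgroup.coe_mul, pow_two, Equiv.Perm.mul_apply,
          Equiv.ofBijective_apply, cubeTwist_apply]
        exact hrc p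
      rw [e]
      exact pow_mem (Subgroup.mem_zpowers _) 2
    let w : Equiv.Perm GolayPt := cubeTwist * σ * doublePerm
    have : Fact (Nat.Prime 7) := ⟨by norm_num⟩
    have hw : orderOf w = 7 := by
      have hfun : (⇑w) = fun p => node 2 (permFun twistTab (doublePerm p)) :=
        funext fun p => cubeTwist_apply _
      refine orderOf_eq_prime (Equiv.ext fun p => ?_) fun h1 => ?_
      · rw [Equiv.Perm.coe_pow, hfun]; exact word_order_seven p
      · exact word_moves ((congrFun hfun (some 1)).symm.trans (DFunLike.congr_fun h1 _))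
    have hmem : twist22 * r * double22 ∈ H' := mul_mem (mul_mem hf hr) hd
    have hdvd := Subgroup.orderOf_dvd_natCard H' hmem
    rw [hH', ← Subgroup.orderOf_coe] at hdvd
    rw [show ((twist22 * r * double22 : Spor.M22) : Equiv.Perm GolayPt) = w from rfl, hw] at hdvd
    norm_num at hdvd
  · intro h
    rw [h] at hidx
    obtain ⟨H', hH', hd⟩ := hmove 2112 (by omega) (by norm_num)
    have h11 := normalizer_le_of_forced hp2 H' hd orderOf_double22 hN0 hH' (by decide +kernel)
    have hdvd := Subgroup.card_dvd_of_le h11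
    rw [hN0, hH'] at hdvd
    norm_num at hdvd

theorem index_inf_stabilizer_ne {p q : GolayPt} (hpq : p ≠ q)
    (H : Subgroup ↥(MulAction.stabilizer M24 p ⊓ MulAction.stabilizer M24 q)) :
    H.index ≠ 56 ∧ H.index ≠ 210 := by
  obtain ⟨g, hg, -, e1, e2⟩ := exists_move_two (k := 0) (by norm_num)
    ⟨Fin.elim0, fun i => i.elim0⟩ (a := none) (b := some 0) (c := p) (d := q)
    (fun i => i.elim0) (fun i => i.elim0) (fun i => i.elim0) (fun i => i.elim0)
    (Option.some_ne_none 0).symm hpq
  subst e1 e2
  let e : Spor.M22 ≃* ↥(MulAction.stabilizer M24 (g none) ⊓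
      MulAction.stabilizer M24 (g (some 0))) :=
    (conjInfEquiv₂ hg (none : GolayPt) (some 0 : GolayPt)).trans (stabilizerInfEquiv₂ M24 _ _).symm
  have := index_M22_ne (H.comap e.toMonoidHom)
  rwa [Subgroup.index_comap_of_surjective _ e.surjective] at this

end Cfsg.Agent.Golay
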