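import Cfsg.Agent.Golay.IndexM23

/-!
Permutations normalising `M24`, or the stabiliser of one or two points in it, preserve the code,
up to exchanging the two points.
-/

set_option autoImplicit false

namespace Cfsg.Agent.Golay

open Cfsg
open scoped Pointwise

/-- A nontrivial element fixing exactly the octad `oct0`. -/
theorem exists_fixSet_oct0 : ∃ u ∈ M24, fixSet u = oct0 := by
  have hc : Nat.card (chainStab M24 6) = 16 :=
    (card_chainStab (H := M24) gen3_le le_rfl).2.2.2.2.2.2
  have : Nontrivial (chainStab M24 6) :=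
    Finite.one_lt_card_iff_nontrivial.mp (by omega)
  obtain ⟨⟨u, hu⟩, hu1⟩ := exists_ne (1 : chainStab M24 6)
  obtain ⟨hum, -⟩ := mem_chainStab.mp hu
  refine ⟨u, hum, (Finset.eq_of_subset_of_card_le ?_ ?_).symm⟩
  · intro x hx
    exact mem_fixSet.mpr (fix_oct0_of_six hu hx)
  · rw [(mem_octads_iff.mp oct0_mem).2]
    exact card_fixSet_le_eight hum fun e => hu1 (Subtype.ext e)

theorem fixSet_conj_eq (a g : Equiv.Perm GolayPt) : fixSet (a * g * a⁻¹) = a • fixSet g := by
  ext p
  rw [← Finset.inv_smul_mem_iff, mem_fixSet, mem_fixSet, Equiv.Perm.smul_def,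
    Equiv.Perm.mul_apply, Equiv.Perm.mul_apply, Equiv.Perm.coe_inv, Equiv.eq_symm_apply]

theorem exists_move_octad_two {x y : GolayPt} (hxy : x ≠ y) {o o' : Finset GolayPt}
    (ho : o ∈ octads) (ho' : o' ∈ octads) (hx : x ∈ o) (hy : y ∈ o) (hx' : x ∈ o') (hy' : y ∈ o') :
    ∃ g ∈ M24, g x = x ∧ g y = y ∧ g • o = o' := by
  have emb : ∀ {u : Finset GolayPt}, u ∈ octads → x ∈ u → y ∈ u →
      ∃ e : Fin 5 ↪ GolayPt, e 0 = x ∧ e 1 = y ∧ ∀ i, e i ∈ u := by
    intro u hu hxu hyu
    have h25 : 2 ≤ 5 := by norm_num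
    obtain ⟨w⟩ := Function.Embedding.nonempty_of_card_le (α := Fin 5) (β := u)
      (by rw [Fintype.card_fin, Fintype.card_coe, (mem_octads_iff.mp hu).2]; norm_num)
    obtain ⟨σ, hσ⟩ := Equiv.Perm.exists_extending_pair
      (fun i : Fin 2 => w (Fin.castLE h25 i)) ![⟨x, hxu⟩, ⟨y, hyu⟩]
      (w.injective.comp (Fin.castLE_injective h25))
      (by intro i j e; fin_cases i <;> fin_cases j <;> simp_all)
    exact ⟨(w.trans σ.toEmbedding).trans (Function.Embedding.subtype _),
      congrArg Subtype.val (hσ 0), congrArg Subtype.val (hσ 1), fun i => Subtype.prop _⟩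
  obtain ⟨e, he0, he1, he⟩ := emb ho hx hy
  obtain ⟨f, hf0, hf1, hf⟩ := emb ho' hx' hy'
  obtain ⟨g, hg, hgf⟩ := exists_five e f
  refine ⟨g, hg, ?_, ?_, octad_eq_of_five (smul_mem_octads hg ho) ho' ?_⟩
  · have := hgf 0
    rwa [he0, hf0] at this
  · have := hgf 1
    rwa [he1, hf1] at this
  · refine le_trans (le_of_eq (by simp : 5 = (Finset.univ.map f).card)) (Finset.card_le_card ?_)
    intro p hp
    obtain ⟨i, -, rfl⟩ := Finset.mem_map.mp hp
    exact Finset.mem_inter.mpr ⟨hgf i ▸ Finset.smul_mem_smul_finset (he i), hf i⟩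

/-- If conjugation by `π` maps the stabiliser of the points of `Z` in `M24` into `M24`, then `π`
maps the octads through these points to octads. -/
theorem smul_mem_octads_of_conj {Z : Finset GolayPt} (hZ : Z ⊆ oct0)
    (htr : ∀ o ∈ octads, Z ⊆ o → ∃ g ∈ M24, (∀ z ∈ Z, g z = z) ∧ g • oct0 = o)
    {π : Equiv.Perm GolayPt}
    (hπ : ∀ g ∈ M24, (∀ z ∈ Z, g z = z) → π * g * π⁻¹ ∈ M24) {o : Finset GolayPt}
    (ho : o ∈ octads) (hZo : Z ⊆ o) : π • o ∈ octads := by
  obtain ⟨u, hu, hfix⟩ := exists_fixSet_oct0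
  obtain ⟨a, ha, haZ, hao⟩ := htr o ho hZo
  have hg : fixSet (a * u * a⁻¹) = o := by rw [fixSet_conj_eq, hfix, hao]
  have hfixZ : ∀ z ∈ Z, (a * u * a⁻¹) z = z := fun z hz => mem_fixSet.mp (hg.symm ▸ hZo hz)
  have h1 := hπ _ (mul_mem (mul_mem ha hu) (inv_mem ha)) hfixZ
  have h2 : fixSet (π * (a * u * a⁻¹) * π⁻¹) = π • o := by rw [fixSet_conj_eq, hg]
  rw [← h2]
  refine fixSet_mem_octads h1 (fun e => ?_) ?_
  · rw [conj_eq_one_iff] at e
    rw [e] at hg
    have h8 := (mem_octads_iff.mp ho).2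
    rw [← hg] at h8
    simp [fixSet] at h8
  · rw [h2, Finset.card_smul_finset, (mem_octads_iff.mp ho).2]
    norm_num

theorem mem_M24_of_normalizing {π : Equiv.Perm GolayPt} (hπ : ∀ g ∈ M24, π * g * π⁻¹ ∈ M24) :
    π ∈ M24 := by
  refine mem_M24_of_octads fun o ho => ?_
  refine smul_mem_octads_of_conj (Z := ∅) (Finset.empty_subset _) (fun o' ho' _ => ?_)
    (fun g hg _ => hπ g hg) ho (Finset.empty_subset _)
  obtain ⟨a, ha, ea⟩ := exists_octad_to_oct0 ho'
  exact ⟨a⁻¹, inv_mem ha, fun z hz => absurd hz (Finset.notMem_empty z),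
    inv_smul_eq_iff.mpr ea.symm⟩

/-- A criterion from words spanning the code. -/
theorem mem_M24_of_spanning {π : Equiv.Perm GolayPt} (B : List ℕ)
    (hB : ∀ r ∈ rows, ∃ c < 4096, xorSel (B.map enc) c = r)
    (h : ∀ k ∈ B, (fun p => ofBits (enc k) (π.symm p)) ∈ golayCode) : π ∈ M24 := by
  refine mem_M24_of_rows fun r hr => ?_
  obtain ⟨c, -, rfl⟩ := hB r hr
  refine ofBits_xorSel_mem (golayCode.comap (LinearMap.funLeft (ZMod 2) (ZMod 2) π.symm)) _ ?_ c
  intro s hs
  obtain ⟨k, hk, rfl⟩ := List.mem_map.mp hs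
  exact h k hk

theorem ofBits_enc_symm (π : Equiv.Perm GolayPt) (k : ℕ) :
    (fun p => ofBits (enc k) (π.symm p)) = indWord (π • bitSet (enc k)) := by
  rw [smul_indWord, bitSet_eq, indWord_support₂]

/-- Octads through the extra point spanning the code. -/
def basisOne : List ℕ := [1, 3, 4, 9, 16, 32, 64, 129, 259, 513, 1024, 2048]

theorem basisOne_span : ∀ r ∈ rows, ∃ c ∈ [1, 3, 4, 9, 16, 32, 64, 129, 258, 513, 1024, 2048],
    xorSel (basisOne.map enc) c = r ∧ c < 4096 := by
  decide +kernel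

theorem basisOne_facts : ∀ k ∈ basisOne, pop24 (enc k) = 8 ∧ (none : GolayPt) ∈ bitSet (enc k) := by
  decide +kernel

theorem none_mem_oct0 : (none : GolayPt) ∈ oct0 ∧ (some 0 : GolayPt) ∈ oct0 := by decide +kernel

theorem mem_M24_of_normalizing_one {π : Equiv.Perm GolayPt}
    (hπ : ∀ g ∈ M24, g none = none → π * g * π⁻¹ ∈ M24) : π ∈ M24 := by
  refine mem_M24_of_spanning basisOne
    (fun r hr => (basisOne_span r hr).elim fun c h => ⟨c, h.2.2, h.2.1⟩) fun k hk => ?_
  obtain ⟨h8, hn⟩ := basisOne_facts k hk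
  rw [ofBits_enc_symm]
  refine (mem_octads_iff.mp (smul_mem_octads_of_conj (Z := {none}) (by simp [none_mem_oct0.1])
    (fun o ho hZ => ?_) (fun g hg hz => hπ g hg (hz none (by simp)))
    (mem_octads_iff.mpr ⟨bitSet_enc_mem k, by rw [card_bitSet, h8]⟩) (by simp [hn]))).1
  obtain ⟨g, hg, hgn, hgo⟩ := exists_move_octad_point oct0_mem ho none_mem_oct0.1
    (Finset.singleton_subset_iff.mp hZ)
  exact ⟨g, hg, fun z hz => by rw [Finset.mem_singleton.mp hz, hgn], hgo⟩

/-- Octads through both fixed points, and one through the extra point only, spanning the code. -/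
def basisTwo : List ℕ := [1, 3, 9, 21, 37, 77, 129, 259, 513, 1029, 2053]

theorem basisTwo_span : ∀ r ∈ rows,
    ∃ c ∈ [1, 3, 2048, 5, 2057, 2065, 2084, 65, 130, 257, 2561, 3073],
      xorSel ((basisTwo ++ [4]).map enc) c = r ∧ c < 4096 := by
  decide +kernel

theorem basisTwo_facts : (∀ k ∈ basisTwo, pop24 (enc k) = 8 ∧ (none : GolayPt) ∈ bitSet (enc k) ∧
    (some 0 : GolayPt) ∈ bitSet (enc k)) ∧
    pop24 (enc 4) = 8 ∧ (none : GolayPt) ∈ bitSet (enc 4) ∧
      (some 0 : GolayPt) ∉ bitSet (enc 4) := by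
  decide +kernel

theorem rows_low : ∀ r ∈ rows, ∃ i < 12, r % 4096 = 2 ^ i := by decide +kernel

theorem rows_low_surj : ∀ i < 12, ∃ r ∈ rows, r % 4096 = 2 ^ i := by decide +kernel

/-- The code is its own orthogonal. -/
theorem mem_golayCode_of_orth {w : GolayPt → ZMod 2}
    (h : ∀ r ∈ rows, ∑ p, w p * ofBits r p = 0) : w ∈ golayCode := by
  classical
  let D : Submodule (ZMod 2) (GolayPt → ZMod 2) :=
    { carrier := {u | ∀ r ∈ rows, ∑ p, u p * ofBits r p = 0}
      zero_mem' := by simp
      add_mem' := fun {x y} hx hy r hr => by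
        simp only [Pi.add_apply, add_mul, Finset.sum_add_distrib]
        rw [hx r hr, hy r hr, add_zero]
      smul_mem' := fun c x hx r hr => by
        simp only [Pi.smul_apply, smul_eq_mul, mul_assoc, ← Finset.mul_sum]
        rw [hx r hr, mul_zero] }
  let hi : {p : GolayPt // 12 ≤ ptIdx p} → GolayPt := Subtype.val
  have hinj : Function.Injective ((LinearMap.funLeft (ZMod 2) (ZMod 2) hi).comp D.subtype) := by
    rw [injective_iff_map_eq_zero]
    intro u hu
    refine Subtype.ext (funext fun p => ?_)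
    by_cases hp : 12 ≤ ptIdx p
    · exact congrFun hu ⟨p, hp⟩
    obtain ⟨r, hr, hlow⟩ := rows_low_surj (ptIdx p) (by omega)
    have := u.2 r hr
    rw [Finset.sum_eq_single p] at this
    · have hb : ofBits r p = 1 := by
        have : r.testBit (ptIdx p) = true := by
          have h1 := Nat.testBit_mod_two_pow r 12 (ptIdx p)
          rw [show 2 ^ 12 = 4096 from rfl, hlow, Nat.testBit_two_pow_self] at h1
          simpa [show ptIdx p < 12 by omega] using h1.symm
        simp [ofBits, this]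
      rwa [hb, mul_one] at this
    · intro q _ hq
      by_cases hq12 : 12 ≤ ptIdx q
      · have := congrFun hu ⟨q, hq12⟩
        rw [show (u : GolayPt → ZMod 2) q = 0 from this, zero_mul]
      · have hb : r.testBit (ptIdx q) = false := by
          have h1 := Nat.testBit_mod_two_pow r 12 (ptIdx q)
          have hne : ¬ptIdx p = ptIdx q := fun e => hq (ptIdx_injective e).symm
          rw [show 2 ^ 12 = 4096 from rfl, hlow, Nat.testBit_two_pow, decide_eq_false hne] at h1
          simpa [show ptIdx q < 12 by omega] using h1.symm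
        simp [ofBits, hb]
    · exact fun hp' => absurd (Finset.mem_univ p) hp'
  have hle : golayCode ≤ D := fun v hv r hr => golay_self_orthogonal hv (rows_mem r hr)
  have hcard : Fintype.card {p : GolayPt // 12 ≤ ptIdx p} = 12 := by decide +kernel
  have hd : Module.finrank (ZMod 2) D ≤ 12 := by
    refine (LinearMap.finrank_le_finrank_of_injective hinj).trans (le_of_eq ?_)
    rw [Module.finrank_fintype_fun_eq_card, hcard]
  have heq := Submodule.eq_of_le_of_finrank_le hle (hd.trans (le_of_eq finrank_golayCode.symm))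
  rw [heq]
  exact h

theorem sum_indWord_smul (π : Equiv.Perm GolayPt) (a b : Finset GolayPt) :
    ∑ p, indWord (π • a) p * indWord (π • b) p = ∑ p, indWord a p * indWord b p := by
  rw [smul_indWord, smul_indWord]
  exact Equiv.sum_comp π.symm (fun p => indWord a p * indWord b p)

theorem orth_of_inner {b : Finset GolayPt} {π : Equiv.Perm GolayPt}
    (hπ : ∀ o, o ∈ octads → none ∈ o → some 0 ∈ o →
      π • o ∈ octads ∧ none ∈ π • o ∧ some 0 ∈ π • o)
    (hb : indWord b ∈ golayCode) {o : Finset GolayPt} (ho : o ∈ octads) (hn : none ∈ o)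
    (h0 : some 0 ∈ o) : ∑ p, indWord (π • b) p * indWord o p = 0 := by
  classical
  let S : Finset (Finset GolayPt) :=
    Finset.univ.filter fun s => indWord s ∈ golayCode ∧ s.card = 8 ∧ none ∈ s ∧ some 0 ∈ s
  have hS : ∀ s, s ∈ S ↔ s ∈ octads ∧ none ∈ s ∧ some 0 ∈ s := fun s => by
    simp [S, mem_octads_iff, and_assoc]
  have himg : S.image (fun s => π • s) = S := by
    refine Finset.eq_of_subset_of_card_le ?_ (le_of_eq
      (Finset.card_image_of_injective _ (MulAction.injective π)).symm)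
    intro t ht
    obtain ⟨s, hs, rfl⟩ := Finset.mem_image.mp ht
    obtain ⟨h1, h2, h3⟩ := (hS s).mp hs
    exact (hS _).mpr (hπ s h1 h2 h3)
  have hoS := (hS o).mpr ⟨ho, hn, h0⟩
  rw [← himg] at hoS
  obtain ⟨s, hs, rfl⟩ := Finset.mem_image.mp hoS
  rw [sum_indWord_smul]
  exact golay_self_orthogonal hb (mem_octads_iff.mp ((hS s).mp hs).1).1

/-- A permutation fixing two points and conjugating their stabiliser into `M24` becomes an element
of `M24`, possibly after exchanging the two points. -/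
theorem mem_M24_of_normalizing_two {π : Equiv.Perm GolayPt} (hn : π none = none)
    (h0 : π (some 0) = some 0)
    (hπ : ∀ g ∈ M24, g none = none → g (some 0) = some 0 → π * g * π⁻¹ ∈ M24) :
    π ∈ M24 ∨ Equiv.swap none (some 0) * π ∈ M24 := by
  classical
  have hoct : ∀ o, o ∈ octads → none ∈ o → some 0 ∈ o →
      π • o ∈ octads ∧ none ∈ π • o ∧ some 0 ∈ π • o := by
    intro o ho h1 h2
    refine ⟨smul_mem_octads_of_conj (Z := {none, some 0})
      (by simp [Finset.insert_subset_iff, none_mem_oct0]) (fun o' ho' hZ => ?_)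
      (fun g hg hz => hπ g hg (hz _ (by simp)) (hz _ (by simp))) ho
      (by simp [Finset.insert_subset_iff, h1, h2]),
      Finset.mem_smul_finset.mpr ⟨_, h1, hn⟩, Finset.mem_smul_finset.mpr ⟨_, h2, h0⟩⟩
    simp only [Finset.insert_subset_iff, Finset.singleton_subset_iff] at hZ
    obtain ⟨g, hg, g1, g2, g3⟩ := exists_move_octad_two (Option.some_ne_none 0).symm oct0_mem ho'
      none_mem_oct0.1 none_mem_oct0.2 hZ.1 hZ.2
    refine ⟨g, hg, fun z hz => ?_, g3⟩
    rcases Finset.mem_insert.mp hz with rfl | hz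
    · exact g1
    · rw [Finset.mem_singleton.mp hz, g2]
  obtain ⟨hB, h48, h4n, h40⟩ := basisTwo_facts
  have hBo : ∀ k ∈ basisTwo, bitSet (enc k) ∈ octads ∧ none ∈ bitSet (enc k) ∧
      some 0 ∈ bitSet (enc k) := fun k hk =>
    ⟨mem_octads_iff.mpr ⟨bitSet_enc_mem k, by rw [card_bitSet, (hB k hk).1]⟩, (hB k hk).2⟩
  set s := π • bitSet (enc 4) with hs
  have hsn : none ∈ s := Finset.mem_smul_finset.mpr ⟨_, h4n, hn⟩
  have hs0 : some 0 ∉ s := fun h => by
    obtain ⟨q, hq, e⟩ := Finset.mem_smul_finset.mp h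
    rw [Equiv.Perm.smul_def] at e
    exact h40 (π.injective (e.trans h0.symm) ▸ hq)
  have hspan : ∀ v : GolayPt → ZMod 2,
      (∀ k ∈ basisTwo, ∑ p, v p * indWord (bitSet (enc k)) p = 0) →
      ∑ p, v p * indWord (bitSet (enc 4)) p = 0 → v ∈ golayCode := by
    intro v hv hv4
    refine mem_golayCode_of_orth fun r hr => ?_
    obtain ⟨c, -, rfl, -⟩ := basisTwo_span r hr
    let L : Submodule (ZMod 2) (GolayPt → ZMod 2) :=
      { carrier := {u | ∑ p, v p * u p = 0}
        zero_mem' := by simp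
        add_mem' := fun {x y} hx hy => by
          simp only [Set.mem_setOf_eq, Pi.add_apply, mul_add, Finset.sum_add_distrib] at *
          rw [hx, hy, add_zero]
        smul_mem' := fun a x hx => by
          simp only [Set.mem_setOf_eq, Pi.smul_apply, smul_eq_mul] at *
          rw [Finset.sum_congr rfl fun p _ => mul_left_comm (v p) a (x p), ← Finset.mul_sum, hx,
            mul_zero] }
    refine ofBits_xorSel_mem L _ ?_ c
    intro t ht
    obtain ⟨k, hk, rfl⟩ := List.mem_map.mp ht
    show ∑ p, v p * ofBits (enc k) p = 0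
    rw [← indWord_support₂ (ofBits (enc k)), ← bitSet_eq]
    rcases List.mem_append.mp hk with hk | hk
    · exact hv k hk
    · rw [List.mem_singleton] at hk
      rw [hk]; exact hv4
  have hall : ∀ σ : Equiv.Perm GolayPt,
      (∀ k ∈ basisTwo, indWord (σ • bitSet (enc k)) ∈ golayCode) →
      indWord (σ • bitSet (enc 4)) ∈ golayCode → σ ∈ M24 := fun σ h1 h2 => by
    refine mem_M24_of_spanning (basisTwo ++ [4])
      (fun r hr => (basisTwo_span r hr).elim fun c h => ⟨c, h.2.2, h.2.1⟩) fun k hk => ?_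
    rw [ofBits_enc_symm]
    rcases List.mem_append.mp hk with hk | hk
    · exact h1 k hk
    · rw [List.mem_singleton] at hk; rw [hk]; exact h2
  let τ : Equiv.Perm GolayPt := Equiv.swap none (some 0)
  have h1 : ∀ k ∈ basisTwo, ∑ p, indWord s p * indWord (bitSet (enc k)) p = 0 := fun k hk =>
    orth_of_inner hoct (bitSet_enc_mem 4) (hBo k hk).1 (hBo k hk).2.1 (hBo k hk).2.2
  by_cases h4 : ∑ p, indWord s p * indWord (bitSet (enc 4)) p = 0
  · left
    exact hall π (fun k hk => (mem_octads_iff.mp (hoct _ (hBo k hk).1 (hBo k hk).2.1 (hBo k hk).2.2).1).1)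
      (hspan _ h1 h4)
  · right
    have hsw : indWord (τ • s) = indWord s + indWord ({none, some 0} : Finset GolayPt) := by
      funext p
      rw [smul_indWord, Pi.add_apply]
      show indWord s (Equiv.swap none (some 0) p) = _
      simp only [indWord, Finset.mem_insert, Finset.mem_singleton]
      by_cases hpn : p = none
      · subst hpn; rw [Equiv.swap_apply_left]; simp [hsn, hs0, show (1 : ZMod 2) + 1 = 0 from rfl]
      by_cases hp0 : p = some 0
      · subst hp0; rw [Equiv.swap_apply_right]; simp [hsn, hs0]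
      rw [Equiv.swap_apply_of_ne_of_ne hpn hp0]; simp [hpn, hp0]
    have hv : ∀ t : Finset GolayPt, ∑ p, indWord ({none, some 0} : Finset GolayPt) p * indWord t p
        = indWord t none + indWord t (some 0) := fun t => by
      rw [← Finset.sum_subset (Finset.subset_univ ({none, some 0} : Finset GolayPt))
        (fun p _ hp => by simp [indWord, hp]), Finset.sum_pair (Option.some_ne_none 0).symm]
      simp [indWord]
    refine hall _ (fun k hk => ?_) ?_
    · obtain ⟨ho', hn', h0'⟩ := hoct _ (hBo k hk).1 (hBo k hk).2.1 (hBo k hk).2.2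
      rw [mul_smul]
      have : τ • π • bitSet (enc k) = π • bitSet (enc k) := by
        ext p
        rw [← Finset.inv_smul_mem_iff, Equiv.Perm.smul_def, Equiv.Perm.coe_inv, Equiv.symm_swap]
        by_cases hpn : p = none
        · subst hpn; rw [Equiv.swap_apply_left]; exact iff_of_true h0' hn'
        by_cases hp0 : p = some 0
        · subst hp0; rw [Equiv.swap_apply_right]; exact iff_of_true hn' h0'
        rw [Equiv.swap_apply_of_ne_of_ne hpn hp0]
      rw [this]
      exact (mem_octads_iff.mp ho').1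
    · rw [mul_smul, ← hs, hsw]
      refine hspan _ (fun k hk => ?_) ?_
      · simp only [Pi.add_apply, add_mul, Finset.sum_add_distrib]
        rw [h1 k hk, hv]
        simp [indWord, (hBo k hk).2.1, (hBo k hk).2.2, show (1 : ZMod 2) + 1 = 0 from rfl]
      · simp only [Pi.add_apply, add_mul, Finset.sum_add_distrib]
        rw [hv]
        have h2 : ∀ x : ZMod 2, x ≠ 0 → x + 1 = 0 := by decide
        simpa [indWord, h4n, h40] using h2 _ h4

end Cfsg.Agent.Golay
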