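import Cfsg.Agent.Golay.OutIndex
import Cfsg.Agent.Golay.IndexM22

/-!
A subgroup of index 12 of `Cfsg.Spor.M12` fixes one of the 24 points.
-/

set_option autoImplicit false

namespace Cfsg.Agent.Golay

open Cfsg
open scoped Pointwise

/-- The Sylow congruence, when the normaliser in the big group is only bounded. -/
theorem card_normalizer_of_bound {G : Type*} [Group G] [Finite G] {p : ℕ} [hp : Fact p.Prime]
    {H : Subgroup G} {g : G} (hgH : g ∈ H) (hg : orderOf g = p) {N : ℕ}
    (hN : Nat.card (Subgroup.normalizer ((Subgroup.zpowers g : Subgroup G) : Set G)) ≤ N)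
    {o : ℕ} (ho : Nat.card H = o) (hp2 : ¬p ^ 2 ∣ o) {m₀ : ℕ}
    (hchk : ∀ m ≤ N, o % m = 0 → m % p = 0 → o / m % p = 1 → m = m₀) :
    Nat.card ↥(H ⊓ Subgroup.normalizer ((Subgroup.zpowers g : Subgroup G) : Set G)) = m₀ := by
  have hg' : orderOf (⟨g, hgH⟩ : H) = p := (Subgroup.orderOf_mk _ _).trans hg
  obtain ⟨P, hP⟩ := exists_sylow_zpowers (⟨g, hgH⟩ : H) hg' (ho ▸ hp2)
  set NH := Subgroup.normalizer ((P : Subgroup H) : Set H) with hNH
  have hmap : NH.map H.subtype =
      H ⊓ Subgroup.normalizer ((Subgroup.zpowers g : Subgroup G) : Set G) := by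
    have e1 : ∀ y : H, y ∈ (P : Subgroup H) ↔ (y : G) ∈ Subgroup.zpowers g := fun y => by
      rw [hP, ← Subgroup.mem_map_iff_mem H.subtype_injective, MonoidHom.map_zpowers]
      rfl
    ext x
    constructor
    · intro hx
      refine ⟨(Subgroup.map_subtype_le _) hx, ?_⟩
      have := Subgroup.le_normalizer_map H.subtype hx
      rwa [hP, MonoidHom.map_zpowers] at this
    · rintro ⟨hxH, hxN⟩
      refine ⟨⟨x, hxH⟩, Subgroup.mem_normalizer_iff.mpr fun y => ?_, rfl⟩
      rw [e1, e1]
      exact Subgroup.mem_normalizer_iff.mp hxN y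
  have hcard : Nat.card ↥(H ⊓ Subgroup.normalizer ((Subgroup.zpowers g : Subgroup G) : Set G)) =
      Nat.card NH := by
    rw [← hmap, Subgroup.card_map_of_injective H.subtype_injective]
  rw [hcard]
  have hle : Nat.card NH ≤ N :=
    hcard ▸ (Subgroup.card_le_of_le inf_le_right).trans hN
  have hidx := Subgroup.index_mul_card NH
  rw [ho] at hidx
  refine hchk _ hle (by rw [← hidx, Nat.mul_mod_left]) (Nat.mod_eq_zero_of_dvd ?_) ?_
  · refine (dvd_of_eq ?_).trans (Subgroup.card_dvd_of_le (Subgroup.le_normalizer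
      (H := (P : Subgroup H))))
    rw [hP, Nat.card_zpowers, hg']
  · rw [← hidx, Nat.mul_div_cancel _ Nat.card_pos,
      show NH.index = Nat.card (Sylow p H) from (Sylow.card_eq_index_normalizer P).symm]
    exact Eq.trans (card_sylow_modEq_one p H) (Nat.mod_eq_of_lt hp.out.one_lt)

/-- An element squaring the group of `cubeTwist` and fixing the residue 0. -/
def squareTabIn : List ℕ :=
  [0, 1, 18, 3, 6, 11, 2, 14, 16, 13, 19, 20, 12, 8, 10, 23, 9, 5, 4, 7, 17, 22, 21, 15]

/-- An element squaring the group of `cubeTwist` and fixing the extra point. -/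
def squareTabOut : List ℕ :=
  [3, 12, 8, 0, 9, 7, 13, 20, 4, 2, 5, 14, 1, 18, 17, 15, 6, 19, 16, 11, 10, 21, 22, 23]

/-- An involution centralising `cubeTwist`. -/
def centralTab : List ℕ :=
  [3, 12, 13, 0, 16, 19, 9, 11, 18, 6, 17, 7, 1, 2, 20, 23, 4, 10, 8, 5, 14, 22, 21, 15]

/-- The element with the given table, or the identity. -/
noncomputable def tabPerm (t : List ℕ) : Equiv.Perm GolayPt :=
  if h : Function.Injective (permFun t) then
    Equiv.ofBijective _ ⟨h, Finite.surjective_of_injective h⟩ else 1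

theorem tabPerm_apply {t : List ℕ} (h : Function.Injective (permFun t)) (p : GolayPt) :
    tabPerm t p = permFun t p := by
  rw [tabPerm, dif_pos h]; rfl

theorem tabs_spec : ∀ t ∈ [squareTabIn, squareTabOut, centralTab],
    Function.Injective (permFun t) ∧ PreservesRows (permFun t) ∧
      ∀ p ∈ Spor.squareDodecad, permFun t p ∈ Spor.squareDodecad := by
  decide +kernel

theorem tabPerm_mem {t : List ℕ} (ht : t ∈ [squareTabIn, squareTabOut, centralTab]) :
    tabPerm t ∈ Spor.M12 := by
  obtain ⟨hi, hr, hd⟩ := tabs_spec t ht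
  have e : (⇑(tabPerm t)) = permFun t := funext (tabPerm_apply hi)
  refine ⟨mem_M24_of_preservesRows (by rw [e]; exact hr), ?_⟩
  refine Finset.eq_of_subset_of_card_le ?_ (le_of_eq (Finset.card_smul_finset _ _).symm)
  intro p hp
  obtain ⟨q, hq, rfl⟩ := Finset.mem_smul_finset.mp hp
  rw [Equiv.Perm.smul_def, tabPerm_apply hi]
  exact hd q hq

theorem tabs_rel : (∀ p, permFun squareTabIn (node 2 p) = node 2 (node 2 (permFun squareTabIn p))) ∧
    (∀ p, permFun squareTabOut (node 2 p) = node 2 (node 2 (permFun squareTabOut p))) ∧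
    (∀ p, permFun centralTab (node 2 p) = node 2 (permFun centralTab p)) ∧
    (∀ p, permFun squareTabIn (permFun centralTab p) = permFun squareTabOut p) := by
  decide +kernel

theorem tabs_points : permFun squareTabIn (some 0) = some 0 ∧ permFun squareTabOut none = none := by
  decide +kernel

theorem squareTabs_order : ∀ t ∈ [squareTabIn, squareTabOut],
    (∀ p, (permFun t)^[4] p = p) ∧ ∃ p, (permFun t)^[2] p ≠ p := by
  decide +kernel

theorem word_order_eight : ∀ w : GolayPt → GolayPt,
    w = (fun p => permFun centralTab (doublePerm (permFun centralTab (doublePerm (node 2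
      (doublePerm (permFun centralTab (doublePerm p)))))))) →
    (∀ p, w^[8] p = p) ∧ (∃ p, w^[4] p ≠ p) ∧ w (some 0) = some 0 := by
  intro w hw; subst hw; decide +kernel

theorem orderOf_two_pow {G : Type*} [Group G] {x : G} {k : ℕ} (h : x ^ (2 * 2 ^ k) = 1)
    (h' : ¬x ^ (2 ^ k) = 1) : orderOf x = 2 * 2 ^ k := by
  have : Fact (Nat.Prime 2) := ⟨Nat.prime_two⟩
  have := orderOf_eq_prime_pow (p := 2) (n := k) h' (by rw [pow_succ']; exact h)
  rw [this, pow_succ']

theorem cubeTwist_mem_M12 : cubeTwist ∈ Spor.M12 := by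
  have hd : ∀ p ∈ Spor.squareDodecad, node 2 p ∈ Spor.squareDodecad := by decide +kernel
  refine ⟨cubeTwist_mem, Finset.eq_of_subset_of_card_le ?_
    (le_of_eq (Finset.card_smul_finset _ _).symm)⟩
  intro p hp
  obtain ⟨q, hq, rfl⟩ := Finset.mem_smul_finset.mp hp
  rw [Equiv.Perm.smul_def, cubeTwist_apply]
  exact hd q hq

/-- The element cubeTwist as an element of M12. -/
noncomputable def twist12 : Spor.M12 := ⟨cubeTwist, cubeTwist_mem_M12⟩

/-- The element doublePerm as an element of M12. -/
def double12 : Spor.M12 := ⟨doublePerm, doublePerm_mem, doublePerm_dodecad⟩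

theorem orderOf_twist12 : orderOf twist12 = 5 := (Subgroup.orderOf_mk _ _).trans orderOf_cubeTwist

theorem orderOf_double12 : orderOf double12 = 11 :=
  (Subgroup.orderOf_mk _ _).trans orderOf_doublePerm

theorem twist12_double12 : twist12 * double12 * twist12⁻¹ = double12 ^ 3 := by
  rw [mul_inv_eq_iff_eq_mul]
  refine Subtype.ext (Equiv.ext fun p => ?_)
  simp only [twist12, double12, Subgroup.coe_mul, Subgroup.coe_pow, Equiv.Perm.mul_apply,
    cubeTwist_apply]
  exact cubeTwist_double p

/-- The nonzero squares moved by `cubeTwist`. -/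
def twistMoved : Finset GolayPt := Spor.squareDodecad.filter fun p => node 2 p ≠ p

theorem twistMoved_facts : twistMoved.card = 10 ∧ (some 1 : GolayPt) ∈ twistMoved ∧
    ({(node 2)^[0] (some 1), (node 2)^[1] (some 1), (node 2)^[2] (some 1), (node 2)^[3] (some 1),
      (node 2)^[4] (some 1)} : Finset GolayPt).card = 5 := by
  decide +kernel

theorem card_normalizer_M12_five :
    Nat.card (Subgroup.normalizer
      ((Subgroup.zpowers twist12 : Subgroup Spor.M12) : Set Spor.M12)) ≤ 40 := by
  have : Fact (Nat.Prime 5) := ⟨by norm_num⟩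
  obtain ⟨hc10, h1m, h5⟩ := twistMoved_facts
  refine (card_normalizer_zpowers_le twist12 orderOf_twist12 (some 1) twistMoved
    (fun n hn => ?_) (fun m hm => ?_)).trans (le_of_eq (by rw [hc10]))
  · set e : Equiv.Perm GolayPt := (n : Equiv.Perm GolayPt) with he
    rw [twistMoved, Finset.mem_filter]
    refine ⟨(apply_mem_octad_iff n.2.2 _).mpr (Finset.mem_filter.mp h1m).1, fun hfix => ?_⟩
    obtain ⟨j, hj⟩ := Subgroup.mem_zpowers_iff.mp
      ((Subgroup.mem_normalizer_iff.mp hn twist12).mp (Subgroup.mem_zpowers _))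
    have h2 : (cubeTwist ^ j) (e (some 1)) = e (some 1) :=
      MulAction.mem_stabilizer_iff.mp (zpow_mem
        (show cubeTwist ∈ MulAction.stabilizer (Equiv.Perm GolayPt) (e (some 1)) from
          (cubeTwist_apply _).trans hfix) j)
    have h3 := congrArg (fun z : Spor.M12 => (z : Equiv.Perm GolayPt) (e (some 1))) hj
    simp only [Subgroup.coe_zpow, Subgroup.coe_mul, Subgroup.coe_inv, Equiv.Perm.mul_apply,
      twist12, ← he, Equiv.Perm.coe_inv, Equiv.symm_apply_apply] at h3
    rw [h2] at h3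
    exact (Finset.mem_filter.mp h1m).2 ((cubeTwist_apply _).symm.trans (e.injective h3.symm))
  · refine Subtype.ext (eq_one_of_fix_five squareDodecad_mem' m.2.1 m.2.2
      (F := {(node 2)^[0] (some 1), (node 2)^[1] (some 1), (node 2)^[2] (some 1),
        (node 2)^[3] (some 1), (node 2)^[4] (some 1)}) ?_ (by rw [h5]) fun x hx => ?_)
    · decide +kernel
    · simp only [Finset.mem_insert, Finset.mem_singleton] at hx
      have key : ∀ i, (m : Equiv.Perm GolayPt) ((node 2)^[i] (some 1)) = (node 2)^[i] (some 1) :=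
        fun i => by
          have := hm i
          simp only [twist12, cubeTwist_pow_apply] at this
          exact this
      rcases hx with rfl | rfl | rfl | rfl | rfl <;> exact key _

theorem card_normalizer_M12_eleven :
    Nat.card (Subgroup.normalizer
      ((Subgroup.zpowers double12 : Subgroup Spor.M12) : Set Spor.M12)) ≤ 55 := by
  have : Fact (Nat.Prime 11) := ⟨by norm_num⟩
  let g' : Spor.M11 :=
    ⟨doublePerm, mem_M11_iff.mpr ⟨doublePerm_mem, doublePerm_dodecad, doublePerm_fix.2⟩⟩
  have hle := card_normalizer_double_le g' rfl (fun m hm => (mem_M11_iff.mp hm).1)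
    (fun m hm => (mem_M11_iff.mp hm).2.2)
    (fun n _ => sqPts_inv_M11 n.2 one_mem_sqPts)
  obtain ⟨P, hP⟩ := exists_sylow_zpowers g' ((Subgroup.orderOf_mk _ _).trans orderOf_doublePerm)
    (by rw [card_M11]; norm_num)
  have hN : Nat.card (Subgroup.normalizer ((Subgroup.zpowers g' : Subgroup Spor.M11) :
      Set Spor.M11)) = 11 * 5 := by
    rw [← hP] at hle ⊢
    exact card_normalizer_sylow card_M11 P (by rw [hP, Nat.card_zpowers]
                                               exact (Subgroup.orderOf_mk _ _).trans orderOf_doublePerm)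
      (b := 10) hle (by decide +kernel)
  refine le_trans ?_ (le_of_eq hN)
  have hmem : ∀ n ∈ Subgroup.normalizer ((Subgroup.zpowers double12 : Subgroup Spor.M12) :
      Set Spor.M12), (n : Equiv.Perm GolayPt) ∈ Spor.M11 := by
    intro n hn
    refine ⟨n.2, MulAction.mem_stabilizer_iff.mpr ?_⟩
    set x := (n : Equiv.Perm GolayPt) (some 0) with hx
    obtain ⟨j, hj⟩ := Subgroup.mem_zpowers_iff.mp
      ((Subgroup.mem_normalizer_iff''.mp hn double12).mp (Subgroup.mem_zpowers _))
    have h1 := congrArg (fun z : Spor.M12 => (z : Equiv.Perm GolayPt) (some 0)) hj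
    simp only [Subgroup.coe_zpow, Subgroup.coe_mul, Subgroup.coe_inv, Equiv.Perm.mul_apply,
      double12] at h1
    have h2 : (doublePerm ^ j) (some 0) = some 0 :=
      MulAction.mem_stabilizer_iff.mp (zpow_mem
        (show doublePerm ∈ MulAction.stabilizer (Equiv.Perm GolayPt) (some 0 : GolayPt) from
          doublePerm_fix.2) j)
    rw [h2, ← hx] at h1
    have h3 := congrArg (n : Equiv.Perm GolayPt) h1
    rw [Equiv.Perm.coe_inv, Equiv.apply_symm_apply, ← hx] at h3
    have hm : x ∈ fixSet doublePerm := mem_fixSet.mpr h3.symm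
    rw [fixSet_doublePerm, Finset.mem_insert, Finset.mem_singleton] at hm
    refine hm.resolve_left fun e => none_notMem_squareDodecad ?_
    rw [← e]
    exact (apply_mem_octad_iff n.2.2 _).mpr zero_mem_squareDodecad
  refine Nat.card_le_card_of_injective
    (fun n => (⟨⟨_, hmem n n.2⟩, ?_⟩ :
      Subgroup.normalizer ((Subgroup.zpowers g' : Subgroup Spor.M11) : Set Spor.M11))) ?_
  · let ι : Spor.M11 →* Spor.M12 := Subgroup.inclusion inf_le_left
    have hinj : Function.Injective ι := Subgroup.inclusion_injective _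
    have k1 : ∀ y, ι y ∈ Subgroup.zpowers double12 ↔ y ∈ Subgroup.zpowers g' := fun y => by
      rw [show double12 = ι g' from rfl, ← MonoidHom.map_zpowers]
      exact Subgroup.mem_map_iff_mem hinj
    rw [Subgroup.mem_normalizer_iff]
    intro z
    have key := Subgroup.mem_normalizer_iff.mp n.2 (ι z)
    have e : ι (⟨_, hmem n n.2⟩ * z * (⟨_, hmem n n.2⟩ : Spor.M11)⁻¹) =
        (n : Spor.M12) * ι z * (n : Spor.M12)⁻¹ := Subtype.ext rfl
    rw [← e] at key
    exact (k1 z).symm.trans (key.trans (k1 _))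
  · intro a b h
    have := congrArg (fun z : Subgroup.normalizer
      ((Subgroup.zpowers g' : Subgroup Spor.M11) : Set Spor.M11) =>
        ((z : Spor.M11) : Equiv.Perm GolayPt)) h
    exact Subtype.ext (Subtype.ext this)

theorem twist_mem_of_index_twelve {H : Subgroup Spor.M12} {o : ℕ} (ho : Nat.card H = o)
    (hd : double12 ∈ H) (hp2 : ¬11 ^ 2 ∣ o)
    (hchk : ∀ m ≤ 55, o % m = 0 → m % 11 = 0 → o / m % 11 = 1 → m = 55) : twist12 ∈ H := by
  have : Fact (Nat.Prime 11) := ⟨by norm_num⟩
  have h := card_normalizer_of_bound hd orderOf_double12 card_normalizer_M12_eleven ho hp2 hchk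
  have := Subgroup.eq_of_le_of_card_ge
    (inf_le_right (a := H)) (card_normalizer_M12_eleven.trans h.ge)
  have hmem : twist12 ∈ H ⊓ Subgroup.normalizer
      ((Subgroup.zpowers double12 : Subgroup Spor.M12) : Set Spor.M12) := by
    rw [this]
    exact mem_normalizer_zpowers
      (twist12_double12 ▸ pow_mem (Subgroup.mem_zpowers double12) 3)
  exact hmem.1

theorem orderOf_square12 {t : List ℕ} (ht : t ∈ [squareTabIn, squareTabOut]) :
    orderOf (tabPerm t) = 4 := by
  have hi := (tabs_spec t (by simp at ht ⊢; tauto)).1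
  obtain ⟨h4, p, h2⟩ := squareTabs_order t ht
  have e : (⇑(tabPerm t)) = permFun t := funext (tabPerm_apply hi)
  refine orderOf_two_pow (k := 1) (Equiv.ext fun q => ?_) fun h => h2 ?_
  · rw [Equiv.Perm.coe_pow, e]; exact h4 q
  · have := congrFun (congrArg DFunLike.coe h) p
    rwa [Equiv.Perm.coe_pow, e] at this

/-- A subgroup of M12 containing the double, the twist and a squaring element has order 7920 when
its order divides 7920. -/
theorem card_eq_of_square {L : Subgroup Spor.M12} {o : ℕ} (ho : Nat.card L = o)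
    (hdiv : o ∣ 7920) (hd : double12 ∈ L) (hf : twist12 ∈ L) {r : Spor.M12} (hr : r ∈ L)
    (hr4 : orderOf r = 4)
    (hrN : r ∈ Subgroup.normalizer ((Subgroup.zpowers twist12 : Subgroup Spor.M12) : Set Spor.M12)) :
    o = 7920 := by
  have d11 : 11 ∣ o := ho ▸ orderOf_double12 ▸ Subgroup.orderOf_dvd_natCard L hd
  have d5 : 5 ∣ o := ho ▸ orderOf_twist12 ▸ Subgroup.orderOf_dvd_natCard L hf
  have d4 : 4 ∣ o := ho ▸ hr4 ▸ Subgroup.orderOf_dvd_natCard L hr
  obtain ⟨k, rfl⟩ : 220 ∣ o :=
    Nat.Coprime.mul_dvd_of_dvd_of_dvd (by norm_num)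
      (Nat.Coprime.mul_dvd_of_dvd_of_dvd (by norm_num) d11 d5 : 11 * 5 ∣ o) d4
  have hk : k ∣ 36 := Nat.dvd_of_mul_dvd_mul_left (by norm_num) (show 220 * k ∣ 220 * 36 from hdiv)
  have h11 : Fact (Nat.Prime 11) := ⟨by norm_num⟩
  have h5 : Fact (Nat.Prime 5) := ⟨by norm_num⟩
  have hcases : k = 1 ∨ k = 2 ∨ k = 3 ∨ k = 4 ∨ k = 6 ∨ k = 9 ∨ k = 12 ∨ k = 18 ∨ k = 36 := by
    have := Nat.le_of_dvd (by norm_num) hk
    interval_cases k <;> simp at hk ⊢
  have hno : ∀ (hp2 : ¬11 ^ 2 ∣ 220 * k)
      (hchk : ∀ m ≤ 55, 220 * k % m = 0 → m % 11 = 0 → 220 * k / m % 11 = 1 → m = 0), False := by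
    intro hp2 hchk
    have := card_normalizer_of_bound hd orderOf_double12 card_normalizer_M12_eleven ho hp2 hchk
    exact Nat.card_pos.ne' this
  rcases hcases with rfl | rfl | rfl | rfl | rfl | rfl | rfl | rfl | rfl
  · exact (hno (by norm_num) (by decide +kernel)).elim
  · exact (hno (by norm_num) (by decide +kernel)).elim
  · exfalso
    have hcard := card_normalizer_of_bound hf orderOf_twist12 card_normalizer_M12_five ho
      (m₀ := 10) (by norm_num) (by decide +kernel)
    have h4 := Subgroup.orderOf_dvd_natCard _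
      (show r ∈ L ⊓ Subgroup.normalizer ((Subgroup.zpowers twist12 : Subgroup Spor.M12) :
        Set Spor.M12) from ⟨hr, hrN⟩)
    rw [hcard, hr4] at h4
    norm_num at h4
  · exact (hno (by norm_num) (by decide +kernel)).elim
  · exact (hno (by norm_num) (by decide +kernel)).elim
  · exfalso
    have hcard := card_normalizer_of_bound hd orderOf_double12 card_normalizer_M12_eleven ho
      (m₀ := 44) (by norm_num) (by decide +kernel)
    have hall := card_normalizer_of_bound (H := (⊤ : Subgroup Spor.M12)) (Subgroup.mem_top _)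
      orderOf_double12 card_normalizer_M12_eleven (o := 95040)
      (by rw [Subgroup.card_top, card_M12]) (m₀ := 55) (by norm_num) (by decide +kernel)
    rw [top_inf_eq] at hall
    have h55 := Subgroup.card_dvd_of_le (inf_le_right :
      L ⊓ Subgroup.normalizer ((Subgroup.zpowers double12 : Subgroup Spor.M12) : Set Spor.M12) ≤ _)
    rw [hcard, hall] at h55
    norm_num at h55
  · exact (hno (by norm_num) (by decide +kernel)).elim
  · exact (hno (by norm_num) (by decide +kernel)).elim
  · rfl

theorem orbit_size_M12 {H : Subgroup (Equiv.Perm GolayPt)} (hle : H ≤ Spor.M12)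
    (hc : Nat.card H = 7920) (hno : ∀ b, ∃ h ∈ H, h b ≠ b) (a : GolayPt)
    (ha : a ∈ Spor.squareDodecad) : (orbitFin H a).card = 12 := by
  have : Fact (Nat.Prime 11) := ⟨by norm_num⟩
  have hle' : H ≤ M24 := fun h hh => (hle hh).1
  have hinv : ∀ h ∈ H, ∀ t ∈ Spor.squareDodecad, h t ∈ Spor.squareDodecad :=
    fun h hh t ht => (apply_mem_octad_iff (hle hh).2 t).mpr ht
  obtain ⟨g, hg, hgo⟩ := exists_orderOf_mem hc 11 (by norm_num)
  have hcompl : ∀ t ∈ Spor.squareDodecadᶜ, g t ∈ Spor.squareDodecadᶜ := fun t ht =>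
    Finset.mem_compl.mpr fun h =>
      Finset.mem_compl.mp ht ((apply_mem_octad_iff (hle hg).2 t).mp h)
  have hout := card_mod_fix hgo Spor.squareDodecadᶜ hcompl
  rw [(mem_dodecads_iff.mp (compl_mem_dodecads squareDodecad_mem')).2] at hout
  set F := Spor.squareDodecadᶜ.filter fun x => g x = x with hF
  have hb : ∀ x ∈ Spor.squareDodecad, (orbitFin H x).card % 11 + F.card ≤ 2 := fun x hx => by
    rw [← card_fixSet_eq (hle' hg) (by norm_num) hgo 2 rfl]
    refine orbit_mod_le hg hgo x F fun z hz => ?_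
    rw [hF, Finset.mem_filter, Finset.mem_compl] at hz
    exact ⟨hz.2, fun h => hz.1 (orbitFin_subset hinv hx h)⟩
  have hF1 : 1 ≤ F.card := le_trans (le_of_eq hout) (Nat.mod_le _ _)
  have hT := (mem_dodecads_iff.mp squareDodecad_mem').2
  have hsz : ∀ x ∈ Spor.squareDodecad, (orbitFin H x).card = 1 ∨
      (orbitFin H x).card = 11 ∨ (orbitFin H x).card = 12 := fun x hx => by
    have key : ∀ m ≤ 12, 7920 % m = 0 → m % 11 ≤ 1 → m = 1 ∨ m = 11 ∨ m = 12 := by
      intro m hm h1 h2
      interval_cases m <;> omega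
    have := hb x hx
    exact key _ ((Finset.card_le_card (orbitFin_subset hinv hx)).trans hT.le)
      (card_orbit_dvd_mod hc x) (by omega)
  by_contra h12
  have h11 : ∃ b, ∀ h ∈ H, h b = b := by
    rcases hsz a ha with h | h | h
    · exact ⟨a, fixed_of_orbit_one h⟩
    · obtain ⟨b, hb', hbn⟩ := Finset.exists_mem_notMem_of_card_lt_card
        (show (orbitFin H a).card < Spor.squareDodecad.card by rw [hT, h]; norm_num)
      refine ⟨b, fixed_of_orbit_one ((hsz b hb').resolve_right fun hh => ?_)⟩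
      have hd : Disjoint (orbitFin H a) (orbitFin H b) := by
        rw [Finset.disjoint_left]
        intro t e1 e2
        exact hbn (by
          rw [← orbitFin_eq_of_mem e1, orbitFin_eq_of_mem e2]; exact self_mem_orbitFin H b)
      have := Finset.card_le_card
        (Finset.union_subset (orbitFin_subset hinv ha) (orbitFin_subset hinv hb'))
      rw [Finset.card_union_of_disjoint hd, h, hT] at this
      omega
    · exact absurd h h12
  obtain ⟨b, hb'⟩ := h11
  obtain ⟨h, hh, hne⟩ := hno b
  exact hne (hb' h hh)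

theorem exists_fixed_M12_aux {H : Subgroup Spor.M12} (hc : Nat.card H = 7920)
    (hd : double12 ∈ H) : ∃ b, ∀ h ∈ H, (h : Equiv.Perm GolayPt) b = b := by
  by_contra hcon
  push Not at hcon
  have : Fact (Nat.Prime 5) := ⟨by norm_num⟩
  have hf := twist_mem_of_index_twelve hc hd (by norm_num) (by decide +kernel)
  set N := Subgroup.normalizer ((Subgroup.zpowers twist12 : Subgroup Spor.M12) : Set Spor.M12)
    with hNdef
  have hN20 : Nat.card ↥(H ⊓ N) = 20 :=
    card_normalizer_of_bound hf orderOf_twist12 card_normalizer_M12_five hc (by norm_num)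
      (by decide +kernel)
  let mk : ∀ t ∈ [squareTabIn, squareTabOut, centralTab], Spor.M12 := fun t ht =>
    ⟨tabPerm t, tabPerm_mem ht⟩
  have hm1 : squareTabIn ∈ [squareTabIn, squareTabOut, centralTab] := by simp
  have hm2 : squareTabOut ∈ [squareTabIn, squareTabOut, centralTab] := by simp
  have hmz : centralTab ∈ [squareTabIn, squareTabOut, centralTab] := by simp
  let r1 := mk squareTabIn hm1
  let r2 := mk squareTabOut hm2
  let z := mk centralTab hmz
  have hinj := fun t ht => (tabs_spec t ht).1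
  obtain ⟨rel1, rel2, relz, relm⟩ := tabs_rel
  have hnorm : ∀ (t : List ℕ) (ht : t ∈ [squareTabIn, squareTabOut, centralTab]) (k : ℕ),
      (∀ p, permFun t (node 2 p) = (node 2)^[k] (permFun t p)) → mk t ht ∈ N := by
    intro t ht k hk
    refine mem_normalizer_zpowers ?_
    have e : mk t ht * twist12 * (mk t ht)⁻¹ = twist12 ^ k := by
      rw [mul_inv_eq_iff_eq_mul]
      refine Subtype.ext (Equiv.ext fun p => ?_)
      simp only [mk, twist12, Subgroup.coe_mul, Subgroup.coe_pow, Equiv.Perm.mul_apply,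
        cubeTwist_pow_apply, tabPerm_apply (hinj t ht), cubeTwist_apply]
      exact hk p
    rw [e]
    exact pow_mem (Subgroup.mem_zpowers _) k
  have n1 : r1 ∈ N := hnorm _ hm1 2 rel1
  have n2 : r2 ∈ N := hnorm _ hm2 2 rel2
  have nz : z ∈ N := hnorm _ hmz 1 relz
  have hmul : r1 * z = r2 := by
    refine Subtype.ext (Equiv.ext fun p => ?_)
    simp only [r1, r2, z, mk, Subgroup.coe_mul, Equiv.Perm.mul_apply,
      tabPerm_apply (hinj squareTabIn hm1), tabPerm_apply (hinj squareTabOut hm2),
      tabPerm_apply (hinj centralTab hmz)]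
    exact relm p
  have hthree : r1 ∈ H ∨ z ∈ H ∨ r2 ∈ H := by
    by_contra hc3
    push Not at hc3
    have h40 := card_normalizer_M12_five
    rw [← hNdef] at h40
    have hidx := Subgroup.index_mul_card ((H ⊓ N).subgroupOf N)
    rw [Nat.card_congr (Subgroup.subgroupOfEquivOfLe (inf_le_right : H ⊓ N ≤ N)).toEquiv, hN20]
      at hidx
    have hi2 : ((H ⊓ N).subgroupOf N).index = 2 := by
      have h0 : ((H ⊓ N).subgroupOf N).index ≠ 0 := Subgroup.index_ne_zero_of_finite
      have h1 : ((H ⊓ N).subgroupOf N).index ≠ 1 := by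
        intro h1
        have := Subgroup.index_eq_one.mp h1
        have hm : (⟨r1, n1⟩ : N) ∈ (H ⊓ N).subgroupOf N := this ▸ Subgroup.mem_top _
        exact hc3.1 hm.1
      omega
    have := (Subgroup.mul_mem_iff_of_index_two hi2 (a := (⟨r1, n1⟩ : N)) (b := ⟨z, nz⟩)).mpr
      (iff_of_false (fun h => hc3.1 h.1) (fun h => hc3.2.1 h.1))
    exact hc3.2.2 (hmul ▸ this.1)
  have hsquare : ∀ (t : List ℕ) (ht : t ∈ [squareTabIn, squareTabOut, centralTab])
      (ht' : t ∈ [squareTabIn, squareTabOut]) (b : GolayPt),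
      mk t ht ∈ H → mk t ht ∈ N → permFun t b = b → doublePerm b = b → node 2 b = b → False := by
    intro t ht ht' b hH hN hb hdb hfb
    let S : Subgroup Spor.M12 := MulAction.stabilizer Spor.M12 b
    have hdS : double12 ∈ S := hdb
    have hfS : twist12 ∈ S := (cubeTwist_apply b).trans hfb
    have hrS : mk t ht ∈ S := (tabPerm_apply (hinj t ht) b).trans hb
    have hcard : Nat.card ↥(H ⊓ S) = 7920 :=
      card_eq_of_square rfl (hc ▸ Subgroup.card_dvd_of_le inf_le_left) (L := H ⊓ S) ⟨hd, hdS⟩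
        ⟨hf, hfS⟩ ⟨hH, hrS⟩ ((Subgroup.orderOf_mk _ _).trans (orderOf_square12 ht')) hN
    have heq := Subgroup.eq_of_le_of_card_ge (inf_le_left : H ⊓ S ≤ H) (by rw [hc, hcard])
    obtain ⟨h, hh, hne⟩ := hcon b
    rw [← heq] at hh
    exact hne hh.2
  rcases hthree with h | h | h
  · exact hsquare _ hm1 (by simp) (some 0) h n1 tabs_points.1 doublePerm_fix.2 (by decide +kernel)
  swap
  · exact hsquare _ hm2 (by simp) none h n2 tabs_points.2 doublePerm_fix.1 (by decide +kernel)
  set K := H.map Spor.M12.subtype with hK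
  have hKle : K ≤ Spor.M12 := Subgroup.map_subtype_le _
  have hKc : Nat.card K = 7920 := by
    rw [hK, Subgroup.card_map_of_injective Spor.M12.subtype_injective, hc]
  have hno : ∀ b, ∃ k ∈ K, k b ≠ b := fun b => by
    obtain ⟨h, hh, hne⟩ := hcon b
    exact ⟨h, ⟨h, hh, rfl⟩, hne⟩
  have h12 := orbit_size_M12 hKle hKc hno _ zero_mem_squareDodecad
  have hmul' := card_eq_orbitFin_mul K (some 0)
  rw [h12, hKc] at hmul'
  let w : Spor.M12 := z * double12 * z * double12 * twist12 * double12 * z * double12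
  have hwH : w ∈ H := by
    refine mul_mem (mul_mem (mul_mem (mul_mem (mul_mem (mul_mem (mul_mem ?_ ?_) ?_) ?_) ?_) ?_) ?_) ?_
    all_goals assumption
  obtain ⟨h8, ⟨p4, h4⟩, hw0⟩ := word_order_eight _ rfl
  have hfun : (⇑(w : Equiv.Perm GolayPt)) = fun p => permFun centralTab (doublePerm
      (permFun centralTab (doublePerm (node 2 (doublePerm (permFun centralTab (doublePerm p))))))) :=
    funext fun p => by
      simp only [w, z, mk, twist12, double12, Subgroup.coe_mul, Equiv.Perm.mul_apply,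
        cubeTwist_apply, tabPerm_apply (hinj centralTab hmz)]
  have ho8 : orderOf (w : Equiv.Perm GolayPt) = 8 := by
    refine orderOf_two_pow (k := 2) (Equiv.ext fun q => ?_) fun h => h4 ?_
    · rw [Equiv.Perm.coe_pow, hfun]; exact h8 q
    · have := congrFun (congrArg DFunLike.coe h) p4
      rwa [Equiv.Perm.coe_pow, hfun] at this
  have hdvd := Subgroup.orderOf_dvd_natCard
    (K ⊓ MulAction.stabilizer (Equiv.Perm GolayPt) (some 0 : GolayPt))
    (show (w : Equiv.Perm GolayPt) ∈ K ⊓ MulAction.stabilizer (Equiv.Perm GolayPt)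
      (some 0 : GolayPt) from ⟨⟨w, hwH, rfl⟩, (congrFun hfun _).trans hw0⟩)
  rw [ho8] at hdvd
  omega

theorem exists_fixed_M12 {H : Subgroup Spor.M12} (hc : Nat.card H = 7920) :
    ∃ b, ∀ h ∈ H, (h : Equiv.Perm GolayPt) b = b := by
  have : Fact (Nat.Prime 11) := ⟨by norm_num⟩
  have hp2 : ¬11 ^ 2 ∣ Nat.card Spor.M12 := by rw [card_M12]; norm_num
  obtain ⟨P0, hP0⟩ := exists_sylow_zpowers double12 orderOf_double12 hp2
  obtain ⟨x, hx⟩ := exists_prime_orderOf_dvd_card' (G := H) 11 (by rw [hc]; norm_num)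
  rw [← Subgroup.orderOf_coe] at hx
  obtain ⟨Q, hQ⟩ := exists_sylow_zpowers (x : Spor.M12) hx hp2
  obtain ⟨c, hcQ⟩ := MulAction.exists_smul_eq Spor.M12 Q P0
  set H' := H.map (MulAut.conj c).toMonoidHom with hH'
  have h2 : (Q : Subgroup Spor.M12).map (MulAut.conj c).toMonoidHom = P0 := by
    rw [← hcQ]; rfl
  have hd : double12 ∈ H' := by
    have h3 : double12 ∈ (P0 : Subgroup Spor.M12) := by rw [hP0]; exact Subgroup.mem_zpowers _
    refine Subgroup.map_mono ?_ (h2 ▸ h3)
    rw [hQ, Subgroup.zpowers_le]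
    exact x.2
  obtain ⟨b, hb⟩ := exists_fixed_M12_aux
    ((Subgroup.card_map_of_injective (MulAut.conj c).injective).trans hc) hd
  refine ⟨(c : Equiv.Perm GolayPt)⁻¹ b, fun h hh => ?_⟩
  have := hb _ (Subgroup.mem_map_of_mem (MulAut.conj c).toMonoidHom hh)
  simp only [MulEquiv.coe_toMonoidHom, MulAut.conj_apply, Subgroup.coe_mul, Subgroup.coe_inv,
    Equiv.Perm.mul_apply] at this
  rw [Equiv.Perm.coe_inv, Equiv.eq_symm_apply]
  exact this

end Cfsg.Agent.Golay
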