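import Cfsg.Agent.Golay.Mathieu
import Cfsg.Prelude.Def_Spor_Mathieu

/-!
The stabiliser of a dodecad and of three points outside it is transitive on the dodecad; so the
stabiliser of a dodecad and one of its points is three-fold transitive on the complement.
-/

set_option autoImplicit false

namespace Cfsg.Agent.Golay

open Cfsg
open scoped Pointwise

/-- Twelve elements of the stabiliser of the dodecad of squares fixing the residues 5, 7, 10. -/
def tripleTabs : List (List ℕ) :=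
  [[0, 1, 2, 3, 4, 5, 6, 7, 8, 9, 10, 11, 12, 13, 14, 15, 16, 17, 18, 19, 20, 21, 22, 23],
    [1, 0, 4, 12, 3, 5, 9, 7, 13, 6, 10, 23, 2, 18, 14, 19, 8, 11, 16, 21, 15, 20, 17, 22],
    [2, 1, 0, 3, 12, 5, 18, 7, 8, 13, 10, 20, 4, 9, 23, 19, 16, 17, 6, 15, 11, 22, 21, 14],
    [3, 1, 0, 2, 4, 5, 8, 7, 18, 16, 10, 19, 12, 9, 17, 20, 13, 23, 6, 21, 22, 11, 15, 14],
    [4, 0, 1, 12, 2, 5, 16, 7, 13, 18, 10, 15, 3, 6, 22, 21, 8, 11, 9, 19, 23, 17, 20, 14],
    [6, 9, 8, 18, 16, 5, 0, 7, 3, 1, 10, 15, 13, 4, 14, 22, 12, 19, 2, 23, 17, 11, 21, 20],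
    [8, 9, 6, 18, 13, 5, 2, 7, 3, 4, 10, 17, 16, 1, 20, 23, 12, 19, 0, 22, 15, 21, 11, 14],
    [9, 6, 13, 16, 8, 5, 1, 7, 12, 0, 10, 19, 18, 3, 14, 17, 2, 21, 4, 22, 11, 23, 20, 15],
    [12, 0, 1, 4, 3, 5, 13, 7, 16, 8, 10, 21, 2, 6, 11, 15, 18, 22, 9, 20, 17, 23, 19, 14],
    [13, 6, 9, 16, 18, 5, 4, 7, 12, 3, 10, 11, 8, 0, 15, 22, 2, 21, 1, 17, 19, 20, 23, 14],
    [16, 6, 9, 13, 8, 5, 12, 7, 4, 2, 10, 22, 18, 0, 21, 11, 3, 15, 1, 23, 20, 19, 17, 14],
    [18, 9, 6, 8, 16, 5, 3, 7, 2, 12, 10, 23, 13, 1, 19, 17, 4, 20, 0, 11, 21, 15, 22, 14]]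

/-- The validity of a table in `tripleTabs`. -/
def TripleOK (t : List ℕ) : Prop :=
  Function.Injective (permFun t) ∧ PreservesRows (permFun t) ∧
    permFun t (some 5) = some 5 ∧ permFun t (some 7) = some 7 ∧ permFun t (some 10) = some 10 ∧
      ∀ p, p ∈ Spor.squareDodecad → permFun t p ∈ Spor.squareDodecad

instance decTripleOK (t : List ℕ) : Decidable (TripleOK t) := by
  unfold TripleOK; infer_instance

theorem tripleTabs_ok : ∀ t ∈ tripleTabs, TripleOK t := by decide +kernel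

theorem tripleTabs_cover : ∀ q ∈ Spor.squareDodecad,
    ∃ t ∈ tripleTabs, permFun t (some 0) = q := by
  decide +kernel

theorem out_points : (some 5 : GolayPt) ∉ Spor.squareDodecad ∧
    (some 7 : GolayPt) ∉ Spor.squareDodecad ∧ (some 10 : GolayPt) ∉ Spor.squareDodecad := by
  decide +kernel

theorem exists_triple_move {q : GolayPt} (hq : q ∈ Spor.squareDodecad) :
    ∃ g ∈ M24, g • Spor.squareDodecad = Spor.squareDodecad ∧
      g (some 5) = some 5 ∧ g (some 7) = some 7 ∧ g (some 10) = some 10 ∧ g (some 0) = q := by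
  obtain ⟨t, ht, e⟩ := tripleTabs_cover q hq
  obtain ⟨hi, hp, h5, h7, h10, hd⟩ := tripleTabs_ok t ht
  let g : Equiv.Perm GolayPt :=
    Equiv.ofBijective (permFun t) (Finite.injective_iff_bijective.mp hi)
  refine ⟨g, mem_M24_of_preservesRows hp, ?_, h5, h7, h10, e⟩
  refine Finset.eq_of_subset_of_card_le ?_ (le_of_eq (Finset.card_smul_finset _ _).symm)
  intro p hp'
  obtain ⟨r, hr, rfl⟩ := Finset.mem_smul_finset.mp hp'
  exact hd r hr

theorem exists_fix_triple {d : Finset GolayPt} (hd : d ∈ dodecads) (y : Fin 3 ↪ GolayPt)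
    (hy : ∀ i, y i ∉ d) {p q : GolayPt} (hp : p ∈ d) (hq : q ∈ d) :
    ∃ g ∈ M24, g • d = d ∧ (∀ i, g (y i) = y i) ∧ g p = q := by
  obtain ⟨a, ha, ea⟩ := dodecads_transitive squareDodecad_mem hd
  change a • Spor.squareDodecad = d at ea
  have hc := compl_mem_dodecads hd
  have hout : ∀ {r : GolayPt}, r ∉ Spor.squareDodecad → a r ∈ dᶜ := fun {r} hr => by
    rw [Finset.mem_compl, apply_mem_octad_iff ea]; exact hr
  obtain ⟨w⟩ := Function.Embedding.nonempty_of_card_le (α := Fin 5) (β := {r // r ∈ dᶜ})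
    (by rw [Fintype.card_fin, Fintype.card_coe, (mem_dodecads_iff.mp hc).2]; norm_num)
  let u : Fin 3 → {r // r ∈ dᶜ} := ![⟨_, hout out_points.1⟩, ⟨_, hout out_points.2.1⟩,
    ⟨_, hout out_points.2.2⟩]
  let v : Fin 3 → {r // r ∈ dᶜ} := fun i => ⟨y i, Finset.mem_compl.mpr (hy i)⟩
  have hu : Function.Injective u := by
    intro i j e
    have hne : ∀ r s : GolayPt, r ≠ s → a r ≠ a s := fun r s h e => h (a.injective e)
    have e' := congrArg Subtype.val e
    fin_cases i <;> fin_cases j <;>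
      first
      | rfl
      | exact absurd e' (hne _ _ (by decide))
  have hle : 3 ≤ 5 := by norm_num
  obtain ⟨σ, hσ⟩ := Equiv.Perm.exists_extending_pair (fun i => w (Fin.castLE hle i)) u
    (w.injective.comp (Fin.castLE_injective hle)) hu
  obtain ⟨τ, hτ⟩ := Equiv.Perm.exists_extending_pair (fun i => w (Fin.castLE hle i)) v
    (w.injective.comp (Fin.castLE_injective hle))
    (fun i j e => y.injective (congrArg Subtype.val e))
  obtain ⟨b, hb, -⟩ := existsUnique_dodecad_five hc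
    ((w.trans σ.toEmbedding).trans (Function.Embedding.subtype _))
    ((w.trans τ.toEmbedding).trans (Function.Embedding.subtype _))
    (fun i => (σ (w i)).2) (fun i => (τ (w i)).2)
  let c : Equiv.Perm GolayPt := ((b : M24) : Equiv.Perm GolayPt) * a
  have hcm : c ∈ M24 := mul_mem (b : M24).2 ha
  have hbd : ((b : M24) : Equiv.Perm GolayPt) • d = d := by
    have h : ((b : M24) : Equiv.Perm GolayPt) • dᶜ = dᶜ := b.2
    ext r
    have := apply_mem_octad_iff h (((b : M24) : Equiv.Perm GolayPt)⁻¹ r)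
    rw [Equiv.Perm.coe_inv, Equiv.apply_symm_apply, Finset.mem_compl, Finset.mem_compl,
      not_iff_not] at this
    rw [← Finset.inv_smul_mem_iff, Equiv.Perm.smul_def, Equiv.Perm.coe_inv]
    exact this.symm
  have hcd : c • Spor.squareDodecad = d := by rw [mul_smul, ea, hbd]
  have hy' : ∀ i, c (![some 5, some 7, some 10] i) = y i := by
    intro i
    have h := hb (Fin.castLE hle i)
    simp only [Function.Embedding.trans_apply, Function.Embedding.coe_subtype,
      Equiv.coe_toEmbedding, hσ, hτ] at h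
    fin_cases i <;> simpa [c, u, hτ, v] using h
  have key : ∀ r ∈ d, ∃ g ∈ M24, g • d = d ∧ (∀ i, g (y i) = y i) ∧ g (c (some 0)) = r := by
    intro r hr
    have hr' : c⁻¹ r ∈ Spor.squareDodecad := by
      rw [← apply_mem_octad_iff hcd, Equiv.Perm.coe_inv, Equiv.apply_symm_apply]; exact hr
    obtain ⟨t, ht, htd, h5, h7, h10, h0⟩ := exists_triple_move hr'
    refine ⟨c * t * c⁻¹, mul_mem (mul_mem hcm ht) (inv_mem hcm), ?_, ?_, ?_⟩
    · rw [mul_smul, mul_smul, ← eq_inv_smul_iff.mpr hcd, htd, hcd]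
    · intro i
      rw [← hy' i, Equiv.Perm.mul_apply, Equiv.Perm.mul_apply, Equiv.Perm.coe_inv,
        Equiv.symm_apply_apply]
      fin_cases i
      exacts [congrArg c h5, congrArg c h7, congrArg c h10]
    · rw [Equiv.Perm.mul_apply, Equiv.Perm.mul_apply, Equiv.Perm.coe_inv, Equiv.symm_apply_apply,
        h0, Equiv.Perm.coe_inv, Equiv.apply_symm_apply]
  obtain ⟨g1, hg1, hd1, hf1, e1⟩ := key p hp
  obtain ⟨g2, hg2, hd2, hf2, e2⟩ := key q hq
  refine ⟨g2 * g1⁻¹, mul_mem hg2 (inv_mem hg1), ?_, fun i => ?_, ?_⟩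
  · rw [mul_smul, inv_smul_eq_iff.mpr hd1.symm, hd2]
  · have : g1⁻¹ (y i) = y i := by rw [Equiv.Perm.inv_eq_iff_eq]; exact (hf1 i).symm
    rw [Equiv.Perm.mul_apply, this, hf2]
  · have : g1⁻¹ p = c (some 0) := by rw [Equiv.Perm.inv_eq_iff_eq]; exact e1.symm
    rw [Equiv.Perm.mul_apply, this, e2]

theorem exists_move_triple {d : Finset GolayPt} (hd : d ∈ dodecads) {p : GolayPt} (hp : p ∈ d)
    (x y : Fin 3 ↪ GolayPt) (hx : ∀ i, x i ∉ d) (hy : ∀ i, y i ∉ d) :
    ∃ g ∈ M24, g • d = d ∧ g p = p ∧ ∀ i, g (x i) = y i := by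
  have hc := compl_mem_dodecads hd
  have hle : 3 ≤ 5 := by norm_num
  obtain ⟨w⟩ := Function.Embedding.nonempty_of_card_le (α := Fin 5) (β := {r // r ∈ dᶜ})
    (by rw [Fintype.card_fin, Fintype.card_coe, (mem_dodecads_iff.mp hc).2]; norm_num)
  let u : Fin 3 → {r // r ∈ dᶜ} := fun i => ⟨x i, Finset.mem_compl.mpr (hx i)⟩
  let v : Fin 3 → {r // r ∈ dᶜ} := fun i => ⟨y i, Finset.mem_compl.mpr (hy i)⟩
  obtain ⟨σ, hσ⟩ := Equiv.Perm.exists_extending_pair (fun i => w (Fin.castLE hle i)) u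
    (w.injective.comp (Fin.castLE_injective hle))
    (fun i j e => x.injective (congrArg Subtype.val e))
  obtain ⟨τ, hτ⟩ := Equiv.Perm.exists_extending_pair (fun i => w (Fin.castLE hle i)) v
    (w.injective.comp (Fin.castLE_injective hle))
    (fun i j e => y.injective (congrArg Subtype.val e))
  obtain ⟨b, hb, -⟩ := existsUnique_dodecad_five hc
    ((w.trans σ.toEmbedding).trans (Function.Embedding.subtype _))
    ((w.trans τ.toEmbedding).trans (Function.Embedding.subtype _))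
    (fun i => (σ (w i)).2) (fun i => (τ (w i)).2)
  have hbd : ((b : M24) : Equiv.Perm GolayPt) • d = d := by
    have h : ((b : M24) : Equiv.Perm GolayPt) • dᶜ = dᶜ := b.2
    ext r
    have := apply_mem_octad_iff h (((b : M24) : Equiv.Perm GolayPt)⁻¹ r)
    rw [Equiv.Perm.coe_inv, Equiv.apply_symm_apply, Finset.mem_compl, Finset.mem_compl,
      not_iff_not] at this
    rw [← Finset.inv_smul_mem_iff, Equiv.Perm.smul_def, Equiv.Perm.coe_inv]
    exact this.symm
  have hb' : ∀ i, ((b : M24) : Equiv.Perm GolayPt) (x i) = y i := by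
    intro i
    have h := hb (Fin.castLE hle i)
    simp only [Function.Embedding.trans_apply, Function.Embedding.coe_subtype,
      Equiv.coe_toEmbedding, hσ, hτ] at h
    exact h
  obtain ⟨g, hg, hgd, hgy, hgp⟩ := exists_fix_triple hd y hy
    ((apply_mem_octad_iff hbd p).mpr hp) hp
  exact ⟨g * ((b : M24) : Equiv.Perm GolayPt), mul_mem hg (b : M24).2,
    by rw [mul_smul, hbd, hgd], hgp, fun i => by rw [Equiv.Perm.mul_apply, hb', hgy]⟩

end Cfsg.Agent.Golay
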