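import Cfsg.Agent.Golay.Induced
import Cfsg.Agent.Golay.OutCode
import Cfsg.Agent.Golay.OutIndexTwelve
import Cfsg.Agent.Golay.Hexads
import Cfsg.Agent.Golay.Triples

/-!
The outer automorphism groups of the five Mathieu groups.
-/

set_option autoImplicit false

namespace Cfsg.Agent.Golay

open Cfsg
open scoped Pointwise

attribute [local irreducible] Spor.squareDodecad sqPts

section General

variable {α : Type*} [Fintype α] [DecidableEq α] (G : Subgroup (Equiv.Perm α))

theorem index_stabilizer_eq {T : Finset α} (hinv : ∀ g ∈ G, ∀ x ∈ T, g x ∈ T)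
    (htr : ∀ x ∈ T, ∀ y ∈ T, ∃ g ∈ G, g x = y) {a : α} (ha : a ∈ T) :
    (MulAction.stabilizer G a).index = T.card := by
  rw [MulAction.index_stabilizer, ← Set.ncard_coe_finset]
  congr 1
  ext y
  constructor
  · rintro ⟨g, rfl⟩; exact hinv g g.2 a ha
  · intro hy
    obtain ⟨g, hg, rfl⟩ := htr a ha y hy
    exact ⟨⟨g, hg⟩, rfl⟩

theorem card_stabilizer_eq {T : Finset α} (hinv : ∀ g ∈ G, ∀ x ∈ T, g x ∈ T)
    (htr : ∀ x ∈ T, ∀ y ∈ T, ∃ g ∈ G, g x = y) {a : α} (ha : a ∈ T) {n o : ℕ}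
    (hn : T.card = n) (ho : Nat.card G = n * o) (hn0 : 0 < n) :
    Nat.card (MulAction.stabilizer G a) = o := by
  have := Subgroup.index_mul_card (MulAction.stabilizer G a)
  rw [index_stabilizer_eq G hinv htr ha, hn, ho] at this
  exact Nat.eq_of_mul_eq_mul_left hn0 this

/-- An automorphism maps a point stabiliser onto one as soon as subgroups of that order fix a
point. -/
theorem image_stabilizer {T T' : Finset α} {a : α} {b : α} (φ : G ≃* G) {o : ℕ}
    (hca : Nat.card (MulAction.stabilizer G a) = o)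
    (hcb : Nat.card (MulAction.stabilizer G b) = o)
    (hb : ∀ h ∈ (MulAction.stabilizer G a).map φ.toMonoidHom, (h : Equiv.Perm α) b = b) (g : G) :
    (g : Equiv.Perm α) a = a ↔ (φ g : Equiv.Perm α) b = b := by
  have heq : (MulAction.stabilizer G a).map φ.toMonoidHom = MulAction.stabilizer G b :=
    Subgroup.eq_of_le_of_card_ge (fun h hh => hb h hh) (by
      rw [Subgroup.card_map_of_injective φ.injective, hca, hcb])
  constructor
  · intro h
    exact hb _ (Subgroup.mem_map_of_mem φ.toMonoidHom h)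
  · intro h
    have : φ g ∈ MulAction.stabilizer G b := h
    rw [← heq] at this
    exact (Subgroup.mem_map_iff_mem φ.injective).mp this

/-- The automorphism is conjugation by the inducing permutation, on all points. -/
theorem eq_conj_of_induced {T : Finset α} (φ : G ≃* G) {π : Equiv.Perm α}
    (hT : ∀ x, π x ∈ T ↔ x ∈ T) (hout : ∀ x, x ∉ T → π x = x)
    (hfix : ∀ g ∈ G, ∀ x, x ∉ T → g x = x)
    (hφ : ∀ g : G, ∀ x ∈ T, π ((g : Equiv.Perm α) x) = (φ g : Equiv.Perm α) (π x)) (g : G) :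
    (φ g : Equiv.Perm α) = π * g * π⁻¹ := by
  refine Equiv.ext fun y => ?_
  obtain ⟨x, rfl⟩ := π.surjective y
  simp only [Equiv.Perm.mul_apply, Equiv.Perm.coe_inv, Equiv.symm_apply_apply]
  by_cases hx : x ∈ T
  · exact (hφ g x hx).symm
  · rw [hfix g g.2 x hx, hout x hx, hfix _ (φ g).2 x hx]

theorem eq_conj_mem {φ : MulAut G} {c : Equiv.Perm α} (hc : c ∈ G)
    (h : ∀ g : G, (φ g : Equiv.Perm α) = c * g * c⁻¹) : φ = MulAut.conj ⟨c, hc⟩ :=
  MulEquiv.ext fun g => Subtype.ext (h g)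

end General

theorem out_M24 : Nat.card (Out M24) = 1 := by
  refine card_out_eq_one fun φ => ?_
  have hinv : ∀ g ∈ M24, ∀ x ∈ (Finset.univ : Finset GolayPt), g x ∈ (Finset.univ : Finset GolayPt) :=
    fun g _ x _ => Finset.mem_univ _
  have htr : ∀ x ∈ (Finset.univ : Finset GolayPt), ∀ y ∈ (Finset.univ : Finset GolayPt),
      ∃ g ∈ M24, g x = y := fun x _ y _ => by
    obtain ⟨g, hg, -, e⟩ := exists_move_fixing (k := 0) (by norm_num)
      ⟨Fin.elim0, fun i => i.elim0⟩ (a := x) (b := y) (fun i => i.elim0) (fun i => i.elim0)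
    exact ⟨g, hg, e⟩
  have hst : ∀ b, Nat.card (MulAction.stabilizer M24 b) = 10200960 := fun b =>
    card_stabilizer_eq M24 hinv htr (Finset.mem_univ b) (n := 24) (by simp) (by rw [card_M24])
      (by norm_num)
  obtain ⟨b, hb⟩ := exists_fixed_M24
    (Subgroup.map_subtype_le ((MulAction.stabilizer M24 (none : GolayPt)).map φ.toMonoidHom))
    (by rw [Subgroup.card_map_of_injective M24.subtype_injective,
      Subgroup.card_map_of_injective φ.injective, hst])
  have hab := image_stabilizer M24 (T := Finset.univ) (T' := Finset.univ) (a := none) φ (hst none)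
    (hst b) fun h hh => hb _ ⟨h, hh, rfl⟩
  obtain ⟨π, -, hT, hout, hφ⟩ :=
    exists_induced M24 Finset.univ φ hinv htr (Finset.mem_univ none) (Finset.mem_univ b) hab
  have hconj := eq_conj_of_induced M24 φ hT hout (fun g _ x hx => absurd (Finset.mem_univ x) hx) hφ
  have hπ : π ∈ M24 := mem_M24_of_normalizing fun g hg => hconj ⟨g, hg⟩ ▸ (φ ⟨g, hg⟩).2
  exact ⟨⟨π, hπ⟩, eq_conj_mem M24 hπ hconj⟩

theorem M23_data : (∀ g ∈ Spor.M23, ∀ x ∈ ({none}ᶜ : Finset GolayPt), g x ∈ ({none}ᶜ : Finset GolayPt))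
    ∧ (∀ x ∈ ({none}ᶜ : Finset GolayPt), ∀ y ∈ ({none}ᶜ : Finset GolayPt), ∃ g ∈ Spor.M23, g x = y) := by
  refine ⟨fun g hg x hx => ?_, fun x hx y hy => ?_⟩
  · simp only [Finset.mem_compl, Finset.mem_singleton] at hx ⊢
    exact fun e => hx (g.injective (e.trans hg.2.symm))
  · simp only [Finset.mem_compl, Finset.mem_singleton] at hx hy
    obtain ⟨g, hg, hf, e⟩ := exists_move_fixing (k := 1) (by norm_num)
      ⟨fun _ => none, fun i j _ => Subsingleton.elim i j⟩ (a := x) (b := y)
      (fun _ => Ne.symm hx) (fun _ => Ne.symm hy)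
    exact ⟨g, ⟨hg, hf 0⟩, e⟩

theorem out_M23 : Nat.card (Out Spor.M23) = 1 := by
  refine card_out_eq_one fun φ => ?_
  obtain ⟨hinv, htr⟩ := M23_data
  have hT23 : ({none}ᶜ : Finset GolayPt).card = 23 := by decide +kernel
  have hst : ∀ b ∈ ({none}ᶜ : Finset GolayPt),
      Nat.card (MulAction.stabilizer Spor.M23 b) = 443520 := fun b hb =>
    card_stabilizer_eq Spor.M23 hinv htr hb hT23 (by rw [card_M23]) (by norm_num)
  have ha : (some 0 : GolayPt) ∈ ({none}ᶜ : Finset GolayPt) := by simp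
  obtain ⟨b, hbT, hb⟩ := exists_fixed_M23
    (Subgroup.map_subtype_le
      ((MulAction.stabilizer Spor.M23 (some 0 : GolayPt)).map φ.toMonoidHom))
    (by rw [Subgroup.card_map_of_injective Spor.M23.subtype_injective,
      Subgroup.card_map_of_injective φ.injective, hst _ ha])
  have hab := image_stabilizer Spor.M23 (T := ∅) (T' := ∅) φ (hst _ ha) (hst _ hbT)
    fun h hh => hb _ ⟨h, hh, rfl⟩
  obtain ⟨π, -, hT, hout, hφ⟩ := exists_induced Spor.M23 _ φ hinv htr ha hbT hab
  have hfix : ∀ g ∈ Spor.M23, ∀ x, x ∉ ({none}ᶜ : Finset GolayPt) → g x = x := by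
    intro g hg x hx
    rw [Finset.mem_compl, not_not, Finset.mem_singleton] at hx
    subst hx; exact hg.2
  have hconj := eq_conj_of_induced Spor.M23 φ hT hout hfix hφ
  have hπn : π none = none := hout none (by simp)
  have hπ : π ∈ M24 := mem_M24_of_normalizing_one fun g hg hgn =>
    hconj ⟨g, hg, hgn⟩ ▸ (φ ⟨g, hg, hgn⟩).2.1
  exact ⟨⟨π, hπ, hπn⟩, eq_conj_mem Spor.M23 _ hconj⟩

/-! ### M22 -/

/-- An element of `M24` exchanging the extra point and the residue 0. -/
theorem projInv_swap : projInv none = some 0 ∧ projInv (some 0) = none ∧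
    ∃ p, projInv p ≠ Equiv.swap none (some 0) p := by
  decide +kernel

theorem conj_mem_M22 {c : Equiv.Perm GolayPt} (hc : c ∈ M24) (h1 : c none = some 0)
    (h2 : c (some 0) = none) {g : Equiv.Perm GolayPt} (hg : g ∈ Spor.M22) :
    c * g * c⁻¹ ∈ Spor.M22 ∧ c⁻¹ * g * c ∈ Spor.M22 := by
  obtain ⟨hm, hn, h0⟩ := mem_M22_iff.mp hg
  have e1 : c⁻¹ none = some 0 := by rw [Equiv.Perm.inv_eq_iff_eq, h2]
  have e2 : c⁻¹ (some 0) = none := by rw [Equiv.Perm.inv_eq_iff_eq, h1]
  constructor <;> refine mem_M22_iff.mpr ⟨?_, ?_, ?_⟩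
  · exact mul_mem (mul_mem hc hm) (inv_mem hc)
  · simp only [Equiv.Perm.mul_apply, e1, h0, h2]
  · simp only [Equiv.Perm.mul_apply, e2, hn, h1]
  · exact mul_mem (mul_mem (inv_mem hc) hm) hc
  · simp only [Equiv.Perm.mul_apply, h1, h0, e2]
  · simp only [Equiv.Perm.mul_apply, h2, hn, e1]

/-- The outer automorphism of M22. -/
noncomputable def outer22 : MulAut Spor.M22 :=
  normConj Spor.M22 projInv
    (fun _ hg => (conj_mem_M22 projInv_mem projInv_swap.1 projInv_swap.2.1 hg).1)
    (fun _ hg => (conj_mem_M22 projInv_mem projInv_swap.1 projInv_swap.2.1 hg).2)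

theorem outer22_not_inner (c : Spor.M22) : outer22 ≠ MulAut.conj c := by
  intro h
  obtain ⟨s1, s2, p, hp⟩ := projInv_swap
  set u : Equiv.Perm GolayPt := (c : Equiv.Perm GolayPt)⁻¹ * projInv with hu
  obtain ⟨hcm, hcn, hc0⟩ := mem_M22_iff.mp c.2
  have hcomm : ∀ g : Spor.M22, u * g = (g : Equiv.Perm GolayPt) * u := fun g => by
    have := congrArg (fun z : MulAut Spor.M22 => (z g : Equiv.Perm GolayPt)) h
    simp only [outer22, normConj_apply, conj_apply_coe] at this
    rw [mul_inv_eq_iff_eq_mul] at this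
    rw [hu, mul_assoc, this]
    group
  have hun : u none = some 0 := by
    rw [hu, Equiv.Perm.mul_apply, s1, Equiv.Perm.inv_eq_iff_eq, hc0]
  have hu0 : u (some 0) = none := by
    rw [hu, Equiv.Perm.mul_apply, s2, Equiv.Perm.inv_eq_iff_eq, hcn]
  have hfix : ∀ a, a ≠ none → a ≠ some 0 → u a = a := by
    intro a han ha0
    by_contra hne
    have hbn : u a ≠ none := fun e => ha0 (u.injective (e.trans hu0.symm))
    have hb0 : u a ≠ some 0 := fun e => han (u.injective (e.trans hun.symm))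
    obtain ⟨d, hd⟩ : ∃ d, d ∉ ({none, some 0, a, u a} : Finset GolayPt) := by
      by_contra hall
      push Not at hall
      have h24 := Finset.card_le_card (fun p (_ : p ∈ (Finset.univ : Finset GolayPt)) => hall p)
      have := (Finset.card_insert_le none ({some 0, a, u a} : Finset GolayPt)).trans
        (Nat.add_le_add_right Finset.card_le_three 1)
      rw [Finset.card_univ, card_golayPt] at h24
      omega
    simp only [Finset.mem_insert, Finset.mem_singleton, not_or] at hd
    obtain ⟨g, hg, hgf, hga, hgd⟩ := exists_move_two (k := 2) (by norm_num)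
      ⟨![none, some 0], by intro i j; fin_cases i <;> fin_cases j <;> simp⟩
      (a := a) (b := u a) (c := a) (d := d)
      (fun i => by fin_cases i; exacts [Ne.symm han, Ne.symm ha0])
      (fun i => by fin_cases i; exacts [Ne.symm hbn, Ne.symm hb0])
      (fun i => by fin_cases i; exacts [Ne.symm han, Ne.symm ha0])
      (fun i => by fin_cases i; exacts [Ne.symm hd.1, Ne.symm hd.2.1])
      (Ne.symm hne) (fun e => hd.2.2.1 e.symm)
    have hgM : g ∈ Spor.M22 := mem_M22_iff.mpr ⟨hg, hgf 0, hgf 1⟩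
    have := congrArg (fun z : Equiv.Perm GolayPt => z a) (hcomm ⟨g, hgM⟩)
    simp only [Equiv.Perm.mul_apply, hga, hgd] at this
    exact hd.2.2.2 this.symm
  have hswap : u = Equiv.swap none (some 0) := by
    refine Equiv.ext fun q => ?_
    by_cases hqn : q = none
    · rw [hqn, hun, Equiv.swap_apply_left]
    by_cases hq0 : q = some 0
    · rw [hq0, hu0, Equiv.swap_apply_right]
    rw [hfix q hqn hq0, Equiv.swap_apply_of_ne_of_ne hqn hq0]
  have hum : u ∈ M24 := mul_mem (inv_mem hcm) projInv_mem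
  have hu1 : u ≠ 1 := fun e => by
    rw [e, Equiv.Perm.one_apply] at hun
    exact Option.some_ne_none 0 hun.symm
  have h22 : ({none, some 0}ᶜ : Finset GolayPt).card ≤ (fixSet u).card :=
    Finset.card_le_card fun q hq => by
      simp only [Finset.mem_compl, Finset.mem_insert, Finset.mem_singleton, not_or] at hq
      exact mem_fixSet.mpr (hfix q hq.1 hq.2)
  have := card_fixSet_le_eight hum hu1
  rw [Finset.card_compl, card_golayPt, Finset.card_pair (Option.some_ne_none 0).symm] at h22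
  omega

theorem M22_data : (∀ g ∈ Spor.M22, ∀ x ∈ ({none, some 0}ᶜ : Finset GolayPt),
      g x ∈ ({none, some 0}ᶜ : Finset GolayPt)) ∧
    (∀ x ∈ ({none, some 0}ᶜ : Finset GolayPt), ∀ y ∈ ({none, some 0}ᶜ : Finset GolayPt),
      ∃ g ∈ Spor.M22, g x = y) ∧
    ∀ g ∈ Spor.M22, ∀ x, x ∉ ({none, some 0}ᶜ : Finset GolayPt) → g x = x := by
  refine ⟨fun g hg x hx => ?_, fun x hx y hy => ?_, fun g hg x hx => ?_⟩
  · simp only [Finset.mem_compl, Finset.mem_insert, Finset.mem_singleton, not_or] at hx ⊢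
    obtain ⟨-, h1, h2⟩ := mem_M22_iff.mp hg
    exact ⟨fun e => hx.1 (g.injective (e.trans h1.symm)),
      fun e => hx.2 (g.injective (e.trans h2.symm))⟩
  · simp only [Finset.mem_compl, Finset.mem_insert, Finset.mem_singleton, not_or] at hx hy
    obtain ⟨g, hg, hf, e⟩ := exists_move_fixing (k := 2) (by norm_num)
      ⟨![none, some 0], by intro i j; fin_cases i <;> fin_cases j <;> simp⟩ (a := x) (b := y)
      (fun i => by fin_cases i; exacts [Ne.symm hx.1, Ne.symm hx.2])
      (fun i => by fin_cases i; exacts [Ne.symm hy.1, Ne.symm hy.2])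
    exact ⟨g, mem_M22_iff.mpr ⟨hg, hf 0, hf 1⟩, e⟩
  · rw [Finset.mem_compl, not_not, Finset.mem_insert, Finset.mem_singleton] at hx
    obtain ⟨-, h1, h2⟩ := mem_M22_iff.mp hg
    rcases hx with rfl | rfl
    exacts [h1, h2]

theorem out_M22 : Nat.card (Out Spor.M22) = 2 := by
  refine card_out_eq_two outer22 outer22_not_inner fun φ => ?_
  obtain ⟨hinv, htr, hfix⟩ := M22_data
  have hT22 : ({none, some 0}ᶜ : Finset GolayPt).card = 22 := by decide +kernel
  have hst : ∀ b ∈ ({none, some 0}ᶜ : Finset GolayPt),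
      Nat.card (MulAction.stabilizer Spor.M22 b) = 20160 := fun b hb =>
    card_stabilizer_eq Spor.M22 hinv htr hb hT22 (by rw [card_M22]) (by norm_num)
  have ha : (some 1 : GolayPt) ∈ ({none, some 0}ᶜ : Finset GolayPt) := by decide +kernel
  obtain ⟨b, hbT, hb⟩ := exists_fixed_M22
    (Subgroup.map_subtype_le
      ((MulAction.stabilizer Spor.M22 (some 1 : GolayPt)).map φ.toMonoidHom))
    (by rw [Subgroup.card_map_of_injective Spor.M22.subtype_injective,
      Subgroup.card_map_of_injective φ.injective, hst _ ha])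
  have hab := image_stabilizer Spor.M22 (T := ∅) (T' := ∅) φ (hst _ ha) (hst _ hbT)
    fun h hh => hb _ ⟨h, hh, rfl⟩
  obtain ⟨π, -, hT, hout, hφ⟩ := exists_induced Spor.M22 _ φ hinv htr ha hbT hab
  have hconj := eq_conj_of_induced Spor.M22 φ hT hout hfix hφ
  have hπn : π none = none := hout none (by simp)
  have hπ0 : π (some 0) = some 0 := hout (some 0) (by simp)
  set s : Equiv.Perm GolayPt := Equiv.swap none (some 0) with hs
  rcases mem_M24_of_normalizing_two hπn hπ0 (fun g hg hgn hg0 =>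
    (mem_M22_iff.mp (hconj ⟨g, mem_M22_iff.mpr ⟨hg, hgn, hg0⟩⟩ ▸
      (φ ⟨g, mem_M22_iff.mpr ⟨hg, hgn, hg0⟩⟩).2)).1) with hπ | hπ
  · exact ⟨⟨π, mem_M22_iff.mpr ⟨hπ, hπn, hπ0⟩⟩, Or.inl (eq_conj_mem Spor.M22 _ hconj)⟩
  · obtain ⟨p1, p2, -⟩ := projInv_swap
    have hs1 : s none = some 0 := Equiv.swap_apply_left _ _
    have hs2 : s (some 0) = none := Equiv.swap_apply_right _ _
    set d : Equiv.Perm GolayPt := projInv⁻¹ * (s * π) with hd
    have hdM : d ∈ Spor.M22 := by
      refine mem_M22_iff.mpr ⟨mul_mem (inv_mem projInv_mem) hπ, ?_, ?_⟩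
      · rw [hd, Equiv.Perm.mul_apply, Equiv.Perm.mul_apply, hπn, hs1, Equiv.Perm.inv_eq_iff_eq, p1]
      · rw [hd, Equiv.Perm.mul_apply, Equiv.Perm.mul_apply, hπ0, hs2, Equiv.Perm.inv_eq_iff_eq, p2]
    refine ⟨⟨d, hdM⟩, Or.inr (MulEquiv.ext fun g => Subtype.ext ?_)⟩
    rw [MulAut.mul_apply]
    simp only [outer22, normConj_apply, conj_apply_coe]
    have hss : s⁻¹ = s := Equiv.swap_inv _ _
    have hcs : ∀ h : Equiv.Perm GolayPt, h ∈ Spor.M22 → s * h * s = h := fun h hh => by
      obtain ⟨-, h1, h2⟩ := mem_M22_iff.mp hh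
      refine Equiv.ext fun q => ?_
      have hsq : ∀ q, q ≠ none → q ≠ some 0 → s q = q := fun q a b =>
        Equiv.swap_apply_of_ne_of_ne a b
      by_cases hqn : q = none
      · simp only [hqn, Equiv.Perm.mul_apply, hs1, h2, hs2, h1]
      by_cases hq0 : q = some 0
      · simp only [hq0, Equiv.Perm.mul_apply, hs2, h1, hs1, h2]
      rw [Equiv.Perm.mul_apply, Equiv.Perm.mul_apply, hsq q hqn hq0]
      exact hsq _ (fun e => hqn (h.injective (e.trans h1.symm)))
        (fun e => hq0 (h.injective (e.trans h2.symm)))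
    calc (φ g : Equiv.Perm GolayPt) = s * (φ g : Equiv.Perm GolayPt) * s :=
          (hcs _ (φ g).2).symm
      _ = projInv * (d * g * d⁻¹) * projInv⁻¹ := by
          rw [hconj, hd]
          simp only [mul_inv_rev, inv_inv, hss]
          group

/-! ### Hexads and stabilisers -/

/-- The stabiliser of a hexad induces every permutation of it. -/
theorem exists_hexad_perm {h : Finset GolayPt} (hh : IsHexad h) {F : Finset GolayPt} (hF : F ⊆ h)
    (hF5 : 5 ≤ F.card) (σ : Equiv.Perm {x // x ∈ F}) :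
    ∃ g ∈ Spor.M12, g • h = h ∧ ∀ x : {x // x ∈ F}, g x = σ x := by
  classical
  obtain ⟨x⟩ := Function.Embedding.nonempty_of_card_le (α := Fin 5) (β := {x // x ∈ F})
    (by rw [Fintype.card_fin, Fintype.card_coe]; exact hF5)
  obtain ⟨g, hg, hgd, he⟩ := exists_dodecad_move le_rfl squareDodecad_mem'
    (x.trans (Function.Embedding.subtype _)) ((x.trans σ.toEmbedding).trans (Function.Embedding.subtype _))
    (fun i => hh.subset (hF (x i).2)) (fun i => hh.subset (hF (σ (x i)).2))
  have hgM : g ∈ Spor.M12 := ⟨hg, hgd⟩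
  set s := (Finset.univ.map (x.trans (Function.Embedding.subtype _))) with hs
  have hs5 : s.card = 5 := by rw [hs]; simp
  have hsh : s ⊆ h := fun p hp => by
    obtain ⟨i, -, rfl⟩ := Finset.mem_map.mp hp
    exact hF (x i).2
  have hgs : g • s ⊆ h := fun p hp => by
    obtain ⟨q, hq, rfl⟩ := Finset.mem_smul_finset.mp hp
    obtain ⟨i, -, rfl⟩ := Finset.mem_map.mp hq
    rw [Equiv.Perm.smul_def, he i]
    exact hF (σ (x i)).2
  obtain ⟨h', hh', -, huniq⟩ := exists_hexad_five (s := g • s) (hgs.trans hh.subset)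
    (by rw [Finset.card_smul_finset, hs5])
  have hgh : g • h = h := (huniq _ (hh.smul hgM) (Finset.smul_finset_subset_smul_finset hsh)).trans
    (huniq _ hh hgs).symm
  refine ⟨g, hgM, hgh, fun y => ?_⟩
  by_cases hy : y ∈ Finset.univ.map x
  · obtain ⟨i, -, rfl⟩ := Finset.mem_map.mp hy
    exact he i
  have hF6 : F.card = 6 := by
    have h1 := Finset.card_le_card hF
    rw [hh.card] at h1
    by_contra hne
    refine hy ?_
    have : Finset.univ.map x = (Finset.univ : Finset {x // x ∈ F}) :=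
      Finset.eq_univ_of_card _ (by
        rw [Finset.card_map, Finset.card_univ, Fintype.card_fin, Fintype.card_coe]
        omega)
    rw [this]; exact Finset.mem_univ _
  have hFh : F = h := Finset.eq_of_subset_of_card_le hF (by rw [hh.card, hF6])
  have hgy : g y ∈ F := hFh.ge ((apply_mem_octad_iff hgh _).mpr (hF y.2))
  by_contra hne
  obtain ⟨z, hz⟩ := σ.surjective ⟨g y, hgy⟩
  have hzy : z ≠ y := by
    rintro rfl
    exact hne (congrArg Subtype.val hz).symm
  have hzx : z ∈ Finset.univ.map x := by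
    by_contra hzn
    have h2 := Finset.card_le_card (Finset.subset_univ (insert z (insert y (Finset.univ.map x))))
    rw [Finset.card_insert_of_notMem (by simp only [Finset.mem_insert, not_or]; exact ⟨hzy, hzn⟩),
      Finset.card_insert_of_notMem hy, Finset.card_map, Finset.card_univ, Fintype.card_fin,
      Finset.card_univ, Fintype.card_coe, hF6] at h2
    omega
  obtain ⟨i, -, rfl⟩ := Finset.mem_map.mp hzx
  have : g (x i : GolayPt) = g (y : GolayPt) := (he i).trans (congrArg Subtype.val hz)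
  exact hzy (Subtype.ext (g.injective this))

/-- A group mapping onto all permutations of an invariant set, faithfully. -/
theorem card_eq_factorial {H : Subgroup (Equiv.Perm GolayPt)} {s : Finset GolayPt}
    (hinv : ∀ g ∈ H, ∀ x ∈ s, g x ∈ s) (hfaith : ∀ g ∈ H, (∀ x ∈ s, g x = x) → g = 1)
    (hsurj : ∀ σ : Equiv.Perm {x // x ∈ s}, ∃ g ∈ H, ∀ x : {x // x ∈ s}, g x = σ x) :
    Nat.card H = s.card.factorial := by
  have hbij : Function.Bijective (invHom H s hinv) := by
    refine ⟨?_, fun σ => ?_⟩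
    · rw [injective_iff_map_eq_one]
      intro g hg
      exact Subtype.ext (hfaith g g.2 fun x hx => congrArg Subtype.val (Equiv.ext_iff.mp hg ⟨x, hx⟩))
    · obtain ⟨g, hg, e⟩ := hsurj σ
      exact ⟨⟨g, hg⟩, Equiv.ext fun x => Subtype.ext (e x)⟩
  rw [Nat.card_eq_of_bijective _ hbij, Nat.card_perm, Nat.card_eq_finsetCard]

theorem exists_perm_of_card {H : Subgroup (Equiv.Perm GolayPt)} {s : Finset GolayPt}
    (hinv : ∀ g ∈ H, ∀ x ∈ s, g x ∈ s) (hfaith : ∀ g ∈ H, (∀ x ∈ s, g x = x) → g = 1)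
    (hc : Nat.card H = s.card.factorial) (σ : Equiv.Perm {x // x ∈ s}) :
    ∃ g ∈ H, ∀ x : {x // x ∈ s}, g x = σ x := by
  have hinj : Function.Injective (invHom H s hinv) := by
    rw [injective_iff_map_eq_one]
    intro g hg
    exact Subtype.ext (hfaith g g.2 fun x hx => congrArg Subtype.val (Equiv.ext_iff.mp hg ⟨x, hx⟩))
  obtain ⟨g, hg⟩ := ((Nat.bijective_iff_injective_and_card _).mpr ⟨hinj, by
    rw [hc, Nat.card_perm, Nat.card_eq_finsetCard]⟩).2 σ
  exact ⟨g, g.2, fun x => congrArg Subtype.val (Equiv.ext_iff.mp hg x)⟩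

theorem inv_of_smul_eq {g : Equiv.Perm GolayPt} {s : Finset GolayPt} (h : g • s = s)
    (x : GolayPt) (hx : x ∈ s) : g x ∈ s := (apply_mem_octad_iff h x).mpr hx

theorem M12_faith {g : Equiv.Perm GolayPt} (hg : g ∈ Spor.M12) {s : Finset GolayPt}
    (hs : s ⊆ Spor.squareDodecad) (h5 : 5 ≤ s.card) (h : ∀ x ∈ s, g x = x) : g = 1 :=
  eq_one_of_fix_five squareDodecad_mem' hg.1 hg.2 hs h5 h

/-- The setwise stabiliser of a six-set in M12 has order 720 exactly for hexads. -/
theorem hexad_iff_card {s : Finset GolayPt} (hs : s ⊆ Spor.squareDodecad) (h6 : s.card = 6) :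
    IsHexad s ↔ Nat.card ↥(Spor.M12 ⊓ MulAction.stabilizer (Equiv.Perm GolayPt) s) = 720 := by
  set H := Spor.M12 ⊓ MulAction.stabilizer (Equiv.Perm GolayPt) s
  have hinv : ∀ g ∈ H, ∀ x ∈ s, g x ∈ s := fun g hg x hx => inv_of_smul_eq hg.2 x hx
  have hfaith : ∀ g ∈ H, (∀ x ∈ s, g x = x) → g = 1 :=
    fun g hg h => M12_faith hg.1 hs (by omega) h
  constructor
  · intro hh
    rw [card_eq_factorial hinv hfaith fun σ => ?_, h6]
    · rfl
    obtain ⟨g, hg, hgh, e⟩ := exists_hexad_perm hh subset_rfl (by omega) σ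
    exact ⟨g, ⟨hg, hgh⟩, e⟩
  · intro hc
    obtain ⟨x, hx, y, hy, hxy⟩ := Finset.one_lt_card.mp (show 1 < s.card by omega)
    obtain ⟨g, hg, e⟩ := exists_perm_of_card hinv hfaith (by rw [hc, h6]; rfl)
      (Equiv.swap ⟨x, hx⟩ ⟨y, hy⟩)
    have hg1 : g ≠ 1 := fun e1 => hxy (by
      have := e ⟨x, hx⟩
      rw [e1, Equiv.swap_apply_left] at this
      exact this)
    set F := (s.erase x).erase y with hF
    have hFc : F.card = 4 := by
      rw [hF, Finset.card_erase_of_mem (Finset.mem_erase.mpr ⟨hxy.symm, hy⟩),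
        Finset.card_erase_of_mem hx, h6]
    have hFfix : ∀ p ∈ F, g p = p := fun p hp => by
      simp only [hF, Finset.mem_erase] at hp
      have := e ⟨p, hp.2.2⟩
      rwa [Equiv.swap_apply_of_ne_of_ne (fun h => hp.2.1 (congrArg Subtype.val h))
        (fun h => hp.1 (congrArg Subtype.val h))] at this
    obtain ⟨a, ha⟩ := Finset.card_pos.mp (show 0 < F.card by omega)
    exact isHexad_of_transposition hs h6 hg.1 hg1 hg.2
      (Finset.mem_of_mem_erase (Finset.mem_of_mem_erase ha)) (hFfix a ha)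
      ((Finset.erase_subset _ _).trans (Finset.erase_subset _ _)) hFc.ge hFfix

/-- The setwise stabiliser of a five-set in M11 has order 120 exactly for pentads. -/
theorem pentad_iff_card {s : Finset GolayPt} (hs : s ⊆ sqPts) (h5 : s.card = 5) :
    IsHexad (insert (some 0) s) ↔
      Nat.card ↥(Spor.M11 ⊓ MulAction.stabilizer (Equiv.Perm GolayPt) s) = 120 := by
  set H := Spor.M11 ⊓ MulAction.stabilizer (Equiv.Perm GolayPt) s
  have hsd : s ⊆ Spor.squareDodecad := fun p hp => (mem_sqPts.mp (hs hp)).2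
  have h0 : (some 0 : GolayPt) ∉ s := fun h => (mem_sqPts.mp (hs h)).1 rfl
  have h6 : (insert (some 0) s).card = 6 := by rw [Finset.card_insert_of_notMem h0, h5]
  have h6d : insert (some 0) s ⊆ Spor.squareDodecad :=
    Finset.insert_subset zero_mem_squareDodecad hsd
  have hinv : ∀ g ∈ H, ∀ x ∈ s, g x ∈ s := fun g hg x hx => inv_of_smul_eq hg.2 x hx
  have hfaith : ∀ g ∈ H, (∀ x ∈ s, g x = x) → g = 1 :=
    fun g hg h => M12_faith hg.1.1 hsd (by omega) h
  constructor
  · intro hh
    rw [card_eq_factorial hinv hfaith fun σ => ?_, h5]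
    · rfl
    obtain ⟨g, hg, hgh, e⟩ := exists_hexad_perm hh (Finset.subset_insert _ _) (by omega) σ
    have hgs : g • s = s := by
      refine Finset.eq_of_subset_of_card_le ?_ (le_of_eq (Finset.card_smul_finset _ _).symm)
      intro p hp
      obtain ⟨q, hq, rfl⟩ := Finset.mem_smul_finset.mp hp
      rw [Equiv.Perm.smul_def, e ⟨q, hq⟩]
      exact (σ ⟨q, hq⟩).2
    have hg0 : g (some 0) = some 0 := by
      have hm := (apply_mem_octad_iff hgh _).mpr (Finset.mem_insert_self (some 0) s)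
      refine (Finset.mem_insert.mp hm).resolve_right fun hm' => h0 ?_
      exact (apply_mem_octad_iff hgs _).mp hm'
    exact ⟨g, ⟨⟨hg, hg0⟩, hgs⟩, e⟩
  · intro hc
    obtain ⟨x, hx, y, hy, hxy⟩ := Finset.one_lt_card.mp (show 1 < s.card by omega)
    obtain ⟨g, hg, e⟩ := exists_perm_of_card hinv hfaith (by rw [hc, h5]; rfl)
      (Equiv.swap ⟨x, hx⟩ ⟨y, hy⟩)
    have hg0 : g (some 0) = some 0 := hg.1.2
    have hg1 : g ≠ 1 := fun e1 => hxy (by
      have := e ⟨x, hx⟩
      rw [e1, Equiv.swap_apply_left] at this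
      exact this)
    set F := insert (some 0 : GolayPt) ((s.erase x).erase y) with hF
    have hFc : F.card = 4 := by
      rw [hF, Finset.card_insert_of_notMem
        (fun h => h0 (Finset.mem_of_mem_erase (Finset.mem_of_mem_erase h))),
        Finset.card_erase_of_mem (Finset.mem_erase.mpr ⟨hxy.symm, hy⟩),
        Finset.card_erase_of_mem hx, h5]
    have hFfix : ∀ p ∈ F, g p = p := fun p hp => by
      simp only [hF, Finset.mem_insert, Finset.mem_erase] at hp
      rcases hp with rfl | hp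
      · exact hg0
      have := e ⟨p, hp.2.2⟩
      rwa [Equiv.swap_apply_of_ne_of_ne (fun h => hp.2.1 (congrArg Subtype.val h))
        (fun h => hp.1 (congrArg Subtype.val h))] at this
    refine isHexad_of_transposition h6d h6 hg.1.1 hg1 ?_ (Finset.mem_insert_self _ _) hg0
      (F := F) (Finset.insert_subset_insert _ ((Finset.erase_subset _ _).trans (Finset.erase_subset _ _)))
      hFc.ge hFfix
    rw [Finset.smul_finset_insert, Equiv.Perm.smul_def, hg0, show g • s = s from hg.2]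

/-- Setwise stabilisers correspond under an induced map. -/
theorem card_stab_image {G : Subgroup (Equiv.Perm GolayPt)} (φ : G ≃* G) {π : Equiv.Perm GolayPt}
    {T : Finset GolayPt} (hφ : ∀ g : G, ∀ x ∈ T, π ((g : Equiv.Perm GolayPt) x) =
      (φ g : Equiv.Perm GolayPt) (π x)) {s : Finset GolayPt} (hs : s ⊆ T) :
    Nat.card ↥(G ⊓ MulAction.stabilizer (Equiv.Perm GolayPt) (π • s)) =
      Nat.card ↥(G ⊓ MulAction.stabilizer (Equiv.Perm GolayPt) s) := by
  rw [← Nat.card_congr (stabilizerInfEquiv G (π • s)).toEquiv,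
    ← Nat.card_congr (stabilizerInfEquiv G s).toEquiv]
  refine (Nat.card_congr (φ.toEquiv.subtypeEquiv fun g => ?_)).symm
  show (g : Equiv.Perm GolayPt) • s = s ↔ (φ g : Equiv.Perm GolayPt) • π • s = π • s
  have : (φ g : Equiv.Perm GolayPt) • π • s = π • (g : Equiv.Perm GolayPt) • s := by
    simp only [← mul_smul]
    refine Finset.image_congr fun x hx => ?_
    show (φ g : Equiv.Perm GolayPt) (π x) = π ((g : Equiv.Perm GolayPt) x)
    exact (hφ g x (hs hx)).symm
  rw [this, smul_left_cancel_iff]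

/-- The element of M12 agreeing with a hexad-preserving map induces the automorphism. -/
theorem exists_conj_of_hexads {G : Subgroup (Equiv.Perm GolayPt)} (hG : G ≤ Spor.M12)
    {T : Finset GolayPt} (hTd : T ⊆ Spor.squareDodecad) (φ : G ≃* G)
    (hfaith : ∀ g ∈ G, (∀ x ∈ T, g x = x) → g = 1)
    {π : Equiv.Perm GolayPt} (hT : ∀ x, π x ∈ T ↔ x ∈ T) (hout : ∀ x, x ∉ T → π x = x)
    (hφ : ∀ g : G, ∀ x ∈ T, π ((g : Equiv.Perm GolayPt) x) = (φ g : Equiv.Perm GolayPt) (π x))
    (hπ : ∀ h, IsHexad h → IsHexad (π • h))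
    (hmem : ∀ c ∈ Spor.M12, (∀ p ∈ Spor.squareDodecad, c p = π p) → c ∈ G) :
    ∃ c, φ = MulAut.conj c := by
  obtain ⟨c, hc, he⟩ := exists_M12_of_hexads hπ fun p hp => by
    by_cases hpT : p ∈ T
    · exact hTd ((hT p).mpr hpT)
    · rwa [hout p hpT]
  have hcG := hmem c hc he
  refine ⟨⟨c, hcG⟩, eq_conj_mem G hcG (coe_eq_of_induced φ hfaith
    (fun g hg => mul_mem (mul_mem hcG hg) (inv_mem hcG)) (fun x => ?_) fun g x hx => ?_)⟩
  · by_cases hx : x ∈ Spor.squareDodecad
    · rw [he x hx, hT]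
    · exact iff_of_false (fun h => hx ((apply_mem_octad_iff hc.2 x).mp (hTd h))) fun h => hx (hTd h)
  · rw [he _ ((apply_mem_octad_iff (hG g.2).2 x).mpr (hTd hx)), he _ (hTd hx), hφ g x hx]

/-! ### M11 -/

theorem exists_move_M11 {x y : GolayPt} (hx : x ∈ sqPts) (hy : y ∈ sqPts) :
    ∃ g ∈ Spor.M11, g x = y := by
  obtain ⟨i, -, e⟩ := sqPts_orbit x hx
  obtain ⟨j, -, e'⟩ := sqPts_orbit y hy
  have hd : doublePerm ∈ Spor.M11 :=
    mem_M11_iff.mpr ⟨doublePerm_mem, doublePerm_dodecad, doublePerm_fix.2⟩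
  refine ⟨doublePerm ^ j * (doublePerm ^ i)⁻¹, mul_mem (pow_mem hd j) (inv_mem (pow_mem hd i)), ?_⟩
  rw [Equiv.Perm.mul_apply, ← e, Equiv.Perm.coe_inv, Equiv.symm_apply_apply, e']

theorem out_M11 : Nat.card (Out Spor.M11) = 1 := by
  refine card_out_eq_one fun φ => ?_
  have hinv : ∀ g ∈ Spor.M11, ∀ x ∈ sqPts, g x ∈ sqPts := fun g hg x hx => sqPts_inv_M11 hg hx
  have htr : ∀ x ∈ sqPts, ∀ y ∈ sqPts, ∃ g ∈ Spor.M11, g x = y :=
    fun x hx y hy => exists_move_M11 hx hy
  have hst : ∀ b ∈ sqPts, Nat.card (MulAction.stabilizer Spor.M11 b) = 720 := fun b hb =>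
    card_stabilizer_eq Spor.M11 hinv htr hb sqPts_card (by rw [card_M11]) (by norm_num)
  have ha := one_mem_sqPts
  obtain ⟨b, hbT, hb⟩ := exists_fixed_M11
    (Subgroup.map_subtype_le
      ((MulAction.stabilizer Spor.M11 (some 1 : GolayPt)).map φ.toMonoidHom))
    (by rw [Subgroup.card_map_of_injective Spor.M11.subtype_injective,
      Subgroup.card_map_of_injective φ.injective, hst _ ha])
  have hab := image_stabilizer Spor.M11 (T := ∅) (T' := ∅) φ (hst _ ha) (hst _ hbT)
    fun h hh => hb _ ⟨h, hh, rfl⟩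
  obtain ⟨π, -, hT, hout, hφ⟩ := exists_induced Spor.M11 sqPts φ hinv htr ha hbT hab
  have hπ0 : π (some 0) = some 0 := hout _ fun h => (mem_sqPts.mp h).1 rfl
  have hfaith : ∀ g ∈ Spor.M11, (∀ x ∈ sqPts, g x = x) → g = 1 := fun g hg h =>
    eq_one_of_fix_sqPts (mem_M11_iff.mp hg).1 (mem_M11_iff.mp hg).2.2 h
  have hthrough : ∀ h, IsHexad h → some 0 ∈ h → IsHexad (π • h) := by
    intro h hh h0
    set s := h.erase (some 0) with hs
    have hins : insert (some 0) s = h := Finset.insert_erase h0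
    have hsq : s ⊆ sqPts := fun p hp =>
      mem_sqPts.mpr ⟨(Finset.mem_erase.mp hp).1, hh.subset (Finset.mem_erase.mp hp).2⟩
    have hsq' : π • s ⊆ sqPts := fun p hp => by
      obtain ⟨q, hq, rfl⟩ := Finset.mem_smul_finset.mp hp
      exact (hT q).mpr (hsq hq)
    have h5 : s.card = 5 := by rw [hs, Finset.card_erase_of_mem h0, hh.card]
    rw [← hins, Finset.smul_finset_insert, Equiv.Perm.smul_def, hπ0,
      pentad_iff_card hsq' (by rw [Finset.card_smul_finset, h5]), card_stab_image φ hφ hsq,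
      ← pentad_iff_card hsq h5, hins]
    exact hh
  have hpd : π • Spor.squareDodecad = Spor.squareDodecad := by
    refine Finset.eq_of_subset_of_card_le ?_ (le_of_eq (Finset.card_smul_finset _ _).symm)
    intro p hp
    obtain ⟨q, hq, rfl⟩ := Finset.mem_smul_finset.mp hp
    rw [Equiv.Perm.smul_def]
    by_cases hq' : q ∈ sqPts
    · exact (mem_sqPts.mp ((hT q).mpr hq')).2
    · rw [hout q hq']; exact hq
  have hπ : ∀ h, IsHexad h → IsHexad (π • h) := by
    intro h hh
    by_cases h0 : some 0 ∈ h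
    · exact hthrough h hh h0
    have hcompl : ∀ k, IsHexad k → IsHexad (Spor.squareDodecad \ k) := by
      rintro _ ⟨o, ho, rfl, hc⟩
      have hd := mem_dodecads_iff.mp squareDodecad_mem'
      have ho' := mem_octads_iff.mp ho
      refine ⟨symmDiff o Spor.squareDodecad, mem_octads_iff.mpr ⟨supports_symmDiff ho'.1 hd.1, ?_⟩,
        ?_, ?_⟩
      · have := card_symmDiff_add o Spor.squareDodecad
        omega
      · ext p; simp [Finset.mem_symmDiff]; tauto
      · rw [Finset.card_sdiff_of_subset Finset.inter_subset_right, hc, hd.2]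
    have h2 := hcompl _ (hthrough _ (hcompl h hh)
      (Finset.mem_sdiff.mpr ⟨zero_mem_squareDodecad, h0⟩))
    rwa [Finset.smul_finset_sdiff, hpd, Finset.sdiff_sdiff_eq_self] at h2
    intro p hp
    rw [← hpd]
    exact Finset.smul_finset_subset_smul_finset hh.subset hp
  exact exists_conj_of_hexads inf_le_left (fun p hp => (mem_sqPts.mp hp).2) φ hfaith hT hout hφ hπ
    fun c hc he => ⟨hc, (he _ zero_mem_squareDodecad).trans hπ0⟩

/-! ### M12 -/

/-- A table exchanging the dodecad of squares and its complement. -/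
def exchangeTab : List ℕ :=
  [19, 21, 11, 14, 15, 4, 10, 16, 23, 20, 2, 3, 7, 5, 0, 1, 17, 6, 22, 12, 8, 13, 18, 9]

theorem exchangeTab_spec : Function.Injective (permFun exchangeTab) ∧
    PreservesRows (permFun exchangeTab) ∧
    ∀ p, p ∈ Spor.squareDodecad ↔ permFun exchangeTab p ∉ Spor.squareDodecad := by
  decide +kernel

theorem tabPerm_exchange :
    tabPerm exchangeTab ∈ M24 ∧ tabPerm exchangeTab • Spor.squareDodecad = Spor.squareDodecadᶜ ∧
      tabPerm exchangeTab • Spor.squareDodecadᶜ = Spor.squareDodecad := by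
  obtain ⟨hi, hr, hd⟩ := exchangeTab_spec
  have e : (⇑(tabPerm exchangeTab)) = permFun exchangeTab := funext (tabPerm_apply hi)
  refine ⟨mem_M24_of_preservesRows (by rw [e]; exact hr), ?_, ?_⟩ <;>
  · ext p
    obtain ⟨q, rfl⟩ := (tabPerm exchangeTab).surjective p
    rw [← Finset.inv_smul_mem_iff, Equiv.Perm.smul_def, Equiv.Perm.coe_inv, Equiv.symm_apply_apply,
      tabPerm_apply hi]
    have := hd q
    simp only [Finset.mem_compl]
    tauto

theorem conj_mem_M12 {c : Equiv.Perm GolayPt} (hc : c ∈ M24)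
    (h1 : c • Spor.squareDodecad = Spor.squareDodecadᶜ)
    (h2 : c • Spor.squareDodecadᶜ = Spor.squareDodecad) {g : Equiv.Perm GolayPt}
    (hg : g ∈ Spor.M12) : c * g * c⁻¹ ∈ Spor.M12 ∧ c⁻¹ * g * c ∈ Spor.M12 := by
  obtain ⟨hm, hd⟩ := hg
  replace hd : g • Spor.squareDodecad = Spor.squareDodecad := hd
  have hdc : g • Spor.squareDodecadᶜ = Spor.squareDodecadᶜ := by
    rw [Finset.compl_eq_univ_sdiff, Finset.smul_finset_sdiff, Finset.smul_finset_univ, hd]
  refine ⟨⟨M24.mul_mem (M24.mul_mem hc hm) (M24.inv_mem hc), ?_⟩,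
    ⟨M24.mul_mem (M24.mul_mem (M24.inv_mem hc) hm) hc, ?_⟩⟩
  · show (c * g * c⁻¹) • Spor.squareDodecad = Spor.squareDodecad
    rw [mul_smul, mul_smul, inv_smul_eq_iff.mpr h2.symm, hdc, h2]
  · show (c⁻¹ * g * c) • Spor.squareDodecad = Spor.squareDodecad
    rw [mul_smul, mul_smul, h1, hdc, inv_smul_eq_iff.mpr h1.symm]

/-- The outer automorphism of M12. -/
noncomputable def outer12 : MulAut Spor.M12 :=
  normConj Spor.M12 (tabPerm exchangeTab)
    (fun _ hg => (conj_mem_M12 tabPerm_exchange.1 tabPerm_exchange.2.1 tabPerm_exchange.2.2 hg).1)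
    (fun _ hg => (conj_mem_M12 tabPerm_exchange.1 tabPerm_exchange.2.1 tabPerm_exchange.2.2 hg).2)

theorem exists_move_M12 {x y : GolayPt}
    (h : (x ∈ Spor.squareDodecad ∧ y ∈ Spor.squareDodecad) ∨
      (x ∉ Spor.squareDodecad ∧ y ∉ Spor.squareDodecad)) :
    ∃ g ∈ Spor.M12, g x = y := by
  rcases h with ⟨hx, hy⟩ | ⟨hx, hy⟩
  · obtain ⟨g, hg, hgd, e⟩ := exists_dodecad_move (k := 1) (by norm_num) squareDodecad_mem'
      ⟨fun _ => x, fun i j _ => Subsingleton.elim i j⟩ ⟨fun _ => y, fun i j _ => Subsingleton.elim i j⟩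
      (fun _ => hx) (fun _ => hy)
    exact ⟨g, ⟨hg, hgd⟩, e 0⟩
  · have hd := compl_mem_dodecads squareDodecad_mem'
    obtain ⟨g, hg, hgd, e⟩ := exists_dodecad_move (k := 1) (by norm_num) hd
      ⟨fun _ => x, fun i j _ => Subsingleton.elim i j⟩ ⟨fun _ => y, fun i j _ => Subsingleton.elim i j⟩
      (fun _ => Finset.mem_compl.mpr hx) (fun _ => Finset.mem_compl.mpr hy)
    refine ⟨g, ⟨hg, ?_⟩, e 0⟩
    show g • Spor.squareDodecad = Spor.squareDodecad
    conv_lhs => rw [← compl_compl Spor.squareDodecad, Finset.compl_eq_univ_sdiff,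
      Finset.smul_finset_sdiff, Finset.smul_finset_univ, hgd]
    rw [← Finset.compl_eq_univ_sdiff, compl_compl]

theorem card_stabilizer_M12 (b : GolayPt) :
    Nat.card (MulAction.stabilizer Spor.M12 b) = 7920 := by
  by_cases hb : b ∈ Spor.squareDodecad
  · exact card_stabilizer_eq Spor.M12
      (fun g hg x hx => (apply_mem_octad_iff hg.2 x).mpr hx)
      (fun x hx y hy => exists_move_M12 (Or.inl ⟨hx, hy⟩)) hb
      (mem_dodecads_iff.mp squareDodecad_mem').2 (by rw [card_M12]) (by norm_num)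
  · exact card_stabilizer_eq Spor.M12 (T := Spor.squareDodecadᶜ)
      (fun g hg x hx => Finset.mem_compl.mpr fun h =>
        Finset.mem_compl.mp hx ((apply_mem_octad_iff hg.2 x).mp h))
      (fun x hx y hy => exists_move_M12
        (Or.inr ⟨Finset.mem_compl.mp hx, Finset.mem_compl.mp hy⟩)) (Finset.mem_compl.mpr hb)
      (mem_dodecads_iff.mp (compl_mem_dodecads squareDodecad_mem')).2 (by rw [card_M12])
      (by norm_num)

theorem inner_of_stab_M12 (φ : MulAut Spor.M12) {b : GolayPt} (hb : b ∈ Spor.squareDodecad)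
    (hab : ∀ g : Spor.M12, (g : Equiv.Perm GolayPt) (some 0) = some 0 ↔
      (φ g : Equiv.Perm GolayPt) b = b) : ∃ c, φ = MulAut.conj c := by
  have hinv : ∀ g ∈ Spor.M12, ∀ x ∈ Spor.squareDodecad, g x ∈ Spor.squareDodecad :=
    fun g hg x hx => (apply_mem_octad_iff hg.2 x).mpr hx
  obtain ⟨π, -, hT, hout, hφ⟩ := exists_induced Spor.M12 Spor.squareDodecad φ hinv
    (fun x hx y hy => exists_move_M12 (Or.inl ⟨hx, hy⟩)) zero_mem_squareDodecad hb hab
  refine exists_conj_of_hexads le_rfl subset_rfl φ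
    (fun g hg h => M12_faith hg subset_rfl
      (by rw [(mem_dodecads_iff.mp squareDodecad_mem').2]; norm_num) h) hT hout hφ ?_
    fun c hc _ => hc
  intro h hh
  have hsub : π • h ⊆ Spor.squareDodecad := fun p hp => by
    obtain ⟨q, hq, rfl⟩ := Finset.mem_smul_finset.mp hp
    exact (hT q).mpr (hh.subset hq)
  rw [hexad_iff_card hsub (by rw [Finset.card_smul_finset, hh.card]),
    card_stab_image φ hφ hh.subset, ← hexad_iff_card hh.subset hh.card]
  exact hh

theorem outer12_apply_coe (g : Spor.M12) : (outer12 g : Equiv.Perm GolayPt) =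
    tabPerm exchangeTab * g * (tabPerm exchangeTab)⁻¹ := rfl

theorem outer12_not_inner (c : Spor.M12) : outer12 ≠ MulAut.conj c := by
  intro h
  set t := tabPerm exchangeTab with ht
  set x := (c : Equiv.Perm GolayPt) (some 0) with hx
  have hxd : x ∈ Spor.squareDodecad := (apply_mem_octad_iff c.2.2 _).mpr zero_mem_squareDodecad
  have hyd : t (some 0) ∉ Spor.squareDodecad := Finset.mem_compl.mp
    ((apply_mem_octad_iff tabPerm_exchange.2.1 _).mpr zero_mem_squareDodecad)
  obtain ⟨z, hz, hzy⟩ := Finset.exists_mem_notMem_of_card_lt_card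
    (show ({t (some 0)} : Finset GolayPt).card < Spor.squareDodecadᶜ.card by
      rw [(mem_dodecads_iff.mp (compl_mem_dodecads squareDodecad_mem')).2]; simp)
  obtain ⟨a, ha, han⟩ := Finset.exists_mem_notMem_of_card_lt_card
    (show ({t (some 0), z} : Finset GolayPt).card < Spor.squareDodecadᶜ.card by
      rw [(mem_dodecads_iff.mp (compl_mem_dodecads squareDodecad_mem')).2]
      exact lt_of_le_of_lt Finset.card_le_two (by norm_num))
  simp only [Finset.mem_insert, Finset.mem_singleton, not_or] at han hzy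
  obtain ⟨g, hg, hgd, hgx, hgi⟩ := exists_move_triple squareDodecad_mem' hxd
    (emb3 (Ne.symm hzy) (Ne.symm han.1) (Ne.symm han.2))
    (emb3 hzy (Ne.symm han.2) (Ne.symm han.1))
    (fun i => by fin_cases i; exacts [hyd, Finset.mem_compl.mp hz, Finset.mem_compl.mp ha])
    (fun i => by fin_cases i; exacts [Finset.mem_compl.mp hz, hyd, Finset.mem_compl.mp ha])
  have hgy : g (t (some 0)) = z := hgi 0
  let G0 : Spor.M12 := ⟨g, hg, hgd⟩
  have hpre : ∀ u : Spor.M12, (u : Equiv.Perm GolayPt) (some 0) = some 0 ↔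
      (MulAut.conj c u : Equiv.Perm GolayPt) x = x := fun u => by
    simp [conj_apply_coe, hx]
  have hpre' : ∀ u : Spor.M12, (u : Equiv.Perm GolayPt) (some 0) = some 0 ↔
      (outer12 u : Equiv.Perm GolayPt) (t (some 0)) = t (some 0) := fun u => by
    simp [outer12_apply_coe, ← ht]
  have h1 : (((MulAut.conj c).symm G0 : Spor.M12) : Equiv.Perm GolayPt) (some 0) = some 0 :=
    (hpre _).mpr (by rw [MulEquiv.apply_symm_apply]; exact hgx)
  have h2 := (hpre' _).mp h1
  rw [h, MulEquiv.apply_symm_apply] at h2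
  exact hzy ((hgy.symm.trans h2))

theorem out_M12 : Nat.card (Out Spor.M12) = 2 := by
  refine card_out_eq_two outer12 outer12_not_inner fun φ => ?_
  obtain ⟨b, hb⟩ := exists_fixed_M12
    (H := (MulAction.stabilizer Spor.M12 (some 0 : GolayPt)).map φ.toMonoidHom)
    (by rw [Subgroup.card_map_of_injective φ.injective, card_stabilizer_M12])
  have hab := image_stabilizer Spor.M12 (T := ∅) (T' := ∅) φ (card_stabilizer_M12 _)
    (card_stabilizer_M12 b) hb
  by_cases hbd : b ∈ Spor.squareDodecad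
  · obtain ⟨c, hc⟩ := inner_of_stab_M12 φ hbd hab
    exact ⟨c, Or.inl hc⟩
  · set t := tabPerm exchangeTab with ht
    have hb' : t⁻¹ b ∈ Spor.squareDodecad := by
      rw [← apply_mem_octad_iff tabPerm_exchange.2.1, ← ht, Equiv.Perm.coe_inv,
        Equiv.apply_symm_apply]
      exact Finset.mem_compl.mpr hbd
    obtain ⟨c, hc⟩ := inner_of_stab_M12 (outer12⁻¹ * φ) hb' fun g => by
      rw [hab]
      have e : (φ g : Equiv.Perm GolayPt) =
          t * ((outer12⁻¹ * φ) g : Spor.M12) * t⁻¹ := by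
        rw [ht, ← outer12_apply_coe]
        exact congrArg Subtype.val (outer12.apply_symm_apply (φ g)).symm
      rw [e, Equiv.Perm.mul_apply, Equiv.Perm.mul_apply]
      constructor
      · intro h
        rw [Equiv.Perm.eq_inv_iff_eq]
        exact h
      · intro h
        rw [h, Equiv.Perm.coe_inv, Equiv.apply_symm_apply]
    exact ⟨c, Or.inr (by rw [← hc, mul_inv_cancel_left])⟩

end Cfsg.Agent.Golay
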