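import Cfsg.Agent.Golay.OutIndex
import Cfsg.Agent.Golay.OutMathieu
import Cfsg.Agent.Golay.IndexM22
import Cfsg.Agent.Leech.Plane21
import Cfsg.Agent.S2140

/-!
`Cfsg.Spor.M22` has no subgroups of index 12, 45 or 56, and a subgroup of order 20160 has trivial
centraliser.
-/

set_option autoImplicit false

namespace Cfsg.Agent.Golay

open Cfsg
open scoped Pointwise

theorem no_M22_subgroup_45 (H : Subgroup Spor.M22) : H.index ≠ 45 := by
  intro h
  have : Fact (Nat.Prime 11) := ⟨by norm_num⟩
  have hidx := Subgroup.index_mul_card H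
  rw [h, card_M22] at hidx
  have hp2 : ¬11 ^ 2 ∣ Nat.card Spor.M22 := by rw [card_M22]; norm_num
  obtain ⟨x, hx⟩ := exists_prime_orderOf_dvd_card' (G := H) 11 (by
    rw [show Nat.card H = 9856 by omega]; norm_num)
  rw [← Subgroup.orderOf_coe] at hx
  obtain ⟨Q, hQ⟩ := exists_sylow_zpowers (x : Spor.M22) hx hp2
  have hN : Nat.card (Subgroup.normalizer
      ((Subgroup.zpowers (x : Spor.M22) : Subgroup Spor.M22) : Set Spor.M22)) = 55 :=
    hQ ▸ card_normalizer_M22_eleven Q
  have h11 := normalizer_le_of_forced hp2 H x.2 hx hN (o := 9856) (by omega) (by decide +kernel)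
  have hd := Subgroup.card_dvd_of_le h11
  rw [hN, show Nat.card H = 9856 by omega] at hd
  norm_num at hd

/-- The point stabiliser in the simple group of order 20160 has index at least 21. -/
theorem index_ge_stab_three {p q r : GolayPt} (hpq : p ≠ q) (hpr : p ≠ r) (hqr : q ≠ r)
    (H : Subgroup ↥(MulAction.stabilizer M24 p ⊓ MulAction.stabilizer M24 q ⊓
      MulAction.stabilizer M24 r)) (hH : H ≠ ⊤) : 21 ≤ H.index := by
  obtain ⟨e⟩ := Plane21.stab_three_equiv hpq hpr hqr
  let f := (Plane21.equivChainStab.trans e.symm)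
  have hne : H.comap f.toMonoidHom ≠ ⊤ := fun he => hH (by
    rw [← Subgroup.map_comap_eq_self_of_surjective (f := f.toMonoidHom) f.surjective H, he,
      Subgroup.map_top_of_surjective f.toMonoidHom f.surjective])
  have h := (S2140.result (F := Plane21.F4) (q := 4) (by decide) 3 le_rfl (by norm_num)).1 _ hne
  rw [Subgroup.index_comap_of_surjective _ f.surjective] at h
  norm_num at h
  exact h

theorem no_M22_subgroup_12 (K : Subgroup Spor.M22) : K.index ≠ 12 := by
  intro h
  have hidx := Subgroup.index_mul_card K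
  rw [h, card_M22] at hidx
  set H : Subgroup (Equiv.Perm GolayPt) := K.map Spor.M22.subtype with hHdef
  have hc : Nat.card H = 36960 := by
    rw [hHdef, Subgroup.card_map_of_injective Spor.M22.subtype_injective]; omega
  have hle : H ≤ Spor.M22 := Subgroup.map_subtype_le K
  have hle' : H ≤ M24 := fun g hg => (mem_M22_iff.mp (hle hg)).1
  set T : Finset GolayPt := {none, some 0}ᶜ with hTdef
  obtain ⟨hinv0, -, hfix0⟩ := M22_data
  have hinv : ∀ g ∈ H, ∀ t ∈ T, g t ∈ T := fun g hg t ht => hinv0 g (hle hg) t ht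
  have hZ : ∀ z ∈ ({none, some 0} : Finset GolayPt), z ∉ T ∧ ∀ g ∈ H, g z = z :=
    fun z hz => by
      have hzT : z ∉ T := fun hm => Finset.mem_compl.mp hm hz
      exact ⟨hzT, fun g hg => hfix0 g (hle hg) z hzT⟩
  have : Fact (Nat.Prime 7) := ⟨by norm_num⟩
  have : Fact (Nat.Prime 5) := ⟨by norm_num⟩
  have : Fact (Nat.Prime 11) := ⟨by norm_num⟩
  have ha : (some 1 : GolayPt) ∈ T := by rw [hTdef]; decide +kernel
  have e7 := orbit_mod_bound hle' hc 7 3 (by norm_num) (by norm_num) rfl hZ hinv ha
  have e11 := orbit_mod_bound hle' hc 11 2 (by norm_num) (by norm_num) rfl hZ hinv ha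
  rw [Finset.card_pair (Option.some_ne_none 0).symm] at e7 e11
  have hT22 : T.card = 22 := by rw [hTdef]; decide +kernel
  have hm := (Finset.card_le_card (orbitFin_subset hinv ha)).trans hT22.le
  have hdvd := card_orbit_dvd_mod hc (some 1)
  have hpos : 0 < (orbitFin H (some 1)).card :=
    Finset.card_pos.mpr ⟨_, self_mem_orbitFin _ _⟩
  have horb : (orbitFin H (some 1)).card = 22 := by omega
  have hcard := card_eq_orbitFin_mul H (some 1 : GolayPt)
  rw [hc, horb] at hcard
  set S := MulAction.stabilizer M24 (none : GolayPt) ⊓ MulAction.stabilizer M24 (some 0 : GolayPt) ⊓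
    MulAction.stabilizer M24 (some 1 : GolayPt) with hS
  set R : Subgroup (Equiv.Perm GolayPt) :=
    H ⊓ MulAction.stabilizer (Equiv.Perm GolayPt) (some 1 : GolayPt) with hR
  have hRS : R ≤ S.map M24.subtype := by
    intro g hg
    obtain ⟨hgM, h1, h2⟩ := mem_M22_iff.mp (hle hg.1)
    exact ⟨⟨g, hgM⟩, ⟨⟨h1, h2⟩, hg.2⟩, rfl⟩
  have hScard : Nat.card S = 20160 := by
    obtain ⟨e⟩ := Plane21.stab_three_equiv (p := none) (q := some 0) (r := some 1)
      (by decide) (by decide) (by decide)
    rw [hS, Nat.card_congr e.toEquiv, ← Nat.card_congr Plane21.equivChainStab.toEquiv,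
      Plane21.card_PSL]
  let R' : Subgroup S := (R.comap M24.subtype).comap S.subtype
  have hR' : Nat.card R' = Nat.card R := by
    refine Nat.card_congr
      { toFun := fun g => ⟨(g.1.1 : Equiv.Perm GolayPt), g.2⟩
        invFun := fun g => ⟨⟨⟨g.1, hle' g.2.1⟩, ?_⟩, g.2⟩
        left_inv := fun _ => rfl
        right_inv := fun _ => rfl }
    obtain ⟨y, hy, e⟩ := hRS g.2
    have : y = ⟨g.1, hle' g.2.1⟩ := Subtype.ext e
    exact this ▸ hy
  have hidx' := Subgroup.index_mul_card R'
  rw [hR', hScard] at hidx'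
  have hne : R' ≠ ⊤ := fun e => by
    rw [e, Subgroup.index_top, one_mul] at hidx'
    omega
  have := index_ge_stab_three (by decide) (by decide) (by decide) R' hne
  have hR1680 : Nat.card R = 1680 := by omega
  rw [hR1680] at hidx'
  omega

/-- An element commuting with a subgroup of order 20160 is trivial. -/
theorem eq_one_of_commute_stab {H : Subgroup Spor.M22} (hc : Nat.card H = 20160) {z : Spor.M22}
    (hz : ∀ h ∈ H, z * h = h * z) : z = 1 := by
  obtain ⟨b, hb, hfix⟩ := exists_fixed_M22 (Subgroup.map_subtype_le H)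
    (by rw [Subgroup.card_map_of_injective Spor.M22.subtype_injective, hc])
  obtain ⟨hinv, htr, hfix0⟩ := M22_data
  have hT : ({none, some 0}ᶜ : Finset GolayPt).card = 22 := by decide +kernel
  have hst := card_stabilizer_eq Spor.M22 hinv htr hb hT (o := 20160) (by rw [card_M22])
    (by norm_num)
  have heq : H = MulAction.stabilizer Spor.M22 b :=
    Subgroup.eq_of_le_of_card_ge (fun h hh => hfix _ ⟨h, hh, rfl⟩) (by rw [hc, hst])
  simp only [Finset.mem_compl, Finset.mem_insert, Finset.mem_singleton, not_or] at hb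
  obtain ⟨hzM, hzn, hz0⟩ := mem_M22_iff.mp z.2
  have hcomm : ∀ g : Equiv.Perm GolayPt, g ∈ Spor.M22 → g b = b →
      ∀ p, (z : Equiv.Perm GolayPt) (g p) = g ((z : Equiv.Perm GolayPt) p) := fun g hg hgb p => by
    have := hz ⟨g, hg⟩ (heq ▸ (hgb : (⟨g, hg⟩ : Spor.M22) • b = b))
    exact congrArg (fun y : Spor.M22 => (y : Equiv.Perm GolayPt) p) this
  -- a point fixed by the stabiliser of three points is one of them
  have hkey : ∀ p, (∀ g ∈ Spor.M22, g b = b → g p = p) → p = none ∨ p = some 0 ∨ p = b := by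
    intro p hp
    by_contra hne
    push Not at hne
    obtain ⟨hpn, hp0, hpb⟩ := hne
    obtain ⟨q, hq⟩ : ∃ q, q ∉ ({none, some 0, b, p} : Finset GolayPt) := by
      by_contra hall
      push Not at hall
      have h24 := Finset.card_le_card (fun r (_ : r ∈ (Finset.univ : Finset GolayPt)) => hall r)
      have := (Finset.card_insert_le none ({some 0, b, p} : Finset GolayPt)).trans
        (Nat.add_le_add_right Finset.card_le_three 1)
      rw [Finset.card_univ, card_golayPt] at h24
      omega
    simp only [Finset.mem_insert, Finset.mem_singleton, not_or] at hq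
    obtain ⟨g, hg, hgf, hgp⟩ := exists_move_fixing (k := 3) (by norm_num)
      ⟨![none, some 0, b], by
        intro i j; fin_cases i <;> fin_cases j <;> simp [Ne.symm hb.1, Ne.symm hb.2, hb.1, hb.2]⟩
      (a := p) (b := q)
      (fun i => by fin_cases i; exacts [Ne.symm hpn, Ne.symm hp0, Ne.symm hpb])
      (fun i => by fin_cases i; exacts [Ne.symm hq.1, Ne.symm hq.2.1, Ne.symm hq.2.2.1])
    exact hq.2.2.2 (hgp.symm.trans (hp g (mem_M22_iff.mpr ⟨hg, hgf 0, hgf 1⟩) (hgf 2)))
  have hzb : (z : Equiv.Perm GolayPt) b = b := by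
    rcases hkey _ (fun g hg hgb => by rw [← hcomm g hg hgb b, hgb]) with e | e | e
    · exact absurd ((z : Equiv.Perm GolayPt).injective (e.trans hzn.symm)) hb.1
    · exact absurd ((z : Equiv.Perm GolayPt).injective (e.trans hz0.symm)) hb.2
    · exact e
  refine Subtype.ext (Equiv.ext fun p => ?_)
  show (z : Equiv.Perm GolayPt) p = p
  by_cases hpn : p = none
  · rw [hpn, hzn]
  by_cases hp0 : p = some 0
  · rw [hp0, hz0]
  by_cases hpb : p = b
  · rw [hpb, hzb]
  by_contra hne
  set q := (z : Equiv.Perm GolayPt) p with hq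
  have hqn : q ≠ none := fun e => hpn ((z : Equiv.Perm GolayPt).injective (e.trans hzn.symm))
  have hq0 : q ≠ some 0 := fun e => hp0 ((z : Equiv.Perm GolayPt).injective (e.trans hz0.symm))
  have hqb : q ≠ b := fun e => hpb ((z : Equiv.Perm GolayPt).injective (e.trans hzb.symm))
  obtain ⟨r, hr⟩ : ∃ r, r ∉ ({none, some 0, b, p, q} : Finset GolayPt) := by
    by_contra hall
    push Not at hall
    have h24 := Finset.card_le_card (fun r (_ : r ∈ (Finset.univ : Finset GolayPt)) => hall r)
    have h1 := Finset.card_insert_le none ({some 0, b, p, q} : Finset GolayPt)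
    have h2 := Finset.card_insert_le (some 0) ({b, p, q} : Finset GolayPt)
    have h3 := Finset.card_le_three (a := b) (b := p) (c := q)
    rw [Finset.card_univ, card_golayPt] at h24
    omega
  simp only [Finset.mem_insert, Finset.mem_singleton, not_or] at hr
  obtain ⟨g, hg, hgf, hgq⟩ := exists_move_fixing (k := 4) (by norm_num)
    ⟨![none, some 0, b, p], by
      intro i j
      fin_cases i <;> fin_cases j <;>
        simp [Ne.symm hb.1, Ne.symm hb.2, hb.1, hb.2, hpn, hp0, hpb, Ne.symm hpn, Ne.symm hp0,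
          Ne.symm hpb]⟩
    (a := q) (b := r)
    (fun i => by fin_cases i; exacts [Ne.symm hqn, Ne.symm hq0, Ne.symm hqb, Ne.symm hne])
    (fun i => by
      fin_cases i; exacts [Ne.symm hr.1, Ne.symm hr.2.1, Ne.symm hr.2.2.1, Ne.symm hr.2.2.2.1])
  have := hcomm g (mem_M22_iff.mpr ⟨hg, hgf 0, hgf 1⟩) (hgf 2) p
  rw [show g p = p from hgf 3, ← hq, hgq] at this
  exact hr.2.2.2.2 this.symm

/-- Every automorphism of M22 is inner or differs from `outer22` by an inner one. -/
theorem aut_M22_cases (φ : MulAut Spor.M22) :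
    ∃ c, φ = MulAut.conj c ∨ φ = outer22 * MulAut.conj c := by
  have h : (Inn Spor.M22).index = 2 := (Subgroup.index_eq_card _).trans out_M22
  by_cases hφ : φ ∈ Inn Spor.M22
  · obtain ⟨c, rfl⟩ := hφ
    exact ⟨c, Or.inl rfl⟩
  · have ho : outer22⁻¹ ∉ Inn Spor.M22 := fun hi => by
      obtain ⟨c, hc⟩ := inv_mem hi
      rw [inv_inv] at hc
      exact outer22_not_inner c hc.symm
    obtain ⟨c, hc⟩ := (Subgroup.mul_mem_iff_of_index_two h).mpr (iff_of_false ho hφ)
    exact ⟨c, Or.inr (by rw [hc, mul_inv_cancel_left])⟩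

end Cfsg.Agent.Golay
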