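import Mathlib
import Cfsg.Prelude.Def_KGroupFacts

/-!
Automorphisms of permutation groups carrying a point stabiliser to a point stabiliser are induced
by permutations; consequences for the outer automorphism group.
-/

set_option autoImplicit false

namespace Cfsg.Agent.Golay

open scoped Pointwise

variable {α : Type*} [Fintype α] [DecidableEq α]

/-- An automorphism carrying a point stabiliser onto a point stabiliser is induced by a permutation
of the orbit. -/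
theorem exists_induced (G : Subgroup (Equiv.Perm α)) (T : Finset α) (φ : G ≃* G)
    (hinv : ∀ g ∈ G, ∀ x ∈ T, g x ∈ T) (htr : ∀ x ∈ T, ∀ y ∈ T, ∃ g ∈ G, g x = y)
    {a b : α} (ha : a ∈ T) (hb : b ∈ T)
    (hab : ∀ g : G, (g : Equiv.Perm α) a = a ↔ (φ g : Equiv.Perm α) b = b) :
    ∃ π : Equiv.Perm α, π a = b ∧ (∀ x, π x ∈ T ↔ x ∈ T) ∧ (∀ x, x ∉ T → π x = x) ∧
      ∀ g : G, ∀ x ∈ T, π ((g : Equiv.Perm α) x) = (φ g : Equiv.Perm α) (π x) := by
  classical
  have hmove : ∀ x : {x // x ∈ T}, ∃ g : G, (g : Equiv.Perm α) a = x.1 := fun x => by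
    obtain ⟨g, hg, e⟩ := htr a ha x x.2
    exact ⟨⟨g, hg⟩, e⟩
  choose m hm using hmove
  have key : ∀ g h : G, (g : Equiv.Perm α) a = (h : Equiv.Perm α) a ↔
      (φ g : Equiv.Perm α) b = (φ h : Equiv.Perm α) b := by
    intro g h
    have e1 : ∀ u v : Equiv.Perm α, ∀ x, (u⁻¹ * v) x = x ↔ v x = u x := by
      intro u v x
      rw [Equiv.Perm.mul_apply, Equiv.Perm.inv_eq_iff_eq]
    have := hab (h⁻¹ * g)
    rw [map_mul, map_inv, Subgroup.coe_mul, Subgroup.coe_mul, Subgroup.coe_inv, Subgroup.coe_inv,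
      e1, e1] at this
    exact this
  let f : {x // x ∈ T} → {x // x ∈ T} :=
    fun x => ⟨(φ (m x) : Equiv.Perm α) b, hinv _ (φ (m x)).2 b hb⟩
  have hf : Function.Injective f := fun x y e => by
    have := (key _ _).mpr (congrArg Subtype.val e)
    rw [hm, hm] at this
    exact Subtype.ext this
  let e : Equiv.Perm {x // x ∈ T} := Equiv.ofBijective f ⟨hf, Finite.surjective_of_injective hf⟩
  have hval : ∀ g : G, Equiv.Perm.ofSubtype e ((g : Equiv.Perm α) a) = (φ g : Equiv.Perm α) b := by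
    intro g
    have hx : (g : Equiv.Perm α) a ∈ T := hinv _ g.2 a ha
    rw [Equiv.Perm.ofSubtype_apply_of_mem e hx]
    exact (key _ _).mp (hm ⟨_, hx⟩)
  refine ⟨Equiv.Perm.ofSubtype e, ?_, fun x => ?_, fun x hx =>
    Equiv.Perm.ofSubtype_apply_of_not_mem e hx, fun g x hx => ?_⟩
  · have := hval 1
    rwa [map_one, Subgroup.coe_one, Equiv.Perm.one_apply, Equiv.Perm.one_apply] at this
  · by_cases hx : x ∈ T
    · rw [Equiv.Perm.ofSubtype_apply_of_mem e hx]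
      exact iff_of_true (e ⟨x, hx⟩).2 hx
    · rw [Equiv.Perm.ofSubtype_apply_of_not_mem e hx]
  · obtain ⟨h, hh, rfl⟩ := htr a ha x hx
    have h1 := hval (g * ⟨h, hh⟩)
    rw [map_mul, Subgroup.coe_mul, Subgroup.coe_mul, Equiv.Perm.mul_apply,
      Equiv.Perm.mul_apply] at h1
    have h2 := hval ⟨h, hh⟩
    simp only at h1 h2
    rw [h1, h2]

/-- Conjugation by a permutation normalising the group. -/
def normConj (G : Subgroup (Equiv.Perm α)) (c : Equiv.Perm α)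
    (h1 : ∀ g ∈ G, c * g * c⁻¹ ∈ G) (h2 : ∀ g ∈ G, c⁻¹ * g * c ∈ G) : MulAut G where
  toFun g := ⟨c * g * c⁻¹, h1 g g.2⟩
  invFun g := ⟨c⁻¹ * g * c, h2 g g.2⟩
  left_inv g := Subtype.ext (by simp [mul_assoc])
  right_inv g := Subtype.ext (by simp [mul_assoc])
  map_mul' g h := Subtype.ext (by simp [mul_assoc])

theorem normConj_apply (G : Subgroup (Equiv.Perm α)) (c : Equiv.Perm α)
    (h1 : ∀ g ∈ G, c * g * c⁻¹ ∈ G) (h2 : ∀ g ∈ G, c⁻¹ * g * c ∈ G) (g : G) :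
    (normConj G c h1 h2 g : Equiv.Perm α) = c * g * c⁻¹ := rfl

theorem conj_apply_coe (G : Subgroup (Equiv.Perm α)) (c g : G) :
    (MulAut.conj c g : Equiv.Perm α) = c * g * (c : Equiv.Perm α)⁻¹ := rfl

/-- An automorphism intertwined by a normalising permutation on a faithful invariant set is
conjugation by it. -/
theorem coe_eq_of_induced {G : Subgroup (Equiv.Perm α)} {T : Finset α} (φ : G ≃* G)
    (hfaith : ∀ g ∈ G, (∀ x ∈ T, g x = x) → g = 1) {c : Equiv.Perm α}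
    (hc : ∀ g ∈ G, c * g * c⁻¹ ∈ G) (hcT : ∀ x, c x ∈ T ↔ x ∈ T)
    (hφ : ∀ g : G, ∀ x ∈ T, c ((g : Equiv.Perm α) x) = (φ g : Equiv.Perm α) (c x)) (g : G) :
    (φ g : Equiv.Perm α) = c * g * c⁻¹ := by
  refine (inv_mul_eq_one.mp (hfaith _ (mul_mem (inv_mem (hc g g.2)) (φ g).2) fun x hx => ?_)).symm
  obtain ⟨y, rfl⟩ := c.surjective x
  rw [Equiv.Perm.mul_apply, Equiv.Perm.inv_eq_iff_eq, ← hφ g y ((hcT y).mp hx)]
  simp

theorem card_out_eq_one {G : Type*} [Group G] (h : ∀ φ : MulAut G, ∃ c, φ = MulAut.conj c) :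
    Nat.card (Cfsg.Out G) = 1 := by
  rw [← Subgroup.index_eq_card, Subgroup.index_eq_one, Subgroup.eq_top_iff']
  intro φ
  obtain ⟨c, rfl⟩ := h φ
  exact ⟨c, rfl⟩

theorem card_out_eq_two {G : Type*} [Group G] (σ : MulAut G) (hσ : ∀ c, σ ≠ MulAut.conj c)
    (h : ∀ φ : MulAut G, ∃ c, φ = MulAut.conj c ∨ φ = σ * MulAut.conj c) :
    Nat.card (Cfsg.Out G) = 2 := by
  have hσ' : σ ∉ Cfsg.Inn G := by
    rintro ⟨c, hc⟩
    exact hσ c hc.symm
  rw [← Subgroup.index_eq_card, Subgroup.index_eq_two_iff]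
  refine ⟨σ⁻¹, fun φ => ?_⟩
  by_cases hφ : φ ∈ Cfsg.Inn G
  · refine Or.inr ⟨hφ, fun hm => hσ' ?_⟩
    simpa using inv_mem ((Subgroup.mul_mem_cancel_left _ hφ).mp hm)
  · refine Or.inl ⟨?_, hφ⟩
    obtain ⟨c, rfl | rfl⟩ := h φ
    · exact absurd ⟨c, rfl⟩ hφ
    · exact (innNormal G).conj_mem _ ⟨c, rfl⟩ σ

end Cfsg.Agent.Golay
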