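import Cfsg.Agent.Classif.MElevenInvolution
import Cfsg.Agent.Golay.MathieuSimple

/-!
In `Cfsg.Spor.M11`, and in every joint stabiliser of a dodecad and one of its points, the
centraliser of an involution is `GL(2,3)`.
-/

set_option autoImplicit false

namespace Cfsg.Agent.Golay

open Cfsg
open scoped Pointwise
open Cfsg.Agent.Classif.MElevenInv (emb emb_injective negOne refl conj_negOne card_centralizer_le)

theorem gl23_matrix_involution : ∀ a b c d : ZMod 3,
    (!![a, b; c, d] * !![a, b; c, d] = (1 : Matrix (Fin 2) (Fin 2) (ZMod 3)) ∧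
      !![a, b; c, d] ≠ 1 ∧ !![a, b; c, d] ≠ !![2, 0; 0, 2]) →
    ∃ x y z w : ZMod 3, x * w - y * z ≠ 0 ∧
      !![x, y; z, w] * !![1, 0; 0, 2] = !![a, b; c, d] * !![x, y; z, w] := by
  decide +kernel

theorem gl23_negOne_central : ∀ a b c d : ZMod 3,
    !![a, b; c, d] * !![2, 0; 0, 2] = !![2, 0; 0, 2] * !![a, b; c, d] := by
  decide +kernel

theorem card_gl23_le : 48 ≤ Nat.card (GL (Fin 2) (ZMod 3)) := by
  rw [Nat.card_eq_fintype_card]
  decide +kernel

theorem emb_involution_conj (k : GL (Fin 2) (ZMod 3)) (hk : orderOf k = 2) :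
    IsConj (emb negOne) (emb k) := by
  rcases eq_or_ne k negOne with rfl | h
  · exact IsConj.refl _
  refine conj_negOne.trans (MonoidHom.map_isConj emb ?_)
  have hk2 : k * k = 1 := by
    have := pow_orderOf_eq_one k
    rwa [hk, pow_two] at this
  have h1 : k ≠ 1 := fun e => by rw [e, orderOf_one] at hk; omega
  have e : (k : Matrix (Fin 2) (Fin 2) (ZMod 3)) = !![k.1 0 0, k.1 0 1; k.1 1 0, k.1 1 1] :=
    Matrix.eta_fin_two _
  obtain ⟨x, y, z, w, hdet, hx⟩ := gl23_matrix_involution (k.1 0 0) (k.1 0 1) (k.1 1 0) (k.1 1 1)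
    (by
      rw [← e]
      exact ⟨congrArg Units.val hk2, fun he => h1 (Units.ext he), fun he => h (Units.ext he)⟩)
  rw [← e] at hx
  refine isConj_iff.mpr ⟨Matrix.GeneralLinearGroup.mkOfDetNeZero !![x, y; z, w]
    (by rwa [Matrix.det_fin_two]), ?_⟩
  rw [mul_inv_eq_iff_eq_mul]
  exact Units.ext hx

/-- The centraliser of a conjugate is isomorphic to the centraliser. -/
def centralizerEquivOfMulEquiv {G G' : Type*} [Group G] [Group G'] (e : G ≃* G') (x : G) :
    ↥(Subgroup.centralizer ({x} : Set G)) ≃* ↥(Subgroup.centralizer ({e x} : Set G')) where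
  toFun u := ⟨e u.1, Subgroup.mem_centralizer_singleton_iff.mpr (by
    rw [← map_mul, ← map_mul, Subgroup.mem_centralizer_singleton_iff.mp u.2])⟩
  invFun u := ⟨e.symm u.1, Subgroup.mem_centralizer_singleton_iff.mpr (by
    apply e.injective
    rw [map_mul, map_mul, e.apply_symm_apply, Subgroup.mem_centralizer_singleton_iff.mp u.2])⟩
  left_inv u := Subtype.ext (e.symm_apply_apply _)
  right_inv u := Subtype.ext (e.apply_symm_apply _)
  map_mul' u v := Subtype.ext (map_mul e _ _)

/-- Every involution of M11 has centraliser GL(2,3). -/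
theorem M11_centralizer_involution (x : Spor.M11) (hx : orderOf x = 2) :
    Nonempty (↥(Subgroup.centralizer ({x} : Set Spor.M11)) ≃* GL (Fin 2) (ZMod 3)) := by
  have : Fact (Nat.Prime 2) := ⟨Nat.prime_two⟩
  set K := GL (Fin 2) (ZMod 3)
  have hle : emb.range ≤ Subgroup.centralizer ({emb negOne} : Set Spor.M11) := by
    rintro _ ⟨k, rfl⟩
    rw [Subgroup.mem_centralizer_singleton_iff, ← map_mul, ← map_mul]
    refine congrArg emb (Units.ext ?_)
    have := gl23_negOne_central (k.1 0 0) (k.1 0 1) (k.1 1 0) (k.1 1 1)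
    rwa [← Matrix.eta_fin_two k.1] at this
  have hr : Nat.card emb.range = Nat.card K :=
    (Nat.card_congr (MonoidHom.ofInjective emb_injective).toEquiv).symm
  have heq : emb.range = Subgroup.centralizer ({emb negOne} : Set Spor.M11) :=
    Subgroup.eq_of_le_of_card_ge hle (card_centralizer_le.trans (hr ▸ card_gl23_le))
  have hK : Nat.card emb.range = 48 := by
    refine le_antisymm (heq ▸ card_centralizer_le) (hr ▸ card_gl23_le)
  obtain ⟨S, hS⟩ : ∃ S : Sylow 2 Spor.M11, (S : Subgroup Spor.M11) ≤ emb.range := by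
    obtain ⟨P⟩ := (inferInstance : Nonempty (Sylow 2 emb.range))
    have h16 : Nat.card ((P : Subgroup emb.range).map emb.range.subtype) =
        2 ^ (Nat.card Spor.M11).factorization 2 := by
      rw [Subgroup.card_map_of_injective emb.range.subtype_injective, P.card_eq_multiplicity, hK,
        card_M11]
      have f48 : (48 : ℕ).factorization 2 = 4 := by
        rw [Nat.factorization_def _ Nat.prime_two]; decide +kernel
      have f7920 : (7920 : ℕ).factorization 2 = 4 := by
        rw [Nat.factorization_def _ Nat.prime_two]; decide +kernel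
      rw [f48, f7920]
    exact ⟨Sylow.ofCard _ h16, Subgroup.map_subtype_le _⟩
  obtain ⟨R, hR⟩ := (IsPGroup.of_card (p := 2) (n := 1)
    (by rw [Nat.card_zpowers, hx, pow_one]) : IsPGroup 2 (Subgroup.zpowers x)).exists_le_sylow
  obtain ⟨c, hc⟩ := MulAction.exists_smul_eq Spor.M11 R S
  have hmem : c * x * c⁻¹ ∈ emb.range := by
    refine hS ?_
    rw [← hc]
    exact Subgroup.mem_map_of_mem (MulAut.conj c).toMonoidHom (hR (Subgroup.mem_zpowers x))
  obtain ⟨k, hk⟩ := hmem
  have hk2 : orderOf k = 2 := by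
    rw [← orderOf_injective emb emb_injective k, hk]
    exact (MulEquiv.orderOf_eq (MulAut.conj c) x).trans hx
  have hconj : IsConj (emb negOne) x :=
    ((emb_involution_conj k hk2).trans (hk ▸ IsConj.refl (emb k))).trans
      (isConj_iff.mpr ⟨c, rfl⟩).symm
  obtain ⟨d, hd⟩ := isConj_iff.mp hconj
  refine ⟨((MonoidHom.ofInjective emb_injective).trans ((MulEquiv.subgroupCongr heq).trans
    ((centralizerEquivOfMulEquiv (MulAut.conj d) (emb negOne)).trans
      (MulEquiv.subgroupCongr (by rw [MulAut.conj_apply, hd]))))).symm⟩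

theorem centralizer_involution_dodecad_point {d : Finset GolayPt} (hd : d ∈ dodecads) {p : GolayPt}
    (hp : p ∈ d) (x : ↥(MulAction.stabilizer M24 d ⊓ MulAction.stabilizer M24 p))
    (hx : orderOf x = 2) :
    Nonempty (↥(Subgroup.centralizer
      ({x} : Set ↥(MulAction.stabilizer M24 d ⊓ MulAction.stabilizer M24 p))) ≃*
        GL (Fin 2) (ZMod 3)) := by
  obtain ⟨g, hg, e1, e2⟩ := exists_move_dodecad_point hd hp
  subst e2 e1
  let e : Spor.M11 ≃* ↥(MulAction.stabilizer M24 (g • Spor.squareDodecad) ⊓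
      MulAction.stabilizer M24 (g (some 0))) :=
    (conjInfEquiv₂ hg Spor.squareDodecad (some 0 : GolayPt)).trans
      (stabilizerInfEquiv₂ M24 _ _).symm
  obtain ⟨ψ⟩ := M11_centralizer_involution (e.symm x) (by rw [MulEquiv.orderOf_eq]; exact hx)
  exact ⟨(centralizerEquivOfMulEquiv e.symm x).trans ψ⟩

end Cfsg.Agent.Golay
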