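import Cfsg.Agent.Golay.IndexM23
import Cfsg.Agent.Golay.MathieuSimple

/-!
Subgroups of the index of a point stabiliser in the Mathieu groups other than M12 fix a point.
-/

set_option autoImplicit false

namespace Cfsg.Agent.Golay

open Cfsg
open scoped Pointwise

theorem fixed_of_orbit_one {α : Type*} [Fintype α] [DecidableEq α] {H : Subgroup (Equiv.Perm α)}
    {a : α} (h1 : (orbitFin H a).card = 1) : ∀ h ∈ H, h a = a := by
  intro h hh
  exact Finset.card_le_one.mp h1.le _ (orbitFin_inv hh (self_mem_orbitFin H a)) _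
    (self_mem_orbitFin H a)

theorem exists_fixed_of_sizes {α : Type*} [Fintype α] [DecidableEq α]
    {H : Subgroup (Equiv.Perm α)} {T : Finset α} (hne : T.Nonempty)
    (hinv : ∀ h ∈ H, ∀ t ∈ T, h t ∈ T)
    (hs : ∀ a ∈ T, (orbitFin H a).card = 1 ∨
      (T.card < 2 * (orbitFin H a).card ∧ (orbitFin H a).card < T.card)) :
    ∃ b ∈ T, ∀ h ∈ H, h b = b := by
  obtain ⟨a, ha⟩ := hne
  rcases hs a ha with h | ⟨h1, h2⟩
  · exact ⟨a, ha, fixed_of_orbit_one h⟩
  obtain ⟨b, hb, hbn⟩ := Finset.exists_mem_notMem_of_card_lt_card h2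
  refine ⟨b, hb, fixed_of_orbit_one ((hs b hb).resolve_right fun ⟨h3, _⟩ => ?_)⟩
  have hd : Disjoint (orbitFin H a) (orbitFin H b) := by
    rw [Finset.disjoint_left]
    intro t e1 e2
    exact hbn (by rw [← orbitFin_eq_of_mem e1, orbitFin_eq_of_mem e2]; exact self_mem_orbitFin H b)
  have := Finset.card_le_card
    (Finset.union_subset (orbitFin_subset hinv ha) (orbitFin_subset hinv hb))
  rw [Finset.card_union_of_disjoint hd] at this
  omega

theorem exists_orderOf_mem {α : Type*} [Finite α] {H : Subgroup (Equiv.Perm α)} {o : ℕ}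
    (ho : Nat.card H = o) (p : ℕ) [hp : Fact p.Prime] (hd : p ∣ o) :
    ∃ g ∈ H, orderOf g = p := by
  obtain ⟨g, hg⟩ := exists_prime_orderOf_dvd_card' (G := H) p (ho ▸ hd)
  exact ⟨g, g.2, by rwa [Subgroup.orderOf_coe]⟩

/-- Orbit sizes are restricted by the number of points fixed by an element of prime order. -/
theorem orbit_mod_bound {H : Subgroup (Equiv.Perm GolayPt)} (hle : H ≤ M24) {o : ℕ}
    (ho : Nat.card H = o) (p k : ℕ) [hp : Fact p.Prime] (hp5 : 5 ≤ p) (hd : p ∣ o)
    (hk : 24 % p = k) {T Z : Finset GolayPt} (hZ : ∀ z ∈ Z, z ∉ T ∧ ∀ h ∈ H, h z = z)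
    (hinv : ∀ h ∈ H, ∀ t ∈ T, h t ∈ T) {a : GolayPt} (ha : a ∈ T) :
    (orbitFin H a).card % p + Z.card ≤ k := by
  obtain ⟨g, hg, hgo⟩ := exists_orderOf_mem ho p hd
  rw [← card_fixSet_eq (hle hg) hp5 hgo k hk]
  exact orbit_mod_le hg hgo a Z
    fun z hz => ⟨(hZ z hz).2 g hg, fun h => (hZ z hz).1 (orbitFin_subset hinv ha h)⟩

theorem card_orbit_dvd_mod {H : Subgroup (Equiv.Perm GolayPt)} {o : ℕ} (ho : Nat.card H = o)
    (a : GolayPt) : o % (orbitFin H a).card = 0 :=
  Nat.mod_eq_zero_of_dvd (ho ▸ card_orbitFin_dvd H a)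

/-! ### M23 -/

theorem exists_fixed_M23 {H : Subgroup (Equiv.Perm GolayPt)} (hle : H ≤ Spor.M23)
    (hc : Nat.card H = 443520) : ∃ b ∈ ({none}ᶜ : Finset GolayPt), ∀ h ∈ H, h b = b := by
  have hle' : H ≤ M24 := fun h hh => (hle hh).1
  have hinv : ∀ h ∈ H, ∀ t ∈ ({none}ᶜ : Finset GolayPt), h t ∈ ({none}ᶜ : Finset GolayPt) := by
    intro h hh t ht
    simp only [Finset.mem_compl, Finset.mem_singleton] at ht ⊢
    exact fun e => ht (h.injective (e.trans (hle hh).2.symm))
  have hT : ({none}ᶜ : Finset GolayPt).card = 23 := by decide +kernel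
  refine exists_fixed_of_sizes ⟨some 0, by simp⟩ hinv fun a ha => ?_
  have hZ : ∀ z ∈ ({none} : Finset GolayPt), z ∉ ({none}ᶜ : Finset GolayPt) ∧
      ∀ h ∈ H, h z = z := fun z hz => by
    rw [Finset.mem_singleton] at hz
    subst hz
    exact ⟨by simp, fun h hh => (hle hh).2⟩
  have : Fact (Nat.Prime 11) := ⟨by norm_num⟩
  have : Fact (Nat.Prime 7) := ⟨by norm_num⟩
  have : Fact (Nat.Prime 5) := ⟨by norm_num⟩
  have e11 := orbit_mod_bound hle' hc 11 2 (by norm_num) (by norm_num) rfl hZ hinv ha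
  have e7 := orbit_mod_bound hle' hc 7 3 (by norm_num) (by norm_num) rfl hZ hinv ha
  have e5 := orbit_mod_bound hle' hc 5 4 (by norm_num) (by norm_num) rfl hZ hinv ha
  simp only [Finset.card_singleton] at e11 e7 e5
  have key : ∀ m ≤ 23, 443520 % m = 0 → m % 11 + 1 ≤ 2 → m % 7 + 1 ≤ 3 → m % 5 + 1 ≤ 4 →
      m = 1 ∨ (23 < 2 * m ∧ m < 23) := by
    intro m hm h1 h2 h3 h4
    interval_cases m <;> omega
  rw [hT]
  exact key _ ((Finset.card_le_card (orbitFin_subset hinv ha)).trans hT.le) (card_orbit_dvd_mod hc a) e11 e7 e5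

/-! ### M22 -/

theorem exists_fixed_M22 {H : Subgroup (Equiv.Perm GolayPt)} (hle : H ≤ Spor.M22)
    (hc : Nat.card H = 20160) : ∃ b ∈ ({none, some 0}ᶜ : Finset GolayPt), ∀ h ∈ H, h b = b := by
  have hle' : H ≤ M24 := fun h hh => (mem_M22_iff.mp (hle hh)).1
  set T : Finset GolayPt := {none, some 0}ᶜ with hTdef
  have hfix : ∀ h ∈ H, ∀ z ∈ ({none, some 0} : Finset GolayPt), h z = z := by
    intro h hh z hz
    obtain ⟨-, h1, h2⟩ := mem_M22_iff.mp (hle hh)
    rcases Finset.mem_insert.mp hz with rfl | hz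
    · exact h1
    · rw [Finset.mem_singleton.mp hz, h2]
  have hinv : ∀ h ∈ H, ∀ t ∈ T, h t ∈ T := by
    intro h hh t ht
    rw [hTdef, Finset.mem_compl] at ht ⊢
    exact fun hm => ht (h.injective (hfix h hh _ hm) ▸ hm)
  have hT : T.card = 22 := by rw [hTdef]; decide +kernel
  refine exists_fixed_of_sizes ⟨some 1, by rw [hTdef]; decide +kernel⟩ hinv fun a ha => ?_
  have hZ : ∀ z ∈ ({none, some 0} : Finset GolayPt), z ∉ T ∧ ∀ h ∈ H, h z = z :=
    fun z hz => ⟨fun h => Finset.mem_compl.mp h hz, fun h hh => hfix h hh z hz⟩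
  have : Fact (Nat.Prime 7) := ⟨by norm_num⟩
  have : Fact (Nat.Prime 5) := ⟨by norm_num⟩
  have e7 := orbit_mod_bound hle' hc 7 3 (by norm_num) (by norm_num) rfl hZ hinv ha
  have e5 := orbit_mod_bound hle' hc 5 4 (by norm_num) (by norm_num) rfl hZ hinv ha
  rw [Finset.card_pair (Option.some_ne_none 0).symm] at e7 e5
  have key : ∀ m ≤ 22, 20160 % m = 0 → m % 7 + 2 ≤ 3 → m % 5 + 2 ≤ 4 →
      m = 1 ∨ (22 < 2 * m ∧ m < 22) ∨ m = 7 := by
    intro m hm h1 h2 h3
    interval_cases m <;> omega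
  rw [hT]
  rcases key _ ((Finset.card_le_card (orbitFin_subset hinv ha)).trans hT.le) (card_orbit_dvd_mod hc a)
    e7 e5 with h | h | h7
  · exact Or.inl h
  · exact Or.inr h
  exfalso
  obtain ⟨g, hg, hg1, hgO⟩ := exists_fix_of_card_gt (H := H) (O := orbitFin H a)
    (fun h hh t ht => orbitFin_inv hh ht) (by rw [h7, hc]; decide)
  have hsub : ({none, some 0} : Finset GolayPt) ∪ orbitFin H a ⊆ fixSet g := by
    intro z hz
    rcases Finset.mem_union.mp hz with hz | hz
    · exact mem_fixSet.mpr (hfix g hg z hz)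
    · exact mem_fixSet.mpr (hgO z hz)
  have hd : Disjoint ({none, some 0} : Finset GolayPt) (orbitFin H a) :=
    Finset.disjoint_left.mpr fun z hz h => (hZ z hz).1 (orbitFin_subset hinv ha h)
  have := Finset.card_le_card hsub
  rw [Finset.card_union_of_disjoint hd, h7, Finset.card_pair (Option.some_ne_none 0).symm] at this
  have := card_fixSet_le_eight (hle' hg) hg1
  omega

/-! ### M11 -/

theorem sqPts_inv_M11 {h : Equiv.Perm GolayPt} (hh : h ∈ Spor.M11) {x : GolayPt}
    (hx : x ∈ sqPts) : h x ∈ sqPts := by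
  rw [mem_sqPts] at hx ⊢
  obtain ⟨-, hd, h0⟩ := mem_M11_iff.mp hh
  exact ⟨fun e => hx.1 (h.injective (e.trans h0.symm)), (apply_mem_octad_iff hd x).mpr hx.2⟩

theorem exists_fixed_M11 {H : Subgroup (Equiv.Perm GolayPt)} (hle : H ≤ Spor.M11)
    (hc : Nat.card H = 720) : ∃ b ∈ sqPts, ∀ h ∈ H, h b = b := by
  have hinv : ∀ h ∈ H, ∀ t ∈ sqPts, h t ∈ sqPts := fun h hh t ht => sqPts_inv_M11 (hle hh) ht
  refine exists_fixed_of_sizes ⟨_, one_mem_sqPts⟩ hinv fun a ha => ?_
  have : Fact (Nat.Prime 5) := ⟨by norm_num⟩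
  obtain ⟨g5, hg5, ho5⟩ := exists_orderOf_mem hc 5 (by norm_num)
  obtain ⟨hm5, hd5, h05⟩ := mem_M11_iff.mp (hle hg5)
  have hinv' : ∀ t ∈ Spor.squareDodecadᶜ, g5 t ∈ Spor.squareDodecadᶜ := fun t ht =>
    Finset.mem_compl.mpr fun h => Finset.mem_compl.mp ht ((apply_mem_octad_iff hd5 t).mp h)
  have hout := card_mod_fix ho5 Spor.squareDodecadᶜ hinv'
  rw [(mem_dodecads_iff.mp (compl_mem_dodecads squareDodecad_mem')).2] at hout
  set F := Spor.squareDodecadᶜ.filter fun x => g5 x = x with hF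
  have hout2 : 2 ≤ F.card := le_trans (le_of_eq hout) (Nat.mod_le _ _)
  have e5 : (orbitFin H a).card % 5 + (insert (some 0) F).card ≤ 4 := by
    rw [← card_fixSet_eq hm5 (le_refl 5) ho5 4 rfl]
    refine orbit_mod_le hg5 ho5 a _ fun z hz => ?_
    rcases Finset.mem_insert.mp hz with rfl | hz
    · exact ⟨h05, fun h => (mem_sqPts.mp (orbitFin_subset hinv ha h)).1 rfl⟩
    · rw [hF, Finset.mem_filter, Finset.mem_compl] at hz
      exact ⟨hz.2, fun h => hz.1 (mem_sqPts.mp (orbitFin_subset hinv ha h)).2⟩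
  have hnF : (some 0 : GolayPt) ∉ F := fun h =>
    Finset.mem_compl.mp (Finset.mem_filter.mp (hF ▸ h)).1 zero_mem_squareDodecad
  rw [Finset.card_insert_of_notMem hnF] at e5
  have key : ∀ m ≤ 11, 720 % m = 0 → m % 5 ≤ 1 → m = 1 ∨ (11 < 2 * m ∧ m < 11) ∨ m = 5 := by
    intro m hm h1 h2
    interval_cases m <;> omega
  rw [sqPts_card]
  rcases key _ ((Finset.card_le_card (orbitFin_subset hinv ha)).trans sqPts_card.le)
    (card_orbit_dvd_mod hc a) (by omega) with h | h | h5
  · exact Or.inl h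
  · exact Or.inr h
  exfalso
  obtain ⟨g, hg, hg1, hgO⟩ := exists_fix_of_card_gt (H := H) (O := orbitFin H a)
    (fun h hh t ht => orbitFin_inv hh ht) (by rw [h5, hc]; decide)
  obtain ⟨hgm, hgd, -⟩ := mem_M11_iff.mp (hle hg)
  exact hg1 (eq_one_of_fix_five squareDodecad_mem' hgm hgd (F := orbitFin H a)
    (fun x hx => (mem_sqPts.mp (orbitFin_subset hinv ha hx)).2) (by rw [h5]) hgO)

/-! ### M24 -/

theorem fixSet_doublePerm : fixSet doublePerm = {none, some 0} := by decide +kernel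

theorem card_normalizer_M23_double (g : Spor.M23) (hg : (g : Equiv.Perm GolayPt) = doublePerm) :
    Nat.card (Subgroup.normalizer ((Subgroup.zpowers g : Subgroup Spor.M23) : Set Spor.M23)) ≤ 55 := by
  have : Fact (Nat.Prime 11) := ⟨by norm_num⟩
  let g' : Spor.M22 :=
    ⟨doublePerm, mem_M22_iff.mpr ⟨doublePerm_mem, doublePerm_fix.1, doublePerm_fix.2⟩⟩
  have hg' : orderOf g' = 11 := (Subgroup.orderOf_mk _ _).trans orderOf_doublePerm
  obtain ⟨P, hP⟩ := exists_sylow_zpowers g' hg' (by rw [card_M22]; norm_num)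
  rw [← card_normalizer_M22_eleven P, hP]
  let ι : Spor.M22 →* Spor.M23 := Subgroup.inclusion inf_le_left
  have hι : ι g' = g := Subtype.ext hg.symm
  have hmap : (Subgroup.zpowers g').map ι = Subgroup.zpowers g := by
    rw [MonoidHom.map_zpowers, hι]
  have hmem : ∀ n ∈ Subgroup.normalizer ((Subgroup.zpowers g : Subgroup Spor.M23) : Set Spor.M23),
      (n : Equiv.Perm GolayPt) ∈ Spor.M22 := by
    intro n hn
    obtain ⟨hnm, hnn⟩ := n.2
    refine mem_M22_iff.mpr ⟨hnm, hnn, ?_⟩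
    set x := (n : Equiv.Perm GolayPt) (some 0) with hx
    obtain ⟨j, hj⟩ := Subgroup.mem_zpowers_iff.mp
      ((Subgroup.mem_normalizer_iff''.mp hn g).mp (Subgroup.mem_zpowers g))
    have hfx : doublePerm x = x := by
      have h1 := congrArg (fun z : Spor.M23 => (z : Equiv.Perm GolayPt) (some 0)) hj
      simp only [Subgroup.coe_zpow, Subgroup.coe_mul, Subgroup.coe_inv, Equiv.Perm.mul_apply,
        hg] at h1
      have h2 : (doublePerm ^ j) (some 0) = some 0 :=
        MulAction.mem_stabilizer_iff.mp (zpow_mem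
          (show doublePerm ∈ MulAction.stabilizer (Equiv.Perm GolayPt) (some 0 : GolayPt) from
            doublePerm_fix.2) j)
      rw [h2, ← hx] at h1
      have h3 := congrArg (n : Equiv.Perm GolayPt) h1
      rw [Equiv.Perm.coe_inv, Equiv.apply_symm_apply, ← hx] at h3
      exact h3.symm
    have hm : x ∈ fixSet doublePerm := mem_fixSet.mpr hfx
    rw [fixSet_doublePerm, Finset.mem_insert, Finset.mem_singleton] at hm
    refine hm.resolve_left fun e => ?_
    exact Option.some_ne_none 0 ((n : Equiv.Perm GolayPt).injective (hx.symm.trans (e.trans hnn.symm)))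
  refine Nat.card_le_card_of_injective
    (fun n => (⟨⟨_, hmem n n.2⟩, ?_⟩ :
      Subgroup.normalizer ((Subgroup.zpowers g' : Subgroup Spor.M22) : Set Spor.M22))) ?_
  · have hinj : Function.Injective ι := Subgroup.inclusion_injective _
    rw [Subgroup.mem_normalizer_iff]
    intro z
    have key := Subgroup.mem_normalizer_iff.mp n.2 (ι z)
    have e : ι (⟨_, hmem n n.2⟩ * z * (⟨_, hmem n n.2⟩ : Spor.M22)⁻¹) =
        (n : Spor.M23) * ι z * (n : Spor.M23)⁻¹ := Subtype.ext rfl
    have k1 : ∀ y, ι y ∈ Subgroup.zpowers g ↔ y ∈ Subgroup.zpowers g' := fun y => by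
      rw [← hmap]; exact Subgroup.mem_map_iff_mem hinj
    rw [← e] at key
    exact (k1 z).symm.trans (key.trans (k1 _))
  · intro a b h
    have := congrArg (fun z : Subgroup.normalizer
      ((Subgroup.zpowers g' : Subgroup Spor.M22) : Set Spor.M22) =>
        ((z : Spor.M22) : Equiv.Perm GolayPt)) h
    exact Subtype.ext (Subtype.ext this)

theorem no_M23_subgroup_425040 {K : Subgroup Spor.M23} (hc : Nat.card K = 425040) : False := by
  have : Fact (Nat.Prime 11) := ⟨by norm_num⟩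
  have hp2 : ¬11 ^ 2 ∣ Nat.card Spor.M23 := by rw [card_M23]; norm_num
  obtain ⟨P⟩ := (inferInstance : Nonempty (Sylow 11 K))
  obtain ⟨Q, hQ⟩ := (P.isPGroup'.map K.subtype).exists_le_sylow
  let g : Spor.M23 := ⟨doublePerm, doublePerm_mem, doublePerm_fix.1⟩
  have hg : orderOf g = 11 := (Subgroup.orderOf_mk _ _).trans orderOf_doublePerm
  obtain ⟨P0, hP0⟩ := exists_sylow_zpowers g hg hp2
  have hPc : Nat.card (P : Subgroup K) = 11 :=
    card_sylow_eq_prime (by rw [hc]; norm_num) (by rw [hc]; norm_num) P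
  have hQc : Nat.card (Q : Subgroup Spor.M23) = 11 :=
    card_sylow_eq_prime (by rw [card_M23]; norm_num) hp2 Q
  have hPQ : (P : Subgroup K).map K.subtype = Q := Subgroup.eq_of_le_of_card_ge hQ
    (le_of_eq (by rw [Subgroup.card_map_of_injective K.subtype_injective, hPc, hQc]))
  have hle : Nat.card (Subgroup.normalizer ((P : Subgroup K) : Set K)) ≤ 11 * 5 := by
    have h1 := Subgroup.index_mul_card (Subgroup.normalizer ((Q : Subgroup Spor.M23) : Set Spor.M23))
    have h2 := Subgroup.index_mul_card (Subgroup.normalizer ((P0 : Subgroup Spor.M23) : Set Spor.M23))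
    have h4 : (Subgroup.normalizer ((Q : Subgroup Spor.M23) : Set Spor.M23)).index =
        (Subgroup.normalizer ((P0 : Subgroup Spor.M23) : Set Spor.M23)).index :=
      (Sylow.card_eq_index_normalizer Q).symm.trans (Sylow.card_eq_index_normalizer P0)
    rw [h4, ← h2] at h1
    have h3 := card_normalizer_M23_double g rfl
    rw [← hP0, ← Nat.eq_of_mul_eq_mul_left (Nat.pos_of_ne_zero Subgroup.index_ne_zero_of_finite) h1,
      ← hPQ] at h3
    refine le_trans (le_of_eq (Subgroup.card_map_of_injective K.subtype_injective).symm) ?_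
    exact (Subgroup.card_le_of_le (Subgroup.le_normalizer_map K.subtype)).trans h3
  have := card_normalizer_sylow hc P hPc (b := 5) (m₀ := 0) hle (by decide +kernel)
  have hpos : 0 < Nat.card (Subgroup.normalizer ((P : Subgroup K) : Set K)) := Nat.card_pos
  omega

theorem exists_fixed_M24 {H : Subgroup (Equiv.Perm GolayPt)} (hle : H ≤ M24)
    (hc : Nat.card H = 10200960) : ∃ b, ∀ h ∈ H, h b = b := by
  have hinv : ∀ h ∈ H, ∀ t ∈ (Finset.univ : Finset GolayPt), h t ∈ (Finset.univ : Finset GolayPt) :=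
    fun h _ t _ => Finset.mem_univ _
  have hT : (Finset.univ : Finset GolayPt).card = 24 := by simp
  have : Fact (Nat.Prime 23) := ⟨by norm_num⟩
  obtain ⟨b, -, hb⟩ := exists_fixed_of_sizes (T := Finset.univ) ⟨none, Finset.mem_univ _⟩ hinv
    fun a ha => by
      have e23 := orbit_mod_bound hle hc 23 1 (by norm_num) (by norm_num) rfl
        (Z := ∅) (fun z hz => absurd hz (Finset.notMem_empty z)) hinv ha
      simp only [Finset.card_empty, add_zero] at e23
      have key : ∀ m ≤ 24, 10200960 % m = 0 → m % 23 ≤ 1 →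
          m = 1 ∨ (24 < 2 * m ∧ m < 24) ∨ m = 24 := by
        intro m hm h1 h2
        interval_cases m <;> omega
      rw [hT]
      rcases key _ ((Finset.card_le_card (orbitFin_subset hinv ha)).trans hT.le) (card_orbit_dvd_mod hc a)
        e23 with h | h | h24
      · exact Or.inl h
      · exact Or.inr h
      exfalso
      have hall : orbitFin H a = Finset.univ :=
        Finset.eq_of_subset_of_card_le (Finset.subset_univ _) (by rw [hT, h24])
      have hn : orbitFin H none = Finset.univ := by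
        rw [orbitFin_eq_of_mem (hall ▸ Finset.mem_univ none), hall]
      have hmul := card_eq_orbitFin_mul H none
      rw [hn, hT, hc] at hmul
      refine no_M23_subgroup_425040 (K := (H ⊓ MulAction.stabilizer (Equiv.Perm GolayPt)
        (none : GolayPt)).subgroupOf Spor.M23) ?_
      rw [Nat.card_congr (Subgroup.subgroupOfEquivOfLe
        (show H ⊓ MulAction.stabilizer (Equiv.Perm GolayPt) (none : GolayPt) ≤ Spor.M23 from
          fun x hx => ⟨hle hx.1, hx.2⟩)).toEquiv]
      omega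
  exact ⟨b, hb⟩

end Cfsg.Agent.Golay
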