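import Cfsg.Agent.Golay.TransvectionCentralizer

/-!
A Sylow 2-subgroup of `Cfsg.M24` is self-normalising: it corresponds to the unitriangular group
inside the centraliser of a transvection in SL(5, 2).
-/

set_option autoImplicit false

namespace Cfsg.Agent.Golay

open Cfsg
open scoped Pointwise

/-- The position of a coordinate in the flag fixed by the unitriangular group. -/
def flagPos (i : Fin 5) : ℕ := [0, 4, 1, 2, 3].getD i.val 0

/-- Unitriangular with respect to `flagPos`. -/
def IsFlagUni (M : Matrix (Fin 5) (Fin 5) (ZMod 2)) : Prop :=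
  (∀ i, M i i = 1) ∧ ∀ i j, flagPos j < flagPos i → M i j = 0

theorem flagPos_injective : Function.Injective flagPos := by decide

theorem isFlagUni_one : IsFlagUni (1 : Matrix (Fin 5) (Fin 5) (ZMod 2)) :=
  ⟨fun i => Matrix.one_apply_eq i, fun i j h => Matrix.one_apply_ne (by rintro rfl; omega)⟩

theorem isFlagUni_mul {A B : Matrix (Fin 5) (Fin 5) (ZMod 2)} (hA : IsFlagUni A)
    (hB : IsFlagUni B) : IsFlagUni (A * B) := by
  refine ⟨fun i => ?_, fun i j h => ?_⟩
  · rw [Matrix.mul_apply, Finset.sum_eq_single i]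
    · rw [hA.1, hB.1, one_mul]
    · intro k _ hk
      rcases lt_trichotomy (flagPos k) (flagPos i) with h | h | h
      · rw [hA.2 i k h, zero_mul]
      · exact absurd (flagPos_injective h) hk
      · rw [hB.2 k i h, mul_zero]
    · simp
  · rw [Matrix.mul_apply]
    refine Finset.sum_eq_zero fun k _ => ?_
    by_cases hk : flagPos k < flagPos i
    · rw [hA.2 i k hk, zero_mul]
    · rw [hB.2 k j (by omega), mul_zero]

theorem perm_has_descent : ∀ σ : Equiv.Perm (Fin 5), σ ≠ 1 →
    ∃ i, flagPos i < flagPos (σ i) := by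
  intro σ hσ
  by_contra h
  simp only [not_exists, not_lt] at h
  refine hσ (Equiv.ext fun i => ?_)
  have hsum : ∑ i, flagPos (σ i) = ∑ i, flagPos i := Equiv.sum_comp σ flagPos
  have := (Finset.sum_eq_sum_iff_of_le (fun i _ => h i)).mp hsum i (Finset.mem_univ i)
  exact flagPos_injective this

theorem isFlagUni_det {M : Matrix (Fin 5) (Fin 5) (ZMod 2)} (h : IsFlagUni M) : M.det = 1 := by
  rw [Matrix.det_apply, Finset.sum_eq_single (1 : Equiv.Perm (Fin 5))]
  · simp [h.1]
  · intro σ _ hσ
    obtain ⟨i, hi⟩ := perm_has_descent σ hσ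
    exact (congrArg (Equiv.Perm.sign σ • ·)
      (Finset.prod_eq_zero (f := fun i => M (σ i) i) (Finset.mem_univ i) (h.2 _ _ hi))).trans (smul_zero _)
  · simp

/-- The unitriangular group of the flag. -/
noncomputable def flagUni : Subgroup (Matrix.SpecialLinearGroup (Fin 5) (ZMod 2)) where
  carrier := {M | IsFlagUni M.1}
  one_mem' := by simpa using isFlagUni_one
  mul_mem' := fun {a b} ha hb => by
    simpa using isFlagUni_mul (A := a.1) (B := b.1) ha hb
  inv_mem' := fun {a} ha => by
    have hpow : ∀ n : ℕ, IsFlagUni (a ^ n).1 := by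
      intro n
      induction n with
      | zero => simpa using isFlagUni_one
      | succ n ih =>
        rw [pow_succ]
        exact isFlagUni_mul ih ha
    obtain ⟨n, hn⟩ := (Submonoid.mem_powers_iff _ _).mp
      ((isOfFinOrder_of_finite a).mem_powers_iff_mem_zpowers.mpr
        (inv_mem (Subgroup.mem_zpowers a)))
    simpa [← hn] using hpow n

theorem flag_pairs_card :
    (Finset.univ.filter fun q : Fin 5 × Fin 5 => flagPos q.1 < flagPos q.2).card = 10 := by
  decide

theorem card_flagUni : Nat.card flagUni = 1024 := by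
  classical
  let P := {q : Fin 5 × Fin 5 //
    q ∈ Finset.univ.filter fun q : Fin 5 × Fin 5 => flagPos q.1 < flagPos q.2}
  let f : flagUni → (P → ZMod 2) := fun M q => M.1.1 q.1.1 q.1.2
  have hf : Function.Bijective f := by
    refine ⟨fun A B e => Subtype.ext (Subtype.ext ?_), fun v => ?_⟩
    · ext i j
      rcases lt_trichotomy (flagPos i) (flagPos j) with h | h | h
      · exact congrFun e ⟨(i, j), by simp [h]⟩
      · rw [flagPos_injective h, A.2.1, B.2.1]
      · rw [A.2.2 i j h, B.2.2 i j h]
    · let M : Matrix (Fin 5) (Fin 5) (ZMod 2) := Matrix.of fun i j =>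
        if h : flagPos i < flagPos j then v ⟨(i, j), by simp [h]⟩ else if i = j then 1 else 0
      have hM : IsFlagUni M := by
        refine ⟨fun i => by simp [M], fun i j h => ?_⟩
        have h1 : i ≠ j := by rintro rfl; omega
        have h2 : ¬flagPos i < flagPos j := by omega
        simp [M, h1, h2]
      refine ⟨⟨⟨M, isFlagUni_det hM⟩, hM⟩, funext fun q => ?_⟩
      have hq := (Finset.mem_filter.mp q.2).2
      simp [f, M, hq]
  rw [Nat.card_eq_of_bijective f hf, Nat.card_fun, Nat.card_zmod, Nat.card_eq_finsetCard,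
    flag_pairs_card]
  norm_num

theorem isFlagUni_elementary {a b : Fin 5} (h : flagPos a < flagPos b) :
    IsFlagUni (Matrix.transvection a b (1 : ZMod 2)) := by
  refine ⟨fun i => ?_, fun i j hij => ?_⟩ <;>
    rw [Matrix.transvection, Matrix.add_apply, Matrix.single_apply]
  · rw [Matrix.one_apply_eq, if_neg, add_zero]
    rintro ⟨rfl, rfl⟩; omega
  · rw [Matrix.one_apply_ne (by rintro rfl; omega), if_neg, add_zero]
    rintro ⟨rfl, rfl⟩; omega

theorem isFlagUni_transvection : IsFlagUni (Matrix.transvection (0 : Fin 5) 1 (1 : ZMod 2)) :=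
  isFlagUni_elementary (by decide)

theorem flagUni_center {M : Matrix (Fin 5) (Fin 5) (ZMod 2)} (hM : IsFlagUni M)
    (hc : ∀ a b, flagPos a < flagPos b →
      M * Matrix.transvection a b 1 = Matrix.transvection a b 1 * M) :
    M = 1 ∨ M = Matrix.transvection 0 1 1 := by
  have hz : ∀ i j, i ≠ j → ¬(i = 0 ∧ j = 1) → M i j = 0 := by
    intro i j hij hne
    by_cases h : flagPos j < flagPos i
    · exact hM.2 i j h
    have hlt : flagPos i < flagPos j := lt_of_le_of_ne (not_lt.mp h)
      fun e => hij (flagPos_injective e)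
    have hcases : ∀ i j : Fin 5, ¬(i = 0 ∧ j = 1) → flagPos i < flagPos j →
        (∃ b, flagPos j < flagPos b) ∨ (∃ a, flagPos a < flagPos i) := by decide
    rcases hcases i j hne hlt with ⟨b, hb⟩ | ⟨a, ha⟩
    · have h1 := hc j b hb
      rw [Matrix.transvection, Matrix.mul_add, Matrix.add_mul, Matrix.mul_one, Matrix.one_mul,
        add_right_inj] at h1
      simpa [hij] using congrFun (congrFun h1 i) b
    · have h1 := hc a i ha
      rw [Matrix.transvection, Matrix.mul_add, Matrix.add_mul, Matrix.mul_one, Matrix.one_mul,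
        add_right_inj] at h1
      simpa [Ne.symm hij] using (congrFun (congrFun h1 a) j).symm
  have h01 : ∀ a : ZMod 2, a = 0 ∨ a = 1 := by decide
  rcases h01 (M 0 1) with h | h
  · left
    ext i j
    by_cases hij : i = j
    · subst hij; rw [hM.1, Matrix.one_apply_eq]
    · rw [Matrix.one_apply_ne hij]
      by_cases h' : i = 0 ∧ j = 1
      · rw [h'.1, h'.2, h]
      · exact hz i j hij h'
  · right
    ext i j
    by_cases hij : i = j
    · subst hij; rw [hM.1]
      exact (isFlagUni_transvection.1 i).symm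
    · by_cases h' : i = 0 ∧ j = 1
      · rw [h'.1, h'.2, h]
        exact (by decide : (1 : ZMod 2) = Matrix.transvection (0 : Fin 5) 1 (1 : ZMod 2) 0 1)
      · rw [hz i j hij h', Matrix.transvection, Matrix.add_apply, Matrix.one_apply_ne hij,
          Matrix.single_apply, if_neg (fun h2 => h' ⟨h2.1.symm, h2.2.symm⟩), add_zero]

theorem flagUni_normalizer {n m : Matrix (Fin 5) (Fin 5) (ZMod 2)} (hnm : n * m = 1)
    (hmn : m * n = 1)
    (h : ∀ a b, flagPos a < flagPos b → IsFlagUni (n * Matrix.transvection a b 1 * m)) :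
    IsFlagUni n := by
  classical
  have hprod : ∀ a b, flagPos a < flagPos b → ∀ i j, flagPos j ≤ flagPos i →
      n i a * m b j = 0 := by
    intro a b hab i j hji
    have hU := h a b hab
    rw [Matrix.transvection, Matrix.mul_add, Matrix.mul_one, Matrix.add_mul, hnm] at hU
    have hentry : (n * Matrix.single a b (1 : ZMod 2) * m) i j = n i a * m b j := by
      simp [Matrix.mul_apply, Matrix.single_apply, ite_and]
    rw [← hentry]
    by_cases hij : i = j
    · subst hij
      have := hU.1 i
      rwa [Matrix.add_apply, Matrix.one_apply_eq, add_eq_left] at this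
    · have := hU.2 i j (lt_of_le_of_ne hji fun e => hij (flagPos_injective e).symm)
      rwa [Matrix.add_apply, Matrix.one_apply_ne hij, zero_add] at this
  have htri : ∀ i a, flagPos a < flagPos i → n i a = 0 := by
    intro i a hai
    by_contra hne
    have hzero : ∀ b, flagPos a < flagPos b → ∀ j, flagPos j ≤ flagPos i → m b j = 0 :=
      fun b hb j hj => (mul_eq_zero.mp (hprod a b hb i j hj)).resolve_left hne
    let R := {b : Fin 5 // flagPos a < flagPos b}
    let K := {k : Fin 5 // flagPos i < flagPos k}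
    let f : (R → ZMod 2) → (K → ZMod 2) := fun x k => ∑ b : R, x b * m b.1 k.1
    have hf : Function.Injective f := by
      intro x y e
      funext c
      have key : ∀ x : R → ZMod 2, ∑ k : K, f x k * n k.1 c.1 = x c := by
        intro x
        simp only [f, Finset.sum_mul, mul_assoc]
        rw [Finset.sum_comm]
        simp only [← Finset.mul_sum]
        rw [Finset.sum_eq_single c]
        · have h1 : ∑ k : K, m c.1 k.1 * n k.1 c.1 = (m * n) c.1 c.1 := by
            rw [Matrix.mul_apply, ← Fintype.sum_subtype_add_sum_subtype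
              (fun k : Fin 5 => flagPos i < flagPos k) (fun k => m c.1 k * n k c.1)]
            rw [left_eq_add]
            exact Finset.sum_eq_zero fun k _ => by
              rw [hzero c.1 c.2 k.1 (not_lt.mp k.2), zero_mul]
          rw [h1, hmn, Matrix.one_apply_eq, mul_one]
        · intro b _ hb
          have h1 : ∑ k : K, m b.1 k.1 * n k.1 c.1 = (m * n) b.1 c.1 := by
            rw [Matrix.mul_apply, ← Fintype.sum_subtype_add_sum_subtype
              (fun k : Fin 5 => flagPos i < flagPos k) (fun k => m b.1 k * n k c.1)]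
            rw [left_eq_add]
            exact Finset.sum_eq_zero fun k _ => by
              rw [hzero b.1 b.2 k.1 (not_lt.mp k.2), zero_mul]
          rw [h1, hmn, Matrix.one_apply_ne fun e => hb (Subtype.ext e), mul_zero]
        · simp
      rw [← key x, ← key y, e]
    have hcard := Fintype.card_le_of_injective f hf
    rw [Fintype.card_fun, Fintype.card_fun, ZMod.card, Fintype.card_subtype,
      Fintype.card_subtype] at hcard
    have hchk : ∀ i a : Fin 5, flagPos a < flagPos i →
        (Finset.univ.filter fun k : Fin 5 => flagPos i < flagPos k).card <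
          (Finset.univ.filter fun b : Fin 5 => flagPos a < flagPos b).card := by decide
    exact absurd (Nat.pow_le_pow_iff_right (le_refl 2) |>.mp hcard) (not_le.mpr (hchk i a hai))
  refine ⟨fun i => ?_, htri⟩
  have hdet : n.det ≠ 0 := fun h0 => by
    have := congrArg Matrix.det hnm
    rw [Matrix.det_mul, h0, zero_mul, Matrix.det_one] at this
    exact zero_ne_one this
  rw [Matrix.det_apply, Finset.sum_eq_single (1 : Equiv.Perm (Fin 5))] at hdet
  · have h01 : ∀ a : ZMod 2, a = 0 ∨ a = 1 := by decide
    refine (h01 (n i i)).resolve_left fun h0 => hdet ?_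
    rw [Finset.prod_eq_zero (Finset.mem_univ i) (by simpa using h0), smul_zero]
  · intro σ _ hσ
    obtain ⟨i, hi⟩ := perm_has_descent σ hσ
    exact (congrArg (Equiv.Perm.sign σ • ·)
      (Finset.prod_eq_zero (f := fun i => n (σ i) i) (Finset.mem_univ i) (htri _ _ hi))).trans (smul_zero _)
  · simp

theorem card_sylow_two_M24 (P : Sylow 2 M24) (h : 1024 ∣ Nat.card (P : Subgroup M24)) :
    Nat.card (P : Subgroup M24) = 1024 := by
  obtain ⟨k, hk⟩ := IsPGroup.iff_card.mp P.isPGroup'
  have hd : 2 ^ k ∣ 244823040 := by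
    rw [← hk, ← card_M24]; exact Subgroup.card_subgroup_dvd_card _
  have hk10 : k ≤ 10 := by
    by_contra hk'
    exact absurd ((pow_dvd_pow 2 (by omega : 11 ≤ k)).trans hd) (by norm_num)
  have hk' : 10 ≤ k := by
    rw [hk] at h
    exact (Nat.pow_dvd_pow_iff_le_right (le_refl 2)).mp h
  rw [hk, show k = 10 by omega]
  norm_num

theorem exists_sylow_two_selfNormalizing : ∃ P : Sylow 2 M24,
    Subgroup.normalizer ((P : Subgroup M24) : Set M24) = P := by
  classical
  have h01 : (0 : Fin 5) ≠ 1 := by decide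
  let s : Matrix.SpecialLinearGroup (Fin 5) (ZMod 2) :=
    ⟨Matrix.transvection 0 1 1, Matrix.det_transvection_of_ne 0 1 h01 1⟩
  obtain ⟨z, hz, ⟨f⟩⟩ := exists_iso_transvection_centralizer s rfl
  let el : ∀ {a b : Fin 5}, flagPos a < flagPos b → Matrix.SpecialLinearGroup (Fin 5) (ZMod 2) :=
    fun {a b} h => ⟨Matrix.transvection a b 1, isFlagUni_det (isFlagUni_elementary h)⟩
  have hUC : flagUni ≤ Subgroup.centralizer ({s} : Set _) := by
    intro M hM
    rw [Subgroup.mem_centralizer_singleton_iff]
    refine Subtype.ext ?_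
    show M.1 * Matrix.transvection 0 1 1 = Matrix.transvection 0 1 1 * M.1
    rw [Matrix.transvection, Matrix.mul_add, Matrix.add_mul, Matrix.mul_one, Matrix.one_mul,
      add_right_inj]
    have c0 : ∀ i : Fin 5, i ≠ 0 → M.1 i 0 = 0 := fun i hi => hM.2 i 0 (by
      revert hi; revert i; decide)
    have r1 : ∀ j : Fin 5, j ≠ 1 → M.1 1 j = 0 := fun j hj => hM.2 1 j (by
      revert hj; revert j; decide)
    ext i j
    simp only [Matrix.mul_apply, Matrix.single_apply, ite_and, mul_ite, mul_one, mul_zero,
      ite_mul, one_mul, zero_mul, Finset.sum_ite_eq, Finset.mem_univ, if_true]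
    by_cases hi : i = 0 <;> by_cases hj : j = 1
    · subst hi hj; simp [hM.1]
    · subst hi; simp [Ne.symm hj, r1 j hj]
    · subst hj; simp [Ne.symm hi, c0 i hi]
    · simp [Ne.symm hi, Ne.symm hj]
  let Q : Subgroup M24 := ((flagUni.subgroupOf (Subgroup.centralizer ({s} : Set _))).comap
    f.toMonoidHom).map (Subgroup.centralizer ({z} : Set M24)).subtype
  have hQc : Nat.card Q = 1024 := by
    rw [Subgroup.card_map_of_injective (Subgroup.subtype_injective _),
      ← Subgroup.card_map_of_injective (f := f.toMonoidHom) f.injective,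
      Subgroup.map_comap_eq_self_of_surjective f.surjective,
      Nat.card_congr (Subgroup.subgroupOfEquivOfLe hUC).toEquiv, card_flagUni]
  obtain ⟨P, hQP⟩ := (IsPGroup.of_card (n := 10) (show Nat.card Q = 2 ^ 10 by
    rw [hQc]; norm_num)).exists_le_sylow
  have hPQ : (P : Subgroup M24) = Q := by
    refine (Subgroup.eq_of_le_of_card_ge hQP (le_of_eq ?_)).symm
    rw [hQc, card_sylow_two_M24 P (hQc ▸ Subgroup.card_dvd_of_le hQP)]
  refine ⟨P, le_antisymm (fun n hn => ?_) Subgroup.le_normalizer⟩
  rw [hPQ] at hn ⊢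
  have hmemQ : ∀ x : M24, x ∈ Q ↔ ∃ hx : x ∈ Subgroup.centralizer ({z} : Set M24),
      IsFlagUni ((f ⟨x, hx⟩ : Matrix.SpecialLinearGroup (Fin 5) (ZMod 2)) : Matrix _ _ _) := by
    intro x
    constructor
    · rintro ⟨y, hy, rfl⟩; exact ⟨y.2, hy⟩
    · rintro ⟨hx, h⟩; exact ⟨⟨x, hx⟩, h, rfl⟩
  have hzc : z ∈ Subgroup.centralizer ({z} : Set M24) :=
    Subgroup.mem_centralizer_singleton_iff.mpr rfl
  have hsc : s ∈ Subgroup.centralizer
      ({s} : Set (Matrix.SpecialLinearGroup (Fin 5) (ZMod 2))) :=
    Subgroup.mem_centralizer_singleton_iff.mpr rfl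
  have hfz : f ⟨z, hzc⟩ = ⟨s, hsc⟩ := by
    -- the central element of `Q` that is moved to `s`
    have hzy : ∀ u : Subgroup.centralizer ({z} : Set M24), Commute u ⟨z, hzc⟩ := fun u =>
      Subtype.ext (Subgroup.mem_centralizer_singleton_iff.mp u.2)
    have hcm : ∀ a b (h : flagPos a < flagPos b),
        ((f ⟨z, hzc⟩).1).1 * Matrix.transvection a b 1 =
          Matrix.transvection a b 1 * ((f ⟨z, hzc⟩).1).1 := by
      intro a b h
      have h1 := ((hzy (f.symm ⟨el h, hUC (isFlagUni_elementary h)⟩)).map f).eq.symm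
      rw [MulEquiv.apply_symm_apply] at h1
      exact congrArg (fun x : Subgroup.centralizer
        ({s} : Set (Matrix.SpecialLinearGroup (Fin 5) (ZMod 2))) => x.1.1) h1
    have hzQ : IsFlagUni ((f ⟨z, hzc⟩).1).1 := by
      by_contra hnot
      let F := (f ⟨z, hzc⟩)
      have hFs : F ∈ Subgroup.center (Subgroup.centralizer
          ({s} : Set (Matrix.SpecialLinearGroup (Fin 5) (ZMod 2)))) := by
        rw [Subgroup.mem_center_iff]
        intro u
        have h1 := ((hzy (f.symm u)).map f).eq
        rwa [MulEquiv.apply_symm_apply] at h1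
      let U' := flagUni.subgroupOf (Subgroup.centralizer
        ({s} : Set (Matrix.SpecialLinearGroup (Fin 5) (ZMod 2))))
      have hord : orderOf F = 2 := by
        rw [MulEquiv.orderOf_eq, Subgroup.orderOf_mk, hz]
      have hlt : U' < U' ⊔ Subgroup.zpowers F := lt_of_le_not_ge le_sup_left
        fun h => hnot (h (Subgroup.mem_sup_right (Subgroup.mem_zpowers F)))
      have hU'c : Nat.card U' = 1024 := by
        rw [Nat.card_congr (Subgroup.subgroupOfEquivOfLe hUC).toEquiv, card_flagUni]
      have hKn : (Subgroup.zpowers F).Normal := by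
        refine ⟨fun x hx g => ?_⟩
        obtain ⟨k, rfl⟩ := Subgroup.mem_zpowers_iff.mp hx
        have : Commute g (F ^ k) := Commute.zpow_right (Subgroup.mem_center_iff.mp hFs g) k
        rw [this.eq, mul_inv_cancel_right]
        exact zpow_mem (Subgroup.mem_zpowers F) k
      have hp : IsPGroup 2 (U' ⊔ Subgroup.zpowers F : Subgroup _) :=
        (IsPGroup.of_card (p := 2) (G := U') (n := 10) (by rw [hU'c]; norm_num)).to_sup_of_normal_right
          (IsPGroup.of_card (p := 2) (G := Subgroup.zpowers F) (n := 1)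
            (by rw [Nat.card_zpowers, hord]; norm_num))
      have hp' := (hp.map f.symm.toMonoidHom).map
        (Subgroup.centralizer ({z} : Set M24)).subtype
      obtain ⟨P', hP'⟩ := hp'.exists_le_sylow
      have hcle := Subgroup.card_le_of_le hP'
      rw [Subgroup.card_map_of_injective (Subgroup.subtype_injective _),
        Subgroup.card_map_of_injective f.symm.injective] at hcle
      have hP'c : Nat.card (P' : Subgroup M24) = 1024 := by
        rw [P'.card_eq_multiplicity, ← P.card_eq_multiplicity, hPQ, hQc]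
      have h3 : Nat.card U' < Nat.card (U' ⊔ Subgroup.zpowers F : Subgroup _) := by
        by_contra h4
        exact hlt.ne (Subgroup.eq_of_le_of_card_ge hlt.le (not_lt.mp h4))
      omega
    rcases flagUni_center hzQ hcm with h1 | h1
    · exfalso
      have : f ⟨z, hzc⟩ = 1 := Subtype.ext (Subtype.ext h1)
      rw [MulEquiv.map_eq_one_iff] at this
      have hz1 : z = 1 := congrArg Subtype.val this
      rw [hz1, orderOf_one] at hz
      norm_num at hz
    · exact Subtype.ext (Subtype.ext h1)
  have hzQ : z ∈ Q := (hmemQ z).mpr ⟨hzc, by rw [hfz]; exact isFlagUni_transvection⟩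
  rw [Subgroup.mem_normalizer_iff] at hn
  have hnz : n * z * n⁻¹ = z := by
    obtain ⟨hx, hxU⟩ := (hmemQ _).mp ((hn z).mp hzQ)
    have hc : ∀ a b, flagPos a < flagPos b →
        ((f ⟨_, hx⟩).1).1 * Matrix.transvection a b 1 =
          Matrix.transvection a b 1 * ((f ⟨_, hx⟩).1).1 := by
      intro a b h
      let u := f.symm ⟨el h, hUC (isFlagUni_elementary h)⟩
      have huQ : (u : M24) ∈ Q := (hmemQ _).mpr ⟨u.2, by
        simp only [Subtype.coe_eta, u, MulEquiv.apply_symm_apply]
        exact isFlagUni_elementary h⟩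
      have hq : n⁻¹ * (u : M24) * n ∈ Q := (hn _).mpr (by simpa [mul_assoc] using huQ)
      have hcom : n⁻¹ * (u : M24) * n * z = z * (n⁻¹ * (u : M24) * n) :=
        Subgroup.mem_centralizer_singleton_iff.mp ((hmemQ _).mp hq).choose
      have h1 : (⟨_, hx⟩ : Subgroup.centralizer ({z} : Set M24)) * u = u * ⟨_, hx⟩ := by
        refine Subtype.ext ?_
        show n * z * n⁻¹ * (u : M24) = (u : M24) * (n * z * n⁻¹)
        calc n * z * n⁻¹ * (u : M24) = n * (z * (n⁻¹ * (u : M24) * n)) * n⁻¹ := by group
          _ = (u : M24) * (n * z * n⁻¹) := by rw [← hcom]; group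
      have h2 := congrArg f h1
      simp only [map_mul, u, MulEquiv.apply_symm_apply] at h2
      exact congrArg (fun x : Subgroup.centralizer
        ({s} : Set (Matrix.SpecialLinearGroup (Fin 5) (ZMod 2))) => x.1.1) h2
    rcases flagUni_center hxU hc with h1 | h1
    · exfalso
      have h2 : f ⟨_, hx⟩ = 1 := Subtype.ext (Subtype.ext h1)
      rw [MulEquiv.map_eq_one_iff] at h2
      have h3 : n * z * n⁻¹ = 1 := congrArg Subtype.val h2
      rw [conj_eq_one_iff] at h3
      rw [h3, orderOf_one] at hz
      norm_num at hz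
    · have h2 : f ⟨_, hx⟩ = f ⟨z, hzc⟩ := by rw [hfz]; exact Subtype.ext (Subtype.ext h1)
      exact congrArg Subtype.val (f.injective h2)
  have hnc : n ∈ Subgroup.centralizer ({z} : Set M24) := by
    rw [Subgroup.mem_centralizer_singleton_iff]
    exact mul_inv_eq_iff_eq_mul.mp hnz
  refine (hmemQ n).mpr ⟨hnc, flagUni_normalizer (m := ((f ⟨n, hnc⟩)⁻¹).1.1)
    (by rw [← Matrix.SpecialLinearGroup.coe_mul, ← Subgroup.coe_mul, mul_inv_cancel]; rfl)
    (by rw [← Matrix.SpecialLinearGroup.coe_mul, ← Subgroup.coe_mul, inv_mul_cancel]; rfl)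
    fun a b h => ?_⟩
  let u := f.symm ⟨el h, hUC (isFlagUni_elementary h)⟩
  have huQ : (u : M24) ∈ Q := (hmemQ _).mpr ⟨u.2, by
    simp only [Subtype.coe_eta, u, MulEquiv.apply_symm_apply]
    exact isFlagUni_elementary h⟩
  obtain ⟨hx, hxU⟩ := (hmemQ _).mp ((hn _).mp huQ)
  have he : (⟨_, hx⟩ : Subgroup.centralizer ({z} : Set M24)) = ⟨n, hnc⟩ * u * ⟨n, hnc⟩⁻¹ := rfl
  rw [he, map_mul, map_mul, map_inv] at hxU
  simpa [u] using hxU

theorem sylow_two_selfNormalizing (S : Sylow 2 M24) :
    Subgroup.normalizer ((S : Subgroup M24) : Set M24) = S := by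
  obtain ⟨P, hP⟩ := exists_sylow_two_selfNormalizing
  refine (Subgroup.eq_of_le_of_card_ge Subgroup.le_normalizer (le_of_eq ?_)).symm
  have h1 := Subgroup.index_mul_card (Subgroup.normalizer ((S : Subgroup M24) : Set M24))
  have h2 := Subgroup.index_mul_card (Subgroup.normalizer ((P : Subgroup M24) : Set M24))
  have h3 : (Subgroup.normalizer ((S : Subgroup M24) : Set M24)).index =
      (Subgroup.normalizer ((P : Subgroup M24) : Set M24)).index :=
    (Sylow.card_eq_index_normalizer S).symm.trans (Sylow.card_eq_index_normalizer P)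
  rw [h3, ← h2] at h1
  rw [Nat.eq_of_mul_eq_mul_left (Nat.pos_of_ne_zero Subgroup.index_ne_zero_of_finite) h1, hP,
    P.card_eq_multiplicity, S.card_eq_multiplicity]

end Cfsg.Agent.Golay
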