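import Cfsg.Agent.Golay.Mathieu

/-!
The centraliser in `Cfsg.M24` of an involution with eight fixed points is isomorphic to the
centraliser of a transvection in SL(5, 2): both act affinely on a space of sixteen vectors.
-/

set_option autoImplicit false

namespace Cfsg.Agent.Golay

open Cfsg
open scoped Pointwise

/-- Coordinates of the sixteen points outside `oct0`. -/
def codeTab : List ℕ :=
  [0, 0, 0, 0, 0, 0, 15, 11, 8, 9, 13, 2, 6, 10, 0, 3, 14, 0, 12, 5, 7, 1, 4, 0]

/-- Vectors with five coordinates over the field with two elements. -/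
abbrev V5 : Type := Fin 5 → ZMod 2

/-- The direction vector of a point, with coordinate 1 zero. -/
def dirVec (p : GolayPt) : V5 :=
  let c := codeTab.getD (ptIdx p) 0
  fun i => if c.testBit ([0, 9, 1, 2, 3].getD i.val 9) then 1 else 0

/-- The affine vector of a point. -/
def affVec (p : GolayPt) : V5 := dirVec p + Pi.single 1 1

/-- The point outside `oct0` with a given direction vector. -/
def dirPt (u : V5) : GolayPt :=
  (((List.range 24).map ptOf).find? fun p =>
    decide (p ∉ oct0 ∧ dirVec p = Function.update u 1 0)).getD (basePt 6)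

theorem dirPt_spec : ∀ u : V5, dirPt u ∉ oct0 ∧ dirVec (dirPt u) = Function.update u 1 0 := by
  decide +kernel

theorem dirPt_dirVec : ∀ p : GolayPt, p ∉ oct0 → dirPt (dirVec p) = p := by
  decide +kernel

theorem dirVec_injective {p q : GolayPt} (hp : p ∉ oct0) (hq : q ∉ oct0)
    (h : dirVec p = dirVec q) : p = q := by
  rw [← dirPt_dirVec p hp, ← dirPt_dirVec q hq, h]

theorem dirVec_base : dirVec (basePt 6) = 0 := by decide +kernel

theorem base_six_notMem : basePt 6 ∉ oct0 := by decide +kernel

theorem six_words_affine : ∀ w ∈ transWords.getD 6 [], ∀ p, p ∉ oct0 →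
    dirVec (wordFun w p) = dirVec p + dirVec (wordFun w (basePt 6)) := by
  decide +kernel

theorem translation_affine {t : Equiv.Perm GolayPt} (ht : t ∈ chainStab M24 6) {p : GolayPt}
    (hp : p ∉ oct0) : dirVec (t p) = dirVec p + dirVec (t (basePt 6)) := by
  obtain ⟨w, hw, e⟩ := eq_wordFun_of_six ht
  rw [e]
  exact six_words_affine w hw p hp

theorem basePt_lt_six_mem : ∀ j < 6, basePt j ∈ oct0 := by decide +kernel

/-- The stabiliser of `oct0`. -/
def octStab : Subgroup (Equiv.Perm GolayPt) :=
  M24 ⊓ MulAction.stabilizer (Equiv.Perm GolayPt) oct0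

theorem octStab_notMem {g : Equiv.Perm GolayPt} (hg : g ∈ octStab) {p : GolayPt}
    (hp : p ∉ oct0) : g p ∉ oct0 := fun h => hp ((apply_mem_octad_iff hg.2 p).mp h)

theorem octStab_conj {g t : Equiv.Perm GolayPt} (hg : g ∈ octStab) (ht : t ∈ chainStab M24 6) :
    g * t * g⁻¹ ∈ chainStab M24 6 := by
  refine mem_chainStab.mpr ⟨mul_mem (mul_mem hg.1 (mem_chainStab.mp ht).1) (inv_mem hg.1),
    fun j hj => ?_⟩
  have hq : g⁻¹ (basePt j) ∈ oct0 := by
    have := apply_mem_octad_iff hg.2 (g⁻¹ (basePt j))
    rw [Equiv.Perm.coe_inv, Equiv.apply_symm_apply] at this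
    exact this.mp (basePt_lt_six_mem j hj)
  rw [Equiv.Perm.mul_apply, Equiv.Perm.mul_apply, fix_oct0_of_six ht hq, Equiv.Perm.coe_inv,
    Equiv.apply_symm_apply]

theorem update_one_add (u v : V5) :
    Function.update (u + v) 1 0 = Function.update u 1 0 + Function.update v 1 0 := by
  funext i
  by_cases h : i = 1
  · subst h; simp
  · simp [h]

/-- The linear part of an element of the octad stabiliser. -/
def linPart (g : Equiv.Perm GolayPt) (u : V5) : V5 :=
  dirVec (g (dirPt u)) + dirVec (g (basePt 6))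

theorem zmod_two_rearrange : ∀ a b c : ZMod 2, a + b + c + c = (a + c) + (b + c) := by decide

theorem linPart_add {g : Equiv.Perm GolayPt} (hg : g ∈ octStab) (u v : V5) :
    linPart g (u + v) = linPart g u + linPart g v := by
  obtain ⟨hu, hu'⟩ := dirPt_spec u
  obtain ⟨hv, hv'⟩ := dirPt_spec v
  obtain ⟨hw, hw'⟩ := dirPt_spec (u + v)
  obtain ⟨t, ht, hte⟩ := exists_chainStab_move (H := M24) gen3_le (k := 6) (by norm_num)
    (y := dirPt u) (by unfold IsTarget; simpa using hu)
  have htv : t (dirPt v) ∉ oct0 := by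
    intro h
    have := fix_oct0_of_six ht h
    exact hv (t.injective this ▸ h)
  have e : dirPt (u + v) = t (dirPt v) := by
    refine dirVec_injective hw htv ?_
    rw [translation_affine ht hv, hte, hw', hu', hv', update_one_add, add_comm]
  have hc := octStab_conj hg ht
  have hq : ∀ q : GolayPt, q ∉ oct0 →
      dirVec (g (t q)) = dirVec (g q) + dirVec ((g * t * g⁻¹) (basePt 6)) := by
    intro q hq'
    rw [← translation_affine hc (octStab_notMem hg hq'), Equiv.Perm.mul_apply,
      Equiv.Perm.mul_apply, Equiv.Perm.coe_inv, Equiv.symm_apply_apply]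
  have h1 := hq _ hv
  have h2 := hq _ base_six_notMem
  rw [hte] at h2
  funext i
  simp only [linPart, e, h1, h2, Pi.add_apply]
  generalize dirVec (g (dirPt v)) i = a
  generalize dirVec ((g * t * g⁻¹) (basePt 6)) i = b
  generalize dirVec (g (basePt 6)) i = c
  revert a b c
  decide

/-- The affine action of the octad stabiliser as a linear map of five-dimensional space. -/
noncomputable def affLin (g : Equiv.Perm GolayPt) (hg : g ∈ octStab) : V5 →ₗ[ZMod 2] V5 :=
  AddMonoidHom.toZModLinearMap 2
    (AddMonoidHom.mk' (fun v => linPart g v + v 1 • affVec (g (basePt 6))) fun u v => by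
      rw [linPart_add hg, Pi.add_apply, add_smul]; abel)

theorem dirPt_affVec : ∀ p : GolayPt, p ∉ oct0 → dirPt (affVec p) = p ∧ affVec p 1 = 1 := by
  decide +kernel

theorem vec_add_cancel : ∀ a b c : ZMod 2, (a + b) + (b + c) = a + c := by decide

theorem affLin_affVec {g : Equiv.Perm GolayPt} (hg : g ∈ octStab) {p : GolayPt}
    (hp : p ∉ oct0) : affLin g hg (affVec p) = affVec (g p) := by
  obtain ⟨h1, h2⟩ := dirPt_affVec p hp
  show linPart g (affVec p) + affVec p 1 • affVec (g (basePt 6)) = _
  rw [h2, one_smul, linPart, h1]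
  funext i
  simp only [affVec, Pi.add_apply]
  exact vec_add_cancel _ _ _

/-- The matrix of the affine action. -/
noncomputable def affMat (g : Equiv.Perm GolayPt) (hg : g ∈ octStab) :
    Matrix (Fin 5) (Fin 5) (ZMod 2) :=
  LinearMap.toMatrix' (affLin g hg)

theorem affMat_mulVec {g : Equiv.Perm GolayPt} (hg : g ∈ octStab) {p : GolayPt}
    (hp : p ∉ oct0) : Matrix.mulVec (affMat g hg) (affVec p) = affVec (g p) := by
  rw [affMat, LinearMap.toMatrix'_mulVec, affLin_affVec hg hp]

theorem single_eq_affVec : ∀ j : Fin 5, (Pi.single j 1 : V5) =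
    if j = 1 then affVec (basePt 6)
    else affVec (dirPt (Pi.single j 1)) + affVec (basePt 6) := by
  decide +kernel

theorem matrix_eq_of_affVec {A B : Matrix (Fin 5) (Fin 5) (ZMod 2)}
    (h : ∀ p, p ∉ oct0 → Matrix.mulVec A (affVec p) = Matrix.mulVec B (affVec p)) : A = B := by
  ext i j
  have key : Matrix.mulVec A (Pi.single j 1) = Matrix.mulVec B (Pi.single j 1) := by
    rw [single_eq_affVec j]
    split_ifs with hj
    · exact h _ base_six_notMem
    · rw [Matrix.mulVec_add, Matrix.mulVec_add, h _ base_six_notMem, h _ (dirPt_spec _).1]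
  simpa using congrFun key i

theorem affMat_one : affMat 1 (one_mem _) = 1 :=
  matrix_eq_of_affVec fun p hp => by rw [affMat_mulVec _ hp, Matrix.one_mulVec]; rfl

theorem affMat_mul {g h : Equiv.Perm GolayPt} (hg : g ∈ octStab) (hh : h ∈ octStab) :
    affMat (g * h) (mul_mem hg hh) = affMat g hg * affMat h hh :=
  matrix_eq_of_affVec fun p hp => by
    rw [← Matrix.mulVec_mulVec, affMat_mulVec hh hp, affMat_mulVec hg (octStab_notMem hh hp),
      affMat_mulVec _ hp]
    rfl

theorem affMat_det {g : Equiv.Perm GolayPt} (hg : g ∈ octStab) : (affMat g hg).det = 1 := by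
  have h : affMat g hg * affMat g⁻¹ (inv_mem hg) = 1 := by
    rw [← affMat_mul hg (inv_mem hg)]
    have key : ∀ x (hx : x ∈ octStab), x = 1 → affMat x hx = 1 := by
      rintro x hx rfl; exact affMat_one
    exact key _ _ (mul_inv_cancel g)
  have h2 := congrArg Matrix.det h
  rw [Matrix.det_mul, Matrix.det_one] at h2
  revert h2
  generalize (affMat g hg).det = a
  generalize (affMat g⁻¹ (inv_mem hg)).det = b
  revert a b
  decide

/-- Octads with five points outside `oct0` which single out the points of `oct0`. -/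
def outSteps : List (List ℕ × ℕ) :=
  [([3722, 3744, 3792, 3859, 3968], 0), ([3722, 3859, 3968], 1),
    ([3722, 3744, 3792, 3844, 3968], 2), ([3722, 3944, 3968], 3), ([3744, 3944, 3968], 5),
    ([3652, 3944, 3968], 14), ([3650, 3652, 3792, 3944, 3968], 17), ([3744, 3844, 3968], 23)]

theorem outSteps_valid : stepsValid oct0ᶜ outSteps = true := by decide +kernel

theorem eq_one_of_affMat {g : Equiv.Perm GolayPt} (hg : g ∈ octStab) (h : affMat g hg = 1) :
    g = 1 := by
  refine eq_one_of_stepsValid hg.1 _ _ outSteps_valid fun p hp => ?_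
  rw [Finset.mem_compl] at hp
  have := affMat_mulVec hg hp
  rw [h, Matrix.one_mulVec] at this
  exact (dirVec_injective hp (octStab_notMem hg hp) (add_right_cancel this)).symm

theorem zword_mem : [134] ∈ transWords.getD 6 [] := by decide +kernel

theorem zword_moves : ∀ p, (p ∈ oct0 ↔ wordFun [134] p = p) := by decide +kernel

theorem zword_sq : ∀ p, wordFun [134] (wordFun [134] p) = p := by decide +kernel

theorem zword_affVec : ∀ p, p ∉ oct0 → affVec (wordFun [134] p) =
    Matrix.mulVec (Matrix.transvection (0 : Fin 5) 1 (1 : ZMod 2)) (affVec p) := by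
  decide +kernel

theorem exists_involution_octad : ∃ z : M24, orderOf z = 2 ∧
    ⇑(z : Equiv.Perm GolayPt) = wordFun [134] := by
  obtain ⟨g, hg, e⟩ := exists_wordPerm (trans_fix 6 (by norm_num) _ zword_mem)
  refine ⟨⟨g, (mem_chainStab.mp hg).1⟩, ?_, e⟩
  rw [← Subgroup.orderOf_coe]
  refine orderOf_eq_prime ?_ ?_
  · ext p : 1
    rw [pow_two, Equiv.Perm.mul_apply, e]
    exact zword_sq p
  · intro h
    have h2 := (zword_moves (basePt 6)).mpr (by rw [← e, show g = 1 from h]; rfl)
    exact base_six_notMem h2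

theorem mem_octStab_of_commute {z g : M24} (hz : ⇑(z : Equiv.Perm GolayPt) = wordFun [134])
    (hg : g * z = z * g) : (g : Equiv.Perm GolayPt) ∈ octStab := by
  refine Subgroup.mem_inf.mpr ⟨g.2, ?_⟩
  rw [MulAction.mem_stabilizer_iff]
  refine Finset.eq_of_subset_of_card_le ?_ (le_of_eq (Finset.card_smul_finset _ _).symm)
  intro p hp
  obtain ⟨q, hq, rfl⟩ := Finset.mem_smul_finset.mp hp
  rw [Equiv.Perm.smul_def, zword_moves, ← hz]
  have h1 := congrArg (fun x : M24 => (x : Equiv.Perm GolayPt) q) hg
  simp only [Subgroup.coe_mul, Equiv.Perm.mul_apply] at h1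
  rw [← h1, hz, (zword_moves q).mp hq]

theorem card_octStab : Nat.card octStab = 322560 := by
  have h := Subgroup.index_mul_card (MulAction.stabilizer M24 oct0)
  rw [MulAction.index_stabilizer] at h
  have ho : MulAction.orbit M24 oct0 = octads := by
    ext e
    constructor
    · rintro ⟨g, rfl⟩; exact smul_mem_octads g.2 oct0_mem
    · intro he
      obtain ⟨g, hg, hge⟩ := exists_octad_to_oct0 he
      exact ⟨⟨g⁻¹, inv_mem hg⟩, by rw [← hge]; exact inv_smul_smul g e⟩
  rw [ho, ncard_octads, card_M24] at h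
  have e : Nat.card (MulAction.stabilizer M24 oct0) = 322560 := by omega
  rw [← e]
  exact (Nat.card_congr
    { toFun := fun x => ⟨(x.1 : Equiv.Perm GolayPt), x.1.2, x.2⟩
      invFun := fun x => ⟨⟨x.1, x.2.1⟩, x.2.2⟩
      left_inv := fun _ => rfl
      right_inv := fun _ => rfl }).symm

theorem card_translation_targets :
    ((oct0ᶜ : Finset GolayPt).erase (basePt 6)).card = 15 := by decide +kernel

theorem card_centralizer_ge {z : M24} (hz : ⇑(z : Equiv.Perm GolayPt) = wordFun [134]) :
    21504 ≤ Nat.card (Subgroup.centralizer ({z} : Set M24)) := by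
  classical
  let Y := {y // y ∈ ((oct0ᶜ : Finset GolayPt).erase (basePt 6))}
  have hzc : (z : Equiv.Perm GolayPt) ∈ chainStab M24 6 := by
    obtain ⟨g, hg, e⟩ := exists_wordPerm (trans_fix 6 (by norm_num) _ zword_mem)
    have : (z : Equiv.Perm GolayPt) = g := DFunLike.coe_injective (hz.trans e.symm)
    rw [this]; exact hg
  have hmoved : ∀ g : octStab, ((g : Equiv.Perm GolayPt) * z * (g : Equiv.Perm GolayPt)⁻¹)
      (basePt 6) ∈ (oct0ᶜ : Finset GolayPt).erase (basePt 6) := by
    intro g
    have hc := octStab_conj g.2 hzc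
    have hne : ((g : Equiv.Perm GolayPt) * z * (g : Equiv.Perm GolayPt)⁻¹) (basePt 6) ≠
        basePt 6 := by
      intro h
      rw [Equiv.Perm.mul_apply, Equiv.Perm.mul_apply] at h
      have h2 := congrArg ⇑((g : Equiv.Perm GolayPt)⁻¹) h
      rw [Equiv.Perm.coe_inv, Equiv.symm_apply_apply, hz, ← zword_moves] at h2
      have := (apply_mem_octad_iff g.2.2 _).mpr h2
      rw [Equiv.apply_symm_apply] at this
      exact base_six_notMem this
    refine Finset.mem_erase.mpr ⟨hne, Finset.mem_compl.mpr fun h => hne ?_⟩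
    have := fix_oct0_of_six hc h
    exact ((g : Equiv.Perm GolayPt) * z * (g : Equiv.Perm GolayPt)⁻¹).injective this
  let ψ : octStab → Y := fun g => ⟨_, hmoved g⟩
  have hkey : ∀ g : octStab, (⟨((Function.invFun ψ (ψ g) : octStab) : Equiv.Perm GolayPt)⁻¹ * g,
      mul_mem (inv_mem (Function.invFun ψ (ψ g) : octStab).2.1) g.2.1⟩ : M24) ∈
      Subgroup.centralizer ({z} : Set M24) := by
    intro g
    set r := Function.invFun ψ (ψ g)
    have hr : ψ r = ψ g := Function.invFun_eq ⟨g, rfl⟩
    have hc1 := octStab_conj g.2 hzc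
    have hc2 := octStab_conj r.2 hzc
    have heq : (g : Equiv.Perm GolayPt) * z * (g : Equiv.Perm GolayPt)⁻¹ =
        (r : Equiv.Perm GolayPt) * z * (r : Equiv.Perm GolayPt)⁻¹ := by
      have h7 : ((r : Equiv.Perm GolayPt) * z * (r : Equiv.Perm GolayPt)⁻¹)⁻¹ *
          ((g : Equiv.Perm GolayPt) * z * (g : Equiv.Perm GolayPt)⁻¹) ∈ chainStab M24 7 := by
        refine Subgroup.mem_inf.mpr ⟨mul_mem (inv_mem hc2) hc1, ?_⟩
        rw [MulAction.mem_stabilizer_iff, mul_smul, inv_smul_eq_iff]
        exact (congrArg Subtype.val hr).symm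
      rw [chainStab_seven, Subgroup.mem_bot, inv_mul_eq_one] at h7
      exact h7.symm
    rw [Subgroup.mem_centralizer_singleton_iff]
    refine Subtype.ext ?_
    show (r : Equiv.Perm GolayPt)⁻¹ * g * z = z * ((r : Equiv.Perm GolayPt)⁻¹ * g)
    calc (r : Equiv.Perm GolayPt)⁻¹ * g * z
        = (r : Equiv.Perm GolayPt)⁻¹ *
            ((g : Equiv.Perm GolayPt) * z * (g : Equiv.Perm GolayPt)⁻¹) * g := by group
      _ = z * ((r : Equiv.Perm GolayPt)⁻¹ * g) := by rw [heq]; group
  have hinj : Function.Injective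
      fun g : octStab => ((ψ g, ⟨_, hkey g⟩) : Y × Subgroup.centralizer ({z} : Set M24)) := by
    intro g h e
    have e1 : ψ g = ψ h := congrArg Prod.fst e
    have e2 := congrArg (fun x : Y × Subgroup.centralizer ({z} : Set M24) =>
      ((x.2 : M24) : Equiv.Perm GolayPt)) e
    simp only [e1] at e2
    exact Subtype.ext (mul_left_cancel e2)
  have := Nat.card_le_card_of_injective _ hinj
  rw [card_octStab, Nat.card_prod, show Nat.card Y = 15 by
    rw [Nat.card_eq_finsetCard, card_translation_targets]] at this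
  omega

theorem transvection_commute_shape (M : Matrix (Fin 5) (Fin 5) (ZMod 2))
    (h : M * Matrix.transvection 0 1 1 = Matrix.transvection 0 1 1 * M) :
    (∀ i, i ≠ 0 → M i 0 = 0) ∧ (∀ j, j ≠ 1 → M 1 j = 0) ∧ M 0 0 = M 1 1 := by
  rw [Matrix.transvection, Matrix.mul_add, Matrix.add_mul, Matrix.mul_one, Matrix.one_mul,
    add_right_inj] at h
  refine ⟨fun i hi => ?_, fun j hj => ?_, ?_⟩
  · have := congrFun (congrFun h i) 1
    simpa [hi] using this
  · have := congrFun (congrFun h 0) j
    simpa [hj] using this.symm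
  · simpa using congrFun (congrFun h 0) 1

theorem card_det_three :
    (Finset.univ.filter fun B : Matrix (Fin 3) (Fin 3) (ZMod 2) =>
      B 0 0 * B 1 1 * B 2 2 - B 0 0 * B 1 2 * B 2 1 - B 0 1 * B 1 0 * B 2 2
        + B 0 1 * B 1 2 * B 2 0 + B 0 2 * B 1 0 * B 2 1 - B 0 2 * B 1 1 * B 2 0 ≠ 0).card
      = 168 := by
  decide +kernel

/-- The block of the last three coordinates. -/
def lowBlock (M : Matrix (Fin 5) (Fin 5) (ZMod 2)) : Matrix (Fin 3) (Fin 3) (ZMod 2) :=
  M.submatrix ![2, 3, 4] ![2, 3, 4]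

theorem card_transvection_centralizer_le {s : Matrix.SpecialLinearGroup (Fin 5) (ZMod 2)}
    (hs : (s : Matrix (Fin 5) (Fin 5) (ZMod 2)) = Matrix.transvection 0 1 1) :
    Nat.card (Subgroup.centralizer
      ({s} : Set (Matrix.SpecialLinearGroup (Fin 5) (ZMod 2)))) ≤ 21504 := by
  classical
  let C := Subgroup.centralizer ({s} : Set (Matrix.SpecialLinearGroup (Fin 5) (ZMod 2)))
  let mat : C → Matrix (Fin 5) (Fin 5) (ZMod 2) := fun x => (x.1 : Matrix (Fin 5) (Fin 5) (ZMod 2))
  have shape : ∀ x : C, (∀ i, i ≠ 0 → mat x i 0 = 0) ∧ (∀ j, j ≠ 1 → mat x 1 j = 0) ∧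
      mat x 0 0 = mat x 1 1 := by
    intro x
    refine transvection_commute_shape _ ?_
    have := congrArg (fun y : Matrix.SpecialLinearGroup (Fin 5) (ZMod 2) =>
      (y : Matrix (Fin 5) (Fin 5) (ZMod 2))) (Subgroup.mem_centralizer_singleton_iff.mp x.2)
    simpa [hs] using this
  have diag : ∀ x : C, mat x 0 0 = 1 := by
    intro x
    have hz : ∀ a : ZMod 2, a = 0 ∨ a = 1 := by decide
    rcases hz (mat x 0 0) with h | h
    · exfalso
      have h0 : (mat x).det = 0 := Matrix.det_eq_zero_of_column_eq_zero 0 fun i => by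
        by_cases hi : i = 0
        · subst hi; exact h
        · exact (shape x).1 i hi
      exact zero_ne_one (h0.symm.trans x.1.2)
    · exact h
  have block : ∀ x : C, (lowBlock (mat x)).det ≠ 0 := by
    intro x hdet
    have hmul : lowBlock (mat x) * lowBlock (mat x⁻¹) = 1 := by
      have hone : mat x * mat x⁻¹ = 1 := by
        show ((x.1 * (x⁻¹ : C).1 : Matrix.SpecialLinearGroup (Fin 5) (ZMod 2)) :
          Matrix (Fin 5) (Fin 5) (ZMod 2)) = 1
        simp
      ext i j
      have hij := congrFun (congrFun hone (![2, 3, 4] i)) (![2, 3, 4] j)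
      rw [Matrix.mul_apply, Fin.sum_univ_five] at hij
      rw [Matrix.mul_apply, Fin.sum_univ_three]
      have a1 := (shape x).1 (![2, 3, 4] i) (by fin_cases i <;> decide)
      have a2 := (shape x⁻¹).2.1 (![2, 3, 4] j) (by fin_cases j <;> decide)
      rw [a1, a2] at hij
      fin_cases i <;> fin_cases j <;> simpa [lowBlock, Matrix.one_apply] using hij
    have := congrArg Matrix.det hmul
    rw [Matrix.det_mul, hdet, zero_mul, Matrix.det_one] at this
    exact zero_ne_one this
  let f : C → ((Fin 3 → ZMod 2) × (Fin 3 → ZMod 2) × ZMod 2) ×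
      {B // B ∈ Finset.univ.filter fun B : Matrix (Fin 3) (Fin 3) (ZMod 2) =>
        B 0 0 * B 1 1 * B 2 2 - B 0 0 * B 1 2 * B 2 1 - B 0 1 * B 1 0 * B 2 2
          + B 0 1 * B 1 2 * B 2 0 + B 0 2 * B 1 0 * B 2 1 - B 0 2 * B 1 1 * B 2 0 ≠ 0} :=
    fun x => ((fun i => mat x 0 (![2, 3, 4] i), fun i => mat x (![2, 3, 4] i) 1, mat x 0 1),
      ⟨lowBlock (mat x), Finset.mem_filter.mpr ⟨Finset.mem_univ _, by
        have h := block x
        rwa [Matrix.det_fin_three] at h⟩⟩)
  have hf : Function.Injective f := by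
    intro x y e
    refine Subtype.ext (Subtype.ext ?_)
    show mat x = mat y
    have e1 : ∀ i, mat x 0 (![2, 3, 4] i) = mat y 0 (![2, 3, 4] i) :=
      fun i => congrFun (congrArg (fun z => z.1.1) e) i
    have e2 : ∀ i, mat x (![2, 3, 4] i) 1 = mat y (![2, 3, 4] i) 1 :=
      fun i => congrFun (congrArg (fun z => z.1.2.1) e) i
    have e3 : mat x 0 1 = mat y 0 1 := congrArg (fun z => z.1.2.2) e
    have e4 : ∀ i j, mat x (![2, 3, 4] i) (![2, 3, 4] j) =
        mat y (![2, 3, 4] i) (![2, 3, 4] j) :=
      fun i j => congrFun (congrFun (congrArg (fun z => z.2.1) e) i) j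
    have hx := shape x
    have hy := shape y
    ext i j
    fin_cases i <;> fin_cases j <;>
      first
      | exact e1 0 | exact e1 1 | exact e1 2 | exact e2 0 | exact e2 1 | exact e2 2 | exact e3
      | exact e4 0 0 | exact e4 0 1 | exact e4 0 2 | exact e4 1 0 | exact e4 1 1 | exact e4 1 2
      | exact e4 2 0 | exact e4 2 1 | exact e4 2 2
      | exact (diag x).trans (diag y).symm
      | exact ((hx.2.2.symm.trans (diag x)).trans (diag y).symm).trans hy.2.2
      | exact (hx.1 _ (by decide)).trans (hy.1 _ (by decide)).symm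
      | exact (hx.2.1 _ (by decide)).trans (hy.2.1 _ (by decide)).symm
  have h := Nat.card_le_card_of_injective f hf
  rw [Nat.card_prod, Nat.card_prod, Nat.card_prod, Nat.card_eq_finsetCard, card_det_three,
    Nat.card_pi, Nat.card_zmod] at h
  simpa using h

/-- The centraliser of the involution `[134]` maps onto that of the transvection. -/
theorem exists_iso_transvection_centralizer (s : Matrix.SpecialLinearGroup (Fin 5) (ZMod 2))
    (hs : (s : Matrix (Fin 5) (Fin 5) (ZMod 2)) = Matrix.transvection 0 1 1) :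
    ∃ z : M24, orderOf z = 2 ∧ Nonempty (Subgroup.centralizer ({z} : Set M24) ≃*
      Subgroup.centralizer ({s} : Set (Matrix.SpecialLinearGroup (Fin 5) (ZMod 2)))) := by
  classical
  obtain ⟨z, hz2, hz⟩ := exists_involution_octad
  refine ⟨z, hz2, ?_⟩
  have hst : ∀ g : Subgroup.centralizer ({z} : Set M24),
      ((g : M24) : Equiv.Perm GolayPt) ∈ octStab := fun g =>
    mem_octStab_of_commute hz (Subgroup.mem_centralizer_singleton_iff.mp g.2)
  let m : Subgroup.centralizer ({z} : Set M24) →* Matrix.SpecialLinearGroup (Fin 5) (ZMod 2) :=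
    { toFun := fun g => ⟨affMat _ (hst g), affMat_det _⟩
      map_one' := Subtype.ext affMat_one
      map_mul' := fun g h => Subtype.ext (affMat_mul (hst g) (hst h)) }
  have hm : ∀ g, m g ∈ Subgroup.centralizer
      ({s} : Set (Matrix.SpecialLinearGroup (Fin 5) (ZMod 2))) := by
    intro g
    rw [Subgroup.mem_centralizer_singleton_iff]
    refine Subtype.ext (matrix_eq_of_affVec fun p hp => ?_)
    show Matrix.mulVec (affMat _ (hst g) * (s : Matrix (Fin 5) (Fin 5) (ZMod 2))) _ =
      Matrix.mulVec ((s : Matrix (Fin 5) (Fin 5) (ZMod 2)) * affMat _ (hst g)) _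
    rw [hs, ← Matrix.mulVec_mulVec, ← Matrix.mulVec_mulVec, affMat_mulVec (hst g) hp,
      ← zword_affVec _ (octStab_notMem (hst g) hp), ← zword_affVec p hp]
    have hzp : wordFun [134] p ∉ oct0 := fun h => by
      have h1 := (zword_moves _).mp h
      rw [zword_sq] at h1
      exact hp (h1 ▸ h)
    rw [affMat_mulVec (hst g) hzp, ← hz]
    congr 1
    exact congrArg (fun x : M24 => (x : Equiv.Perm GolayPt) p)
      (Subgroup.mem_centralizer_singleton_iff.mp g.2)
  let f := m.codRestrict _ hm
  have hinj : Function.Injective f := by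
    rw [injective_iff_map_eq_one]
    intro g hg
    have h1 : affMat _ (hst g) = 1 := congrArg
      (fun x : Subgroup.centralizer ({s} : Set (Matrix.SpecialLinearGroup (Fin 5) (ZMod 2))) =>
        ((x : Matrix.SpecialLinearGroup (Fin 5) (ZMod 2)) : Matrix (Fin 5) (Fin 5) (ZMod 2))) hg
    exact Subtype.ext (Subtype.ext (eq_one_of_affMat (hst g) h1))
  have hcard : Nat.card (Subgroup.centralizer ({z} : Set M24)) = Nat.card (Subgroup.centralizer
      ({s} : Set (Matrix.SpecialLinearGroup (Fin 5) (ZMod 2)))) :=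
    le_antisymm (Nat.card_le_card_of_injective f hinj)
      ((card_transvection_centralizer_le hs).trans (card_centralizer_ge hz))
  exact ⟨MulEquiv.ofBijective f ((Nat.bijective_iff_injective_and_card f).mpr ⟨hinj, hcard⟩)⟩

end Cfsg.Agent.Golay
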